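import Cfsg.Agent.ReeLocal.Half

/-!
The tori at the primes dividing `q² - q + 1`.
-/

set_option autoImplicit false
set_option linter.unusedSectionVars false
set_option linter.style.haveILetI false

namespace Cfsg.Agent.ReeLocal

variable {G : Type*} [Group G] {F : Type*} [Field F] [Fintype F]

local notation "q" => Fintype.card F

theorem orderOf_ne_one {x : G} (hx : x ≠ 1) : orderOf x ≠ 1 := fun e => hx (orderOf_eq_one_iff.1 e)

namespace Sys

variable [Finite G] (S : Sys G F)
include S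

theorem exists_pair : ∃ s, Pair S.t s := by
  obtain ⟨T, hT⟩ := S.exists_sylow_t
  haveI := Fintype.ofFinite (T : Subgroup G)
  classical
  by_contra hc
  push Not at hc
  have hsub : ((T : Subgroup G) : Set G) ⊆ {1, S.t} := by
    intro x hx
    by_contra hx'
    simp only [Set.mem_insert_iff, Set.mem_singleton_iff, not_or] at hx'
    exact hc x ⟨S.t_sq, S.t_ne, (S.syl T).2 x hx, hx'.1, Ne.symm hx'.2, S.syl_comm T hT hx⟩
  have h8 := Set.ncard_le_ncard hsub (Set.toFinite _)
  rw [← Nat.card_coe_set_eq, show Nat.card ↥((T : Subgroup G) : Set G) = 8 from (S.syl T).1,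
    Set.ncard_pair (Ne.symm S.t_ne)] at h8
  omega

theorem exists_quarter_tor : ∃ s A, IsQuarter ((q + 1) / 4) S.t s A := by
  obtain ⟨s, hs⟩ := S.exists_pair
  obtain ⟨A, hA⟩ := (S.pair_facts hs).2
  exact ⟨s, A, hA⟩

theorem cent_card_of_tor {A : Subgroup G} (hA : IsTor A) {k : ℕ}
    (hk : ∀ a ∈ A, a ≠ 1 → Nat.card (Subgroup.centralizer ({a} : Set G)) = k) {y : G} (hy1 : y ≠ 1)
    {r : ℕ} (hr : r.Prime) (hyo : orderOf y = r) (hrA : r ∣ Nat.card A) :
    Nat.card (Subgroup.centralizer ({y} : Set G)) = k := by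
  obtain ⟨g, hg⟩ := hA.exists_conj_of_dvd (x := y) (hyo ▸ hrA) (hyo ▸ hr.one_lt.ne')
  rw [← hk _ hg (fun e => hy1 (conj_eq_one_iff.1 e)), cent_conj,
    Subgroup.card_map_of_injective (MulAut.conj g).injective]

theorem prime_of_dvd_card {r : ℕ} (hr : r.Prime) (hd : r ∣ Nat.card G) :
    r = 3 ∨ r = 2 ∨ r ∣ (q - 1) / 2 ∨ r ∣ (q + 1) / 4 ∨ r ∣ q ^ 2 - q + 1 := by
  rw [S.card_eq] at hd
  rcases hr.dvd_mul.1 hd with h | h
  · rcases hr.dvd_mul.1 h with h1 | h1
    · rw [S.cube_eq] at h1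
      exact Or.inl (Nat.prime_eq_prime_of_dvd_pow hr Nat.prime_three h1)
    · rcases hr.dvd_mul.1 h1 with h2 | h2
      · exact Or.inr (Or.inl ((Nat.prime_dvd_prime_iff_eq hr Nat.prime_two).1 h2))
      · exact Or.inr (Or.inr (Or.inl h2))
  · rcases hr.dvd_mul.1 h with h1 | h1
    · rcases hr.dvd_mul.1 h1 with h2 | h2
      · exact Or.inr (Or.inl ((Nat.prime_dvd_prime_iff_eq hr Nat.prime_two).1
          (hr.dvd_of_dvd_pow (show r ∣ 2 ^ 2 from h2))))
      · exact Or.inr (Or.inr (Or.inr (Or.inl h2)))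
    · exact Or.inr (Or.inr (Or.inr (Or.inr h1)))

/-- The centraliser of an element of prime order dividing `q² - q + 1` has order composed of such
primes. -/
theorem big_cent_primes {p : ℕ} (hp : p.Prime) (hd : p ∣ q ^ 2 - q + 1) {x : G} (hx : orderOf x = p)
    {r : ℕ} (hr : r.Prime) (hrC : r ∣ Nat.card (Subgroup.centralizer ({x} : Set G))) :
    r ∣ q ^ 2 - q + 1 := by
  haveI := Fact.mk hr
  obtain ⟨hp2, hp3, hpq, hph, hpa⟩ := (S.prime_facts hp).2.2 hd
  have hnum := S.nums
  obtain ⟨y, hy⟩ := exists_prime_orderOf_dvd_card' r hrC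
  have hyo : orderOf (y : G) = r := by rw [Subgroup.orderOf_coe, hy]
  have hyx : (y : G) * x = x * y := mem_cent.1 y.2
  have hy1 : (y : G) ≠ 1 := fun e => hr.one_lt.ne (by rw [← hyo, e, orderOf_one])
  have hxC : orderOf x ∣ Nat.card (Subgroup.centralizer ({(y : G)} : Set G)) :=
    Subgroup.orderOf_dvd_natCard _ (mem_cent.2 hyx.symm)
  rw [hx] at hxC
  have hm1 : ¬ p ∣ q - 1 := by
    rw [show q - 1 = 2 * ((q - 1) / 2) by omega]
    exact fun h => (hp.dvd_mul.1 h).elim (fun h => hp2 ((Nat.prime_dvd_prime_iff_eq hp Nat.prime_two).1 h)) hph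
  have hp1 : ¬ p ∣ q + 1 := by
    rw [show q + 1 = 4 * ((q + 1) / 4) by omega]
    exact fun h => (hp.dvd_mul.1 h).elim
      (fun h => hp2 ((Nat.prime_dvd_prime_iff_eq hp Nat.prime_two).1 (hp.dvd_of_dvd_pow (show p ∣ 2 ^ 2 from h)))) hpa
  rcases S.prime_of_dvd_card hr (hyo ▸ orderOf_dvd_natCard (y : G)) with rfl | rfl | h | h | h
  · have := S.cent_three (u := (y : G)) (k := 1) (by rw [pow_one, ← hyo, pow_orderOf_eq_one]) hy1 hyx.symm
      (hx ▸ hp.odd_of_ne_two hp2)
    rw [hx] at this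
    exact absurd (Nat.prime_eq_prime_of_dvd_pow hp Nat.prime_three (show p ∣ 3 ^ 2 from this)) (by omega)
  · rw [S.cent_card (by rw [← pow_two, ← hyo, pow_orderOf_eq_one]) hy1] at hxC
    rcases hp.dvd_mul.1 hxC with h | h
    · exact absurd h (fun h => (hp.dvd_mul.1 h).elim hpq hm1)
    · exact absurd h hp1
  · obtain ⟨A, hA, hAc, -, -, hAC⟩ := S.exists_half
    rw [S.cent_card_of_tor hA (fun a ha ha1 => by rw [hAC a ha ha1, S.H_card]) hy1 hr hyo (hAc ▸ h)] at hxC
    exact absurd hxC hm1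
  · obtain ⟨s, A, hA⟩ := S.exists_quarter_tor
    rw [S.cent_card_of_tor (S.quarter_tor hA) (fun a ha ha1 => S.quarter_card_cent hA ha ha1) hy1 hr hyo
      (hA.card ▸ h)] at hxC
    exact absurd hxC hp1
  · exact h

theorem cast_ne_zero {p : ℕ} (hp : p.Prime) (hp3 : 3 < p) : (p : F) ≠ 0 := by
  haveI := S.charP
  intro h
  have := (CharP.cast_eq_zero_iff F 3 p).1 h
  exact absurd ((Nat.prime_dvd_prime_iff_eq Nat.prime_three hp).1 this) (by omega)

theorem big_comm {p : ℕ} (hp : p.Prime) (hd : p ∣ q ^ 2 - q + 1) {x a c : G} (hx : orderOf x = p)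
    (ha : a * x = x * a) (hc : c * x = x * c) : a * c = c * a := by
  haveI := Fact.mk hp
  obtain ⟨-, hp3, -⟩ := (S.prime_facts hp).2.2 hd
  apply S.rep_inj
  rw [map_mul, map_mul]
  refine centralizer_comm hp3 hd (S.cast_ne_zero hp hp3) (x := S.rep x) ?_ ?_ ?_ ?_
  · rw [← map_pow, ← hx, pow_orderOf_eq_one, map_one]
  · intro e
    rw [← map_one S.rep] at e
    rw [S.rep_inj e, orderOf_one] at hx
    exact hp.one_lt.ne hx
  · rw [← map_mul, ← map_mul, ha]
  · rw [← map_mul, ← map_mul, hc]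

/-- The torus at a prime divisor of `q² - q + 1`. -/
theorem exists_big {p : ℕ} (hp : p.Prime) (hd : p ∣ q ^ 2 - q + 1) :
    ∃ (T : Subgroup G) (e : ℕ), IsTor T ∧ p ∣ Nat.card T ∧ Nat.card T ∣ q ^ 2 - q + 1 ∧ e ∣ 6 ∧
      Nat.card (Subgroup.normalizer (T : Set G)) = e * Nat.card T := by
  classical
  haveI := Fact.mk hp
  obtain ⟨hp2, hp3, hpq, hph, hpa⟩ := (S.prime_facts hp).2.2 hd
  have hnum := S.nums
  have hdG : p ∣ Nat.card G := by
    rw [S.card_eq]; exact (hd.mul_left _).mul_left _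
  obtain ⟨x, hx⟩ := exists_prime_orderOf_dvd_card' (G := G) p hdG
  set T := Subgroup.centralizer ({x} : Set G) with hT
  have hxT : x ∈ T := mem_cent.2 rfl
  have hpT : p ∣ Nat.card T := hx ▸ Subgroup.orderOf_dvd_natCard _ hxT
  have hcomm : ∀ a ∈ T, ∀ c ∈ T, a * c = c * a := fun a ha c hc => S.big_comm hp hd hx (mem_cent.1 ha) (mem_cent.1 hc)
  have hprimes : ∀ r : ℕ, r.Prime → r ∣ Nat.card T → r ∣ q ^ 2 - q + 1 := fun r hr h =>
    S.big_cent_primes hp hd hx hr h
  have hodd : Odd (Nat.card T) := by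
    by_contra hev
    rw [Nat.not_odd_iff_even, even_iff_two_dvd] at hev
    exact ((S.prime_facts Nat.prime_two).2.2 (hprimes 2 Nat.prime_two hev)).1 rfl
  have hcent : ∀ y ∈ T, y ≠ 1 → Subgroup.centralizer ({y} : Set G) = T := by
    intro y hy hy1
    refine le_antisymm (fun c hc => ?_) fun c hc => mem_cent.2 (hcomm c hc y hy)
    obtain ⟨r, hr, hry⟩ := Nat.exists_prime_and_dvd (orderOf_ne_one hy1)
    have hrd := hprimes r hr (hry.trans (T.orderOf_dvd_natCard hy))
    have hzo : orderOf (y ^ (orderOf y / r)) = r := orderOf_pow_orderOf_div (orderOf_pos y).ne' hry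
    have hcz : c * y ^ (orderOf y / r) = y ^ (orderOf y / r) * c := ((show Commute c y from mem_cent.1 hc).pow_right _).eq
    have hxz : x * y ^ (orderOf y / r) = y ^ (orderOf y / r) * x :=
      ((show Commute x y from (mem_cent.1 hy).symm).pow_right _).eq
    exact mem_cent.2 (S.big_comm hr hrd hzo hcz hxz)
  have hcopQ : (q ^ 3 * (2 * ((q - 1) / 2)) * (4 * ((q + 1) / 4))).Coprime (q ^ 2 - q + 1) := by
    refine Nat.coprime_of_dvd fun k hk h1 h2 => ?_
    obtain ⟨hk2, hk3, hkq, hkh, hka⟩ := (S.prime_facts hk).2.2 h2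
    simp only [hk.dvd_mul] at h1
    rcases h1 with (h | h | h) | h | h
    · exact hkq (hk.dvd_of_dvd_pow h)
    · exact hk2 ((Nat.prime_dvd_prime_iff_eq hk Nat.prime_two).1 h)
    · exact hkh h
    · exact hk2 ((Nat.prime_dvd_prime_iff_eq hk Nat.prime_two).1 (hk.dvd_of_dvd_pow (show k ∣ 2 ^ 2 from h)))
    · exact hka h
  have hTQ : Nat.card T ∣ q ^ 2 - q + 1 := by
    have hG := T.card_subgroup_dvd_card
    rw [S.card_eq, ← mul_assoc] at hG
    refine Nat.Coprime.dvd_of_dvd_mul_left ?_ hG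
    refine Nat.coprime_of_dvd fun k hk h1 h2 => ?_
    exact hk.one_lt.ne' (Nat.dvd_one.1 (hcopQ ▸ Nat.dvd_gcd h2 (hprimes k hk h1)))
  haveI hTg : IsMulCommutative T := ⟨⟨fun a b => Subtype.ext (hcomm a a.2 b b.2)⟩⟩
  haveI hcyc : IsCyclic T := by
    letI : CommGroup T := { (inferInstance : Group T) with mul_comm := fun a b => Subtype.ext (hcomm a a.2 b b.2) }
    haveI : Group.IsNilpotent T := CommGroup.isNilpotent
    haveI : IsZGroup T := ⟨fun r hr P => by
      haveI := Fact.mk hr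
      by_cases hrT : r ∣ Nat.card T
      · obtain ⟨-, hr3, -⟩ := (S.prime_facts hr).2.2 (hprimes r hr hrT)
        have hP := P.isPGroup'.map (S.rep.comp T.subtype)
        have := ReeG2.isCyclic_of_isPGroup_GL_seven hr3 (hprimes r hr hrT) hP
        have hinj : Function.Injective (S.rep.comp T.subtype) := S.rep_inj.comp T.subtype_injective
        exact isCyclic_of_surjective ((P : Subgroup T).equivMapOfInjective _ hinj).symm.toMonoidHom
          ((P : Subgroup T).equivMapOfInjective _ hinj).symm.surjective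
      · have h1 : (P : Subgroup T) = ⊥ := Subgroup.card_eq_one.1 (by
          rw [P.card_eq_multiplicity, Nat.factorization_eq_zero_of_not_dvd hrT, pow_zero])
        rw [h1]; infer_instance⟩
    infer_instance
  have htor : IsTor T := by
    refine ⟨hcyc, hodd, fun a ha ha1 b hb hb1 => by rw [hcent a ha ha1, hcent b hb hb1],
      fun a ha ha1 g hg _ => by rw [← hcent a ha ha1]; exact mem_cent.2 hg, ?_⟩
    intro r hr hrT hri
    haveI := Fact.mk hr
    have hrd := hprimes r hr hrT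
    obtain ⟨hr2, hr3, -⟩ := (S.prime_facts hr).2.2 hrd
    obtain ⟨z, hz⟩ := exists_prime_orderOf_dvd_card' r hrT
    have hzo : orderOf (z : G) = r := by rw [Subgroup.orderOf_coe, hz]
    obtain ⟨P, hP⟩ := (IsPGroup.of_card (n := 1) (by rw [Nat.card_zpowers, hzo, pow_one]) :
      IsPGroup r (Subgroup.zpowers (z : G))).exists_le_sylow
    have hinj := (P : Subgroup G).equivMapOfInjective S.rep S.rep_inj
    haveI : IsCyclic ((P : Subgroup G).map S.rep) := ReeG2.isCyclic_of_isPGroup_GL_seven hr3 hrd (P.isPGroup'.map S.rep)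
    haveI : IsCyclic (P : Subgroup G) := isCyclic_of_surjective hinj.symm.toMonoidHom hinj.symm.surjective
    letI := (IsCyclic.commGroup : CommGroup (P : Subgroup G))
    have hPT : (P : Subgroup G) ≤ T := fun w hw => by
      rw [← hcent z z.2 (fun e => hr.one_lt.ne (by rw [← hzo, e, orderOf_one]))]
      exact mem_cent.2 (congrArg Subtype.val
        (mul_comm (⟨w, hw⟩ : (P : Subgroup G)) ⟨z, hP (Subgroup.mem_zpowers _)⟩))
    exact P.not_dvd_index (hri.trans (Subgroup.index_dvd_of_le hPT))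
  -- the automizer
  set N := Subgroup.normalizer (T : Set G) with hN
  set X := Subgroup.zpowers x with hX
  have hXT : X ≤ T := Subgroup.zpowers_le.2 hxT
  have hNX : ∀ g ∈ N, X.map (MulAut.conj g).toMonoidHom = X := fun g hg => by
    haveI := hcyc
    refine IsTor.eq_of_card_eq ?_ hXT (Subgroup.card_map_of_injective (MulAut.conj g).injective)
    rintro _ ⟨y, hy, rfl⟩
    exact (Subgroup.mem_normalizer_iff.1 hg y).1 (hXT hy)
  have hNn : N ≤ Subgroup.normalizer (X : Set G) := fun g hg => Subgroup.mem_normalizer_iff.2 fun y => by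
    constructor
    · intro hy
      have : g * y * g⁻¹ ∈ X.map (MulAut.conj g).toMonoidHom := ⟨y, hy, rfl⟩
      rwa [hNX g hg] at this
    · intro hy
      rw [← hNX g hg] at hy
      obtain ⟨z, hz, e⟩ := hy
      exact (MulAut.conj g).injective e ▸ hz
  let φ : N →* MulAut X :=
    (X.normalizerMonoidHom).comp (Subgroup.inclusion hNn)
  have hker : φ.ker = T.subgroupOf N := by
    ext g
    rw [MonoidHom.mem_ker, Subgroup.mem_subgroupOf]
    constructor
    · intro h
      have := congrArg (fun f : MulAut X => ((f ⟨x, Subgroup.mem_zpowers x⟩ : X) : G)) h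
      exact mem_cent.2 (mul_inv_eq_iff_eq_mul.1 this)
    · intro hg
      refine MulEquiv.ext fun y => Subtype.ext ?_
      show (g : G) * y * (g : G)⁻¹ = y
      rw [hcomm _ hg _ (hXT y.2), mul_inv_cancel_right]
  have hTN : T ≤ N := Subgroup.le_normalizer
  refine ⟨T, Nat.card φ.range, htor, hpT, hTQ, ?_, ?_⟩
  · haveI : IsCyclic (MulAut X) := by
      have hXc : Nat.card X = p := by rw [hX, Nat.card_zpowers, hx]
      haveI : IsCyclic (ZMod (Nat.card X))ˣ := by rw [hXc]; exact ZMod.isCyclic_units_prime hp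
      exact isCyclic_of_surjective (IsCyclic.mulAutMulEquiv X).symm.toMonoidHom
        (IsCyclic.mulAutMulEquiv X).symm.surjective
    haveI : IsCyclic φ.range := inferInstance
    obtain ⟨γ, hγ⟩ := IsCyclic.exists_ofOrder_eq_natCard (α := φ.range)
    rw [← hγ]
    refine orderOf_dvd_of_pow_eq_one (Subtype.ext ?_)
    obtain ⟨g, hg⟩ := γ.2
    rw [SubmonoidClass.coe_pow, Subgroup.coe_one, ← hg, ← map_pow, ← MonoidHom.mem_ker, hker,
      Subgroup.mem_subgroupOf, SubmonoidClass.coe_pow]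
    have hxg : (g : G) * x * (g : G)⁻¹ ∈ X := (Subgroup.mem_normalizer_iff.1 (hNn g.2) x).1 (Subgroup.mem_zpowers x)
    obtain ⟨k, hk⟩ := (IsOfFinOrder.mem_powers_iff_mem_zpowers (isOfFinOrder_of_finite x)).2 hxg
    refine mem_cent.2 (S.rep_inj ?_)
    rw [map_mul, map_mul, map_pow]
    refine pow_six_comm hp3 hd (S.cast_ne_zero hp hp3) ?_ ?_ (k := k) ?_
    · rw [← map_pow, ← hx, pow_orderOf_eq_one, map_one]
    · intro e
      rw [← map_one S.rep] at e
      rw [S.rep_inj e, orderOf_one] at hx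
      exact hp.one_lt.ne hx
    · rw [← map_inv, ← map_mul, ← map_mul, ← map_pow]
      exact congrArg _ hk.symm
  · rw [Subgroup.card_eq_card_quotient_mul_card_subgroup φ.ker,
      Nat.card_congr (QuotientGroup.quotientKerEquivRange φ).toEquiv, hker,
      Nat.card_congr (Subgroup.subgroupOfEquivOfLe hTN).toEquiv]

end Sys

end Cfsg.Agent.ReeLocal
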