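import Cfsg.Agent.ReeLocal.Count

/-!
The two tori of orders `q ± r + 1`.
-/

set_option autoImplicit false
set_option linter.unusedSectionVars false
set_option linter.style.haveILetI false

namespace Cfsg.Agent.ReeLocal

variable {G : Type*} [Group G] {F : Type*} [Field F] [Fintype F]

local notation "q" => Fintype.card F

theorem bound_arith {Γ c e τ k : ℕ} (h : c * (e * (τ + 5)) = Γ * (τ + 4)) (he : e ≤ k) :
    4 * Γ ≤ 5 * k * c := by
  have h1 : c * (e * (τ + 5)) ≤ c * (k * (τ + 5)) := Nat.mul_le_mul_left c (Nat.mul_le_mul_right (τ + 5) he)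
  have h2 : 4 * Γ * (τ + 5) ≤ 5 * k * c * (τ + 5) := by nlinarith
  exact Nat.le_of_mul_le_mul_right h2 (by omega)

namespace IsTor

variable [Finite G] {A B : Subgroup G}

/-- Tori sharing one prime share every prime. -/
theorem prime_dvd_of_common (hA : IsTor A) (hB : IsTor B) {r p : ℕ} (hr : r.Prime) (hp : p.Prime)
    (hrA : r ∣ Nat.card A) (hrB : r ∣ Nat.card B) (hpB : p ∣ Nat.card B) : p ∣ Nat.card A := by
  haveI := Fact.mk hr
  haveI := Fact.mk hp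
  obtain ⟨z, hz⟩ := exists_prime_orderOf_dvd_card' r hrB
  obtain ⟨w, hw⟩ := exists_prime_orderOf_dvd_card' p hpB
  have hzo : orderOf (z : G) = r := by rw [Subgroup.orderOf_coe, hz]
  have hwo : orderOf (w : G) = p := by rw [Subgroup.orderOf_coe, hw]
  obtain ⟨g, hg⟩ := hA.exists_conj_of_dvd (x := (z : G)) (hzo ▸ hrA) (hzo ▸ hr.one_lt.ne')
  have hg1 : g * (z : G) * g⁻¹ ≠ 1 := fun e => hr.one_lt.ne (by rw [← hzo, conj_eq_one_iff.1 e, orderOf_one])
  have := hA.mem _ hg hg1 (g * (w : G) * g⁻¹) (conj_mem_cent (hB.comm w.2 z.2))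
    (by rw [orderOf_conj]; exact hB.odd_orderOf w.2)
  rw [← hwo, ← orderOf_conj g (w : G)]
  exact A.orderOf_dvd_natCard this

theorem coprime_of_not_dvd (hA : IsTor A) (hB : IsTor B) {p : ℕ} (hp : p.Prime)
    (hpB : p ∣ Nat.card B) (hpA : ¬ p ∣ Nat.card A) : (Nat.card A).Coprime (Nat.card B) :=
  Nat.coprime_of_dvd fun _ hr ha hb => hpA (hA.prime_dvd_of_common hB hr hp ha hb hpB)

end IsTor

namespace Sys

variable [Finite G] (S : Sys G F)
include S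

theorem big_tor_count {T : Subgroup G} (hT : IsTor T) {e : ℕ}
    (hN : Nat.card (Subgroup.normalizer (T : Set G)) = e * Nat.card T) :
    Nat.card {x : G // x ≠ 1 ∧ orderOf x ∣ Nat.card T} * (e * Nat.card T) = Nat.card G * (Nat.card T - 1) := by
  have h := (Subgroup.normalizer (T : Set G)).index_mul_card
  rw [hN] at h
  rw [hT.card_dvd_ne_one, ← h]
  ring

set_option maxHeartbeats 1000000 in
/-- The two classes. -/
theorem two_classes : ∃ T₁ T₂ : Subgroup G, IsTor T₁ ∧ IsTor T₂ ∧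
    Nat.card T₁ = q - 3 ^ (S.m + 1) + 1 ∧ Nat.card T₂ = q + 3 ^ (S.m + 1) + 1 ∧
    Nat.card T₁ * Nat.card T₂ = q ^ 2 - q + 1 ∧
    Nat.card (Subgroup.normalizer (T₁ : Set G)) = 6 * Nat.card T₁ ∧
    Nat.card (Subgroup.normalizer (T₂ : Set G)) = 6 * Nat.card T₂ ∧
    ∀ x : G, orderOf x ∣ q ^ 2 - q + 1 → orderOf x ∣ Nat.card T₁ ∨ orderOf x ∣ Nat.card T₂ := by
  classical
  have hnum := S.nums
  have hqq : q ≤ q ^ 2 := Nat.le_self_pow two_ne_zero _
  have hQ2 : 2 ≤ q ^ 2 - q + 1 := by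
    have : q * 2 ≤ q ^ 2 := by rw [pow_two]; exact Nat.mul_le_mul_left _ (by omega)
    omega
  set N := Nat.card {x : G // x ≠ 1 ∧ orderOf x ∣ q ^ 2 - q + 1} with hNdef
  set Γ := Nat.card G with hΓdef
  have hGpos : 0 < Γ := Nat.card_pos
  have hbig : 3 * N = q ^ 4 * (q - 2) * ((q + 1) * (q - 1)) := S.big_count
  have hG : Γ = q ^ 3 * ((q + 1) * (q - 1)) * (q ^ 2 - q + 1) := by
    rw [hΓdef, S.cardG, S.cube_add]; ring
  have hlt : 3 * N < Γ := by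
    rw [hbig, hG, show q ^ 4 * (q - 2) * ((q + 1) * (q - 1)) = q ^ 3 * ((q + 1) * (q - 1)) * (q * (q - 2)) by ring]
    refine Nat.mul_lt_mul_of_pos_left ?_ (Nat.mul_pos (pow_pos (by omega) 3) (Nat.mul_pos (by omega) (by omega)))
    have : q * (q - 2) = q ^ 2 - 2 * q := by rw [Nat.mul_sub, pow_two, mul_comm q 2]
    omega
  -- a general bound
  have hbound : ∀ (T : Subgroup G) (e p : ℕ), IsTor T → p.Prime → p ∣ q ^ 2 - q + 1 → p ∣ Nat.card T → e ∣ 6 →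
      Nat.card (Subgroup.normalizer (T : Set G)) = e * Nat.card T →
      2 * Γ ≤ 15 * Nat.card {x : G // x ≠ 1 ∧ orderOf x ∣ Nat.card T} ∧
        (e ≠ 6 → 4 * Γ ≤ 15 * Nat.card {x : G // x ≠ 1 ∧ orderOf x ∣ Nat.card T}) := by
    intro T e p hT hp hpQ hpT he hN
    have h := S.big_tor_count hT hN
    rw [← hΓdef] at h
    obtain ⟨hp2, hp3, -⟩ := (S.prime_facts hp).2.2 hpQ
    have hp5 : 5 ≤ p := by
      rcases Nat.lt_or_ge p 5 with h5 | h5
      · interval_cases p; norm_num at hp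
      · exact h5
    have hT5 : 5 ≤ Nat.card T := hp5.trans (Nat.le_of_dvd Nat.card_pos hpT)
    obtain ⟨τ, hτ⟩ : ∃ τ, Nat.card T = τ + 5 := ⟨Nat.card T - 5, by omega⟩
    rw [hτ, show τ + 5 - 1 = τ + 4 by omega] at h
    rw [hτ]
    set c := Nat.card {x : G // x ≠ 1 ∧ orderOf x ∣ τ + 5}
    have he6 : e ≤ 6 := Nat.le_of_dvd (by norm_num) he
    refine ⟨?_, fun hne => ?_⟩
    · have := bound_arith h he6
      omega
    · have he3 : e ≤ 3 := by
        by_contra h3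
        interval_cases e <;> first | omega | norm_num at he
      have := bound_arith h he3
      omega
  have hmono : ∀ T : Subgroup G, Nat.card T ∣ q ^ 2 - q + 1 →
      ∀ x : G, x ≠ 1 ∧ orderOf x ∣ Nat.card T → x ≠ 1 ∧ orderOf x ∣ q ^ 2 - q + 1 := fun T hT x hx =>
    ⟨hx.1, hx.2.trans hT⟩
  have hdis : ∀ (A B : Subgroup G), (Nat.card A).Coprime (Nat.card B) →
      ∀ x : G, (x ≠ 1 ∧ orderOf x ∣ Nat.card A) → ¬ (x ≠ 1 ∧ orderOf x ∣ Nat.card B) := fun A B h x ha hb =>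
    orderOf_ne_one ha.1 (Nat.eq_one_of_dvd_coprimes h ha.2 hb.2)
  -- dividing the full prime power
  have hfull : ∀ (T : Subgroup G) (r k : ℕ), IsTor T → r.Prime → r ^ k ∣ q ^ 2 - q + 1 → r ∣ Nat.card T →
      r ^ k ∣ Nat.card T := by
    intro T r k hT hr hd hrT
    have hG' : r ^ k ∣ T.index * Nat.card T := by
      rw [T.index_mul_card, ← hΓdef, hG]; exact hd.mul_left _
    exact (Nat.Coprime.pow_left k ((hr.coprime_iff_not_dvd).2 (hT.hall r hr hrT))).dvd_of_dvd_mul_left hG'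
  obtain ⟨p₁, hp₁, hd₁⟩ := Nat.exists_prime_and_dvd (show q ^ 2 - q + 1 ≠ 1 by omega)
  obtain ⟨T₁, e₁, hT₁, hp₁T, hT₁Q, he₁, hN₁⟩ := S.exists_big hp₁ hd₁
  -- a second class
  obtain ⟨p₂, hp₂, hd₂, hp₂T⟩ : ∃ p, p.Prime ∧ p ∣ q ^ 2 - q + 1 ∧ ¬ p ∣ Nat.card T₁ := by
    by_contra hc
    push Not at hc
    have hQT : q ^ 2 - q + 1 ∣ Nat.card T₁ := by
      refine (Nat.dvd_iff_prime_pow_dvd_dvd _ _).2 fun r k hr hrk => ?_
      rcases Nat.eq_zero_or_pos k with rfl | hk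
      · simp
      · exact hfull T₁ r k hT₁ hr hrk (hc r hr ((dvd_pow_self r hk.ne').trans hrk))
    have heq : Nat.card T₁ = q ^ 2 - q + 1 := Nat.dvd_antisymm hT₁Q hQT
    have h := S.big_tor_count hT₁ hN₁
    rw [heq, ← hNdef, ← hΓdef] at h
    obtain ⟨s, hs⟩ : ∃ s, q = s + 2 := ⟨q - 2, by omega⟩
    have h1 : 3 * N * (e₁ * (q ^ 2 - q + 1)) = 3 * (Γ * (q ^ 2 - q + 1 - 1)) := by rw [← h]; ring
    rw [hbig, hG, Nat.add_sub_cancel] at h1
    have h2 : e₁ * (q * (q - 2)) = 3 * (q ^ 2 - q) := by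
      have hpos : 0 < q ^ 3 * ((q + 1) * (q - 1)) * (q ^ 2 - q + 1) :=
        Nat.mul_pos (Nat.mul_pos (pow_pos (by omega) 3) (Nat.mul_pos (by omega) (by omega))) (by omega)
      refine Nat.eq_of_mul_eq_mul_left hpos (Eq.trans ?_ (h1.trans (by ring)))
      ring
    have h3 : q ^ 2 - q = q * (q - 1) := by rw [Nat.mul_sub, mul_one, pow_two]
    rw [h3, show e₁ * (q * (q - 2)) = q * (e₁ * (q - 2)) by ring, show 3 * (q * (q - 1)) = q * (3 * (q - 1)) by ring] at h2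
    have h4 := Nat.eq_of_mul_eq_mul_left (by omega) h2
    have he6 : e₁ ≤ 6 := Nat.le_of_dvd (by norm_num) he₁
    interval_cases e₁ <;> omega
  obtain ⟨T₂, e₂, hT₂, hp₂T₂, hT₂Q, he₂, hN₂⟩ := S.exists_big hp₂ hd₂
  have hcop := hT₁.coprime_of_not_dvd hT₂ hp₂ hp₂T₂ hp₂T
  -- no third class
  have hcover : ∀ p : ℕ, p.Prime → p ∣ q ^ 2 - q + 1 → p ∣ Nat.card T₁ ∨ p ∣ Nat.card T₂ := by
    intro p hp hpd
    by_contra hc
    push Not at hc
    obtain ⟨T₃, e₃, hT₃, hpT₃, hT₃Q, he₃, hN₃⟩ := S.exists_big hp hpd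
    have hc13 := hT₁.coprime_of_not_dvd hT₃ hp hpT₃ hc.1
    have hc23 := hT₂.coprime_of_not_dvd hT₃ hp hpT₃ hc.2
    have hle : Nat.card {x : G // (x ≠ 1 ∧ orderOf x ∣ Nat.card T₁ ∨ x ≠ 1 ∧ orderOf x ∣ Nat.card T₂) ∨
        x ≠ 1 ∧ orderOf x ∣ Nat.card T₃} ≤ N :=
      Nat.card_le_card_of_injective (fun x => ⟨x.1, by
        rcases x.2 with (h | h) | h
        · exact hmono T₁ hT₁Q _ h
        · exact hmono T₂ hT₂Q _ h
        · exact hmono T₃ hT₃Q _ h⟩) fun a b h => Subtype.ext (by simpa using h)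
    rw [card_or _ _ (fun x h h' => h.elim (fun h => hdis T₁ T₃ hc13 x h h') fun h => hdis T₂ T₃ hc23 x h h'),
      card_or _ _ (hdis T₁ T₂ hcop)] at hle
    have b1 := (hbound T₁ e₁ p₁ hT₁ hp₁ hd₁ hp₁T he₁ hN₁).1
    have b2 := (hbound T₂ e₂ p₂ hT₂ hp₂ hd₂ hp₂T₂ he₂ hN₂).1
    have b3 := (hbound T₃ e₃ p hT₃ hp hpd hpT₃ he₃ hN₃).1
    omega
  have hsplit : ∀ x : G, orderOf x ∣ q ^ 2 - q + 1 → orderOf x ∣ Nat.card T₁ ∨ orderOf x ∣ Nat.card T₂ := by
    intro x hx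
    by_cases h1 : orderOf x = 1
    · exact Or.inl (by rw [h1]; exact one_dvd _)
    obtain ⟨r, hr, hrx⟩ := Nat.exists_prime_and_dvd h1
    have ho : Odd (orderOf x) := Odd.of_dvd_nat S.odd_big hx
    rcases hcover r hr (hrx.trans hx) with h | h
    · exact Or.inl (hT₁.orderOf_dvd_card hr hrx h ho)
    · exact Or.inr (hT₂.orderOf_dvd_card hr hrx h ho)
  have hN12 : N = Nat.card {x : G // x ≠ 1 ∧ orderOf x ∣ Nat.card T₁} +
      Nat.card {x : G // x ≠ 1 ∧ orderOf x ∣ Nat.card T₂} := by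
    rw [← card_or _ _ (hdis T₁ T₂ hcop)]
    refine Nat.card_congr (Equiv.subtypeEquivRight fun x => ?_)
    constructor
    · rintro ⟨hx, hd⟩
      rcases hsplit x hd with h | h
      · exact Or.inl ⟨hx, h⟩
      · exact Or.inr ⟨hx, h⟩
    · rintro (h | h)
      · exact hmono T₁ hT₁Q x h
      · exact hmono T₂ hT₂Q x h
  obtain ⟨b1, b1'⟩ := hbound T₁ e₁ p₁ hT₁ hp₁ hd₁ hp₁T he₁ hN₁
  obtain ⟨b2, b2'⟩ := hbound T₂ e₂ p₂ hT₂ hp₂ hd₂ hp₂T₂ he₂ hN₂
  have he₁6 : e₁ = 6 := by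
    by_contra h
    have := b1' h
    omega
  have he₂6 : e₂ = 6 := by
    by_contra h
    have := b2' h
    omega
  subst he₁6 he₂6
  have hprod : Nat.card T₁ * Nat.card T₂ = q ^ 2 - q + 1 := by
    refine Nat.dvd_antisymm (hcop.mul_dvd_of_dvd_of_dvd hT₁Q hT₂Q) ((Nat.dvd_iff_prime_pow_dvd_dvd _ _).2 ?_)
    intro r k hr hrk
    rcases Nat.eq_zero_or_pos k with rfl | hk
    · simp
    · rcases hcover r hr ((dvd_pow_self r hk.ne').trans hrk) with h | h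
      · exact (hfull T₁ r k hT₁ hr hrk h).trans (Dvd.intro _ rfl)
      · exact (hfull T₂ r k hT₂ hr hrk h).trans (Dvd.intro_left _ rfl)
  have hc1 := S.big_tor_count hT₁ hN₁
  have hc2 := S.big_tor_count hT₂ hN₂
  rw [← hΓdef] at hc1 hc2
  set a := Nat.card T₁
  set b := Nat.card T₂
  have ha : 1 ≤ a := Nat.card_pos
  have hb : 1 ≤ b := Nat.card_pos
  -- the sum
  have hsum : a + b = 2 * (q + 1) := by
    have e0 : 6 * N * (a * b) = Γ * (a - 1) * b + Γ * (b - 1) * a := by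
      rw [hN12, ← hc1, ← hc2]; ring
    rw [show 6 * N = 2 * (3 * N) by ring, hbig, hG, ← hprod] at e0
    have hpos : 0 < q ^ 3 * ((q + 1) * (q - 1)) * (a * b) :=
      Nat.mul_pos (Nat.mul_pos (pow_pos (by omega) 3) (Nat.mul_pos (by omega) (by omega))) (Nat.mul_pos ha hb)
    have e1 : 2 * (q * (q - 2)) = (a - 1) * b + (b - 1) * a :=
      Nat.eq_of_mul_eq_mul_left hpos (Eq.trans (by ring) (e0.trans (by ring)))
    have e2 := hprod
    zify [hqq, show 2 ≤ q by omega, ha, hb] at e1 e2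
    have : (a : ℤ) + b = 2 * ((q : ℤ) + 1) := by linear_combination e1 + 2 * e2
    exact_mod_cast this
  have hr : (3 ^ (S.m + 1)) ^ 2 = 3 * q := by rw [S.cardF, ← pow_mul, ← pow_succ']; ring_nf
  have hrq : 3 ^ (S.m + 1) ≤ q := by
    rw [S.cardF]; exact Nat.pow_le_pow_right (by norm_num) (by have := S.one_le; omega)
  have hsq : ((a : ℤ) - ((q : ℤ) + 1)) ^ 2 = ((3 : ℤ) ^ (S.m + 1)) ^ 2 := by
    have e2 := hprod
    have e3 := hr
    zify [hqq] at e2 e3 hsum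
    linear_combination (a : ℤ) * hsum - e2 - e3
  rcases sq_eq_sq_iff_eq_or_eq_neg.1 hsq with h | h
  · have h1 : a = q + 3 ^ (S.m + 1) + 1 := by zify; linarith
    exact ⟨T₂, T₁, hT₂, hT₁, by omega, h1, by rw [mul_comm]; exact hprod, hN₂, hN₁, fun x hx => (hsplit x hx).symm⟩
  · have h1 : a = q - 3 ^ (S.m + 1) + 1 := by zify [hrq]; linarith
    exact ⟨T₁, T₂, hT₁, hT₂, h1, by omega, hprod, hN₁, hN₂, hsplit⟩

end Sys

end Cfsg.Agent.ReeLocal
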