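import Cfsg.Agent.ReeLocal.Pairs

/-!
Counting: there are exactly two classes of tori at the primes dividing `q² - q + 1`.
-/

set_option autoImplicit false
set_option linter.unusedSectionVars false
set_option linter.style.haveILetI false

namespace Cfsg.Agent.ReeLocal

variable {G : Type*} [Group G] {F : Type*} [Field F] [Fintype F]

local notation "q" => Fintype.card F

namespace Sys

variable [Finite G] (S : Sys G F)
include S

theorem q_odd : Odd q := Nat.odd_iff.2 (by have := S.nums; omega)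

theorem odd_of_dvd {d : ℕ} (h : d ∣ 9 ∨ d ∣ (q - 1) / 2 ∨ d ∣ (q + 1) / 4 ∨ d ∣ q ^ 2 - q + 1) : Odd d := by
  rcases h with h | h | h | h
  · exact Odd.of_dvd_nat (by decide) h
  · exact Odd.of_dvd_nat S.odd_half h
  · exact Odd.of_dvd_nat S.odd_quarter h
  · exact Odd.of_dvd_nat S.odd_big h

/-- No element centralising an involution has order sharing a prime with `q² - q + 1`. -/
theorem big_not_cent {x : G} (hx : x * S.t = S.t * x) (hd : orderOf x ∣ q ^ 2 - q + 1) : x = 1 := by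
  by_contra hx1
  obtain ⟨r, hr, hrx⟩ := Nat.exists_prime_and_dvd (orderOf_ne_one hx1)
  have ho : orderOf (x ^ (orderOf x / r)) = r := orderOf_pow_orderOf_div (orderOf_pos x).ne' hrx
  have h2 := S.big_cent_primes hr (hrx.trans hd) ho Nat.prime_two (by
    rw [← orderOf_eq_prime (show S.t ^ 2 = 1 by rw [pow_two, S.t_sq]) S.t_ne]
    exact Subgroup.orderOf_dvd_natCard _ (mem_cent.2 ((show Commute x S.t from hx).pow_left _).symm.eq))
  exact ((S.prime_facts Nat.prime_two).2.2 h2).1 rfl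

theorem card_ne_one_dvd_split :
    Nat.card {x : G // Odd (orderOf x)} =
      1 + Nat.card {x : G // x ≠ 1 ∧ orderOf x ∣ 9} + Nat.card {x : G // x ≠ 1 ∧ orderOf x ∣ (q - 1) / 2} +
        Nat.card {x : G // x ≠ 1 ∧ orderOf x ∣ (q + 1) / 4} +
        Nat.card {x : G // x ≠ 1 ∧ orderOf x ∣ q ^ 2 - q + 1} := by
  obtain ⟨c1, c2, c3, c4, c5, c6⟩ := S.coprime_parts
  have dis : ∀ {a b : ℕ}, a.Coprime b → ∀ x : G, x ≠ 1 → orderOf x ∣ a → orderOf x ∣ b → False :=
    fun hc x hx ha hb => orderOf_ne_one hx (Nat.eq_one_of_dvd_coprimes hc ha hb)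
  have e : Nat.card {x : G // Odd (orderOf x)} =
      Nat.card {x : G // (((x = 1 ∨ (x ≠ 1 ∧ orderOf x ∣ 9)) ∨ (x ≠ 1 ∧ orderOf x ∣ (q - 1) / 2)) ∨
        (x ≠ 1 ∧ orderOf x ∣ (q + 1) / 4)) ∨ (x ≠ 1 ∧ orderOf x ∣ q ^ 2 - q + 1)} := by
    refine Nat.card_congr (Equiv.subtypeEquivRight fun x => ?_)
    constructor
    · intro ho
      by_cases hx : x = 1
      · tauto
      · have := S.odd_cases ho
        tauto
    · rintro ((((rfl | h) | h) | h) | h)
      · simp
      · exact S.odd_of_dvd (Or.inl h.2)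
      · exact S.odd_of_dvd (Or.inr (Or.inl h.2))
      · exact S.odd_of_dvd (Or.inr (Or.inr (Or.inl h.2)))
      · exact S.odd_of_dvd (Or.inr (Or.inr (Or.inr h.2)))
  rw [e, card_or, card_or, card_or, card_or, Nat.card_unique]
  · rintro x rfl h; exact h.1 rfl
  · rintro x (rfl | h) h'
    · exact h'.1 rfl
    · exact dis c1 x h.1 h.2 h'.2
  · rintro x ((rfl | h) | h) h'
    · exact h'.1 rfl
    · exact dis c2 x h.1 h.2 h'.2
    · exact dis c4 x h.1 h.2 h'.2
  · rintro x (((rfl | h) | h) | h) h'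
    · exact h'.1 rfl
    · exact dis c3 x h.1 h.2 h'.2
    · exact dis c5 x h.1 h.2 h'.2
    · exact dis c6 x h.1 h.2 h'.2

theorem card_even :
    Nat.card {x : G // Even (orderOf x)} =
      Nat.card {v : G // orderOf v = 2} * q ^ 2 + Nat.card {x : G // x ≠ 1 ∧ orderOf x ∣ (q - 1) / 2} +
        3 * Nat.card {x : G // x ≠ 1 ∧ orderOf x ∣ (q + 1) / 4} := by
  classical
  obtain ⟨c1, c2, c3, c4, c5, c6⟩ := S.coprime_parts
  have h0 : Nat.card {x : G // Even (orderOf x)} = Nat.card {p : G × G //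
      orderOf p.1 = 2 ∧ Odd (orderOf p.2) ∧ p.2 * p.1 = p.1 * p.2 ∧ (fun _ => True) (orderOf p.2)} := by
    rw [← S.even_equiv (fun _ => True)]
    exact Nat.card_congr (Equiv.subtypeEquivRight fun x => by simp)
  have h1 := S.pairs_left (fun _ => True)
  have h2 : Nat.card {h : G // Odd (orderOf h) ∧ h * S.t = S.t * h ∧ (fun _ => True) (orderOf h)} =
      q ^ 2 + Nat.card {h : G // Odd (orderOf h) ∧ h * S.t = S.t * h ∧ (fun d => d ≠ 1 ∧ d ∣ (q - 1) / 2) (orderOf h)} +
        Nat.card {h : G // Odd (orderOf h) ∧ h * S.t = S.t * h ∧ (fun d => d ≠ 1 ∧ d ∣ (q + 1) / 4) (orderOf h)} := by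
    rw [← S.card_cent_nine, ← card_or _ _ ?_, ← card_or _ _ ?_]
    · refine Nat.card_congr (Equiv.subtypeEquivRight fun h => ?_)
      constructor
      · rintro ⟨ho, hc, -⟩
        rcases S.odd_cases ho with d | d | d | d
        · exact Or.inl (Or.inl ⟨ho, hc, d⟩)
        · by_cases h1 : orderOf h = 1
          · exact Or.inl (Or.inl ⟨ho, hc, by rw [h1]; exact one_dvd _⟩)
          · exact Or.inl (Or.inr ⟨ho, hc, h1, d⟩)
        · by_cases h1 : orderOf h = 1
          · exact Or.inl (Or.inl ⟨ho, hc, by rw [h1]; exact one_dvd _⟩)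
          · exact Or.inr ⟨ho, hc, h1, d⟩
        · exact Or.inl (Or.inl ⟨ho, hc, by rw [S.big_not_cent hc d, orderOf_one]; exact one_dvd _⟩)
      · rintro ((h' | h') | h') <;> exact ⟨h'.1, h'.2.1, trivial⟩
    · rintro h (⟨-, -, d⟩ | ⟨-, -, h1, d⟩) ⟨-, -, h1', d'⟩
      · exact h1' (Nat.eq_one_of_dvd_coprimes c2 d d')
      · exact h1 (Nat.eq_one_of_dvd_coprimes c4 d d')
    · rintro h ⟨-, -, d⟩ ⟨-, -, h1', d'⟩
      exact h1' (Nat.eq_one_of_dvd_coprimes c1 d d')
  have hP : ∀ (n k : ℕ), Odd n →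
      (∀ h : G, orderOf h ∣ n → h ≠ 1 → Nat.card {v : G // orderOf v = 2 ∧ h * v = v * h} = k) →
      Nat.card {v : G // orderOf v = 2} *
        Nat.card {h : G // Odd (orderOf h) ∧ h * S.t = S.t * h ∧ (fun d => d ≠ 1 ∧ d ∣ n) (orderOf h)} =
      k * Nat.card {x : G // x ≠ 1 ∧ orderOf x ∣ n} := by
    intro n k hn hk
    rw [← S.pairs_left (fun d => d ≠ 1 ∧ d ∣ n), S.pairs_right (fun d => d ≠ 1 ∧ d ∣ n) k
      (fun h _ hh => hk h hh.2 (fun e => hh.1 (by rw [e, orderOf_one])))]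
    congr 1
    refine Nat.card_congr (Equiv.subtypeEquivRight fun h => ?_)
    constructor
    · rintro ⟨-, h1, h2⟩; exact ⟨fun e => h1 (by rw [e, orderOf_one]), h2⟩
    · rintro ⟨h1, h2⟩; exact ⟨Odd.of_dvd_nat hn h2, orderOf_ne_one h1, h2⟩
  rw [h0, h1, h2, Nat.mul_add, Nat.mul_add, hP _ 1 S.odd_half (fun h hd h1 => S.inv_count_half hd h1),
    hP _ 3 S.odd_quarter (fun h hd h1 => S.inv_count_quarter hd h1), one_mul]

theorem half_count :
    4 * Nat.card {x : G // x ≠ 1 ∧ orderOf x ∣ (q - 1) / 2} = q ^ 3 * (q + 1) * (q ^ 2 - q + 1) * (q - 3) := by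
  obtain ⟨A, hA, hAc, -, hN, -⟩ := S.exists_half
  have hnum := S.nums
  have h := (Subgroup.normalizer (A : Set G)).index_mul_card
  rw [hN, S.cardG, S.cube_add] at h
  have h' : (Subgroup.normalizer (A : Set G)).index * 2 = q ^ 3 * (q + 1) * (q ^ 2 - q + 1) :=
    Nat.eq_of_mul_eq_mul_right (show 0 < q - 1 by omega) (by rw [mul_assoc, h]; ring)
  rw [← hAc, hA.card_dvd_ne_one, ← h', hAc, show q - 3 = 2 * ((q - 1) / 2 - 1) by omega]
  ring

theorem quarter_count :
    24 * Nat.card {x : G // x ≠ 1 ∧ orderOf x ∣ (q + 1) / 4} = q ^ 3 * (q - 1) * (q ^ 2 - q + 1) * (q - 3) := by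
  obtain ⟨s, A, hA⟩ := S.exists_quarter_tor
  have hnum := S.nums
  have hN : Nat.card (Subgroup.normalizer (A : Set G)) = 6 * (q + 1) := by
    rw [S.quarter_normalizer_eq hA, S.card_normalizer_four hA.pair]
  have h := (Subgroup.normalizer (A : Set G)).index_mul_card
  rw [hN, S.cardG, S.cube_add] at h
  have h' : (Subgroup.normalizer (A : Set G)).index * 6 = q ^ 3 * (q - 1) * (q ^ 2 - q + 1) :=
    Nat.eq_of_mul_eq_mul_right (show 0 < q + 1 by omega) (by rw [mul_assoc, h]; ring)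
  rw [← hA.card, (S.quarter_tor hA).card_dvd_ne_one, ← h', hA.card,
    show q - 3 = 4 * ((q + 1) / 4 - 1) by omega]
  ring

/-- The number of elements of order dividing `q² - q + 1`. -/
theorem big_count :
    3 * Nat.card {x : G // x ≠ 1 ∧ orderOf x ∣ q ^ 2 - q + 1} = q ^ 4 * (q - 2) * ((q + 1) * (q - 1)) := by
  classical
  have hall : Nat.card G = Nat.card {x : G // Odd (orderOf x)} + Nat.card {x : G // Even (orderOf x)} := by
    rw [← card_or _ _ (fun x ho he => Nat.not_even_iff_odd.2 ho he)]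
    exact (Nat.card_congr (Equiv.subtypeUnivEquiv fun x => (Nat.even_or_odd (orderOf x)).symm)).symm
  rw [S.card_ne_one_dvd_split, S.card_even, S.card_nine_dvd, S.card_inv, S.cardG, S.cube_add] at hall
  have hA := S.half_count
  have hB := S.quarter_count
  have hnum := S.nums
  have hqq : q ≤ q ^ 2 := Nat.le_self_pow two_ne_zero _
  have h3 : 1 ≤ q ^ 3 := Nat.one_le_pow _ _ (by omega)
  zify [hqq, h3, show 1 ≤ q by omega, show 2 ≤ q by omega, show 3 ≤ q by omega] at hall hA hB ⊢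
  refine mul_left_cancel₀ (two_ne_zero (α := ℤ)) ?_
  linear_combination (-6 : ℤ) * hall - 3 * hA - hB

end Sys

end Cfsg.Agent.ReeLocal
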