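import Cfsg.Agent.ReeLocal.Quarter

/-!
The split tori of order `(q - 1)/2`.
-/

set_option autoImplicit false
set_option linter.unusedSectionVars false
set_option linter.style.haveILetI false

namespace Cfsg.Agent.ReeLocal

variable {G : Type*} [Group G] {F : Type*} [Field F] [Fintype F]

local notation "q" => Fintype.card F

namespace Sys

variable [Finite G] (S : Sys G F)
include S

theorem H_comm {x y : G} (hx : x ∈ S.H) (hy : y ∈ S.H) : x * y = y * x := by
  haveI := S.H_cyclic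
  letI := (IsCyclic.commGroup : CommGroup S.H)
  exact congrArg Subtype.val (mul_comm (⟨x, hx⟩ : S.H) ⟨y, hy⟩)

theorem H_inv {x : G} (hx : x ∈ S.H) (h2 : x * x = 1) : x = 1 ∨ x = S.t := by
  classical
  haveI := S.H_cyclic
  haveI := Fintype.ofFinite S.H
  by_contra hc
  push Not at hc
  obtain ⟨h1, ht⟩ := hc
  have hsub : ({1, ⟨x, hx⟩, ⟨S.t, S.t_mem⟩} : Finset S.H) ⊆ Finset.univ.filter (fun a => a ^ 2 = 1) := by
    intro a ha
    simp only [Finset.mem_insert, Finset.mem_singleton] at ha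
    simp only [Finset.mem_filter, Finset.mem_univ, true_and]
    rcases ha with rfl | rfl | rfl
    · exact one_pow 2
    · exact Subtype.ext (by simpa [pow_two] using h2)
    · exact Subtype.ext (by simpa [pow_two] using S.t_sq)
  have h3 : ({1, ⟨x, hx⟩, ⟨S.t, S.t_mem⟩} : Finset S.H).card = 3 := by
    rw [Finset.card_insert_of_notMem, Finset.card_insert_of_notMem, Finset.card_singleton] <;>
      simp [Subtype.ext_iff, Ne.symm h1, Ne.symm S.t_ne, ht]
  have := (Finset.card_le_card hsub).trans (IsCyclic.card_pow_eq_one_le (α := S.H) two_pos)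
  omega

theorem n_inv_norm {h : G} (hh : h ∈ S.H) : S.n⁻¹ * h * S.n ∈ S.H := by
  obtain ⟨k, hk⟩ : ∃ k : ℕ, S.n⁻¹ = S.n ^ k :=
    ⟨orderOf S.n - 1, by
      rw [inv_eq_iff_mul_eq_one, ← pow_succ', Nat.sub_add_cancel (orderOf_pos S.n), pow_orderOf_eq_one]⟩
  have : ∀ i : ℕ, S.n ^ i * h * (S.n ^ i)⁻¹ ∈ S.H := by
    intro i
    induction i with
    | zero => simpa using hh
    | succ i ih =>
      have := S.n_norm _ ih
      rw [pow_succ' S.n, _root_.mul_inv_rev]
      simpa [mul_assoc] using this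
  have h' := this k
  rw [← hk, inv_inv] at h'
  exact h'

/-- The decomposition of `N(U)`. -/
theorem N_decomp {x : G} (hx : x ∈ Subgroup.normalizer (S.U : Set G)) : ∃ u ∈ S.U, ∃ h ∈ S.H, u * h = x := by
  classical
  set N := Subgroup.normalizer (S.U : Set G)
  let f : S.U × S.H → N := fun p =>
    ⟨(p.1 : G) * p.2, mul_mem (Subgroup.le_normalizer p.1.2) (S.H_le p.2.2)⟩
  have hinj : Function.Injective f := by
    rintro ⟨u, h⟩ ⟨u', h'⟩ e
    have e' : (u : G) * h = u' * h' := congrArg Subtype.val e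
    have h1 : (u' : G)⁻¹ * u = h' * (h : G)⁻¹ := by
      calc (u' : G)⁻¹ * u = (u' : G)⁻¹ * (u * h) * (h : G)⁻¹ := by simp [mul_assoc]
        _ = h' * (h : G)⁻¹ := by rw [e']; simp [mul_assoc]
    have hu : (u' : G)⁻¹ * u ∈ S.U := mul_mem (inv_mem u'.2) u.2
    have hh : (u' : G)⁻¹ * u ∈ S.H := h1 ▸ mul_mem h'.2 (inv_mem h.2)
    have hcop : (q ^ 3).Coprime (q - 1) := by
      rw [S.cube_eq]
      have := S.nums
      exact Nat.Coprime.pow_left _ ((Nat.Prime.coprime_iff_not_dvd Nat.prime_three).2 (by omega))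
    have ho : orderOf ((u' : G)⁻¹ * u) = 1 :=
      Nat.eq_one_of_dvd_coprimes hcop (S.U_card ▸ S.U.orderOf_dvd_natCard hu)
        (S.H_card ▸ S.H.orderOf_dvd_natCard hh)
    rw [orderOf_eq_one_iff] at ho
    have hu' : u = u' := Subtype.ext (inv_mul_eq_one.1 ho).symm
    subst hu'
    exact Prod.ext rfl (Subtype.ext (mul_left_cancel e'))
  have hbij : Function.Bijective f := (Nat.bijective_iff_injective_and_card f).2 ⟨hinj, by
    rw [Nat.card_prod, S.U_card, S.H_card]; exact S.N_card.symm⟩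
  obtain ⟨⟨u, h⟩, e⟩ := hbij.2 ⟨x, hx⟩
  exact ⟨u, u.2, h, h.2, congrArg Subtype.val e⟩

theorem N_cent {a : G} (ha : a ∈ S.H) (ha1 : a ≠ 1) (ho : Odd (orderOf a)) {x : G}
    (hx : x ∈ Subgroup.normalizer (S.U : Set G)) (hc : x * a = a * x) : x ∈ S.H := by
  obtain ⟨u, hu, h, hh, rfl⟩ := S.N_decomp hx
  have hua : a * u = u * a := by
    have e : u * h * a = a * u * h := by rw [hc, mul_assoc]
    rw [mul_assoc u h a, S.H_comm hh ha, ← mul_assoc] at e
    exact (mul_right_cancel e).symm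
  rw [S.H_fpf a ha ha1 ho u hu hua, one_mul]
  exact hh

/-- The other conjugates of `U` form one regular orbit. -/
theorem coset_cases {g : G} (hg : g ∉ Subgroup.normalizer (S.U : Set G)) :
    ∃ u ∈ S.U, (u * S.n)⁻¹ * g ∈ Subgroup.normalizer (S.U : Set G) := by
  classical
  set N := Subgroup.normalizer (S.U : Set G)
  let f : S.U → {c : G ⧸ N // c ≠ QuotientGroup.mk 1} := fun u =>
    ⟨QuotientGroup.mk ((u : G) * S.n), fun e => S.n_not (by
      rw [QuotientGroup.eq, mul_one, _root_.mul_inv_rev] at e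
      have := inv_mem e
      rw [_root_.mul_inv_rev, inv_inv, inv_inv] at this
      have h2 := mul_mem (inv_mem (Subgroup.le_normalizer u.2)) this
      rwa [inv_mul_cancel_left] at h2)⟩
  have hinj : Function.Injective f := by
    intro u u' e
    have e' := congrArg Subtype.val e
    simp only [f, QuotientGroup.eq] at e'
    have h1 : S.n⁻¹ * ((u : G)⁻¹ * u') * S.n ∈ N := by simpa [mul_assoc] using e'
    have := S.U_regular (mul_mem (inv_mem u.2) u'.2) S.n_not h1
    exact Subtype.ext (inv_mul_eq_one.1 this)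
  have hbij : Function.Bijective f := (Nat.bijective_iff_injective_and_card f).2 ⟨hinj, by
    have h1 : N.index = q ^ 3 + 1 := S.index_N
    haveI := Fintype.ofFinite (G ⧸ N)
    rw [Subgroup.index_eq_card, Nat.card_eq_fintype_card] at h1
    rw [S.U_card, Nat.card_eq_fintype_card, Fintype.card_subtype_compl, Fintype.card_subtype_eq, h1,
      Nat.add_sub_cancel]⟩
  obtain ⟨u, hu⟩ := hbij.2 ⟨QuotientGroup.mk g, fun e => hg (by
    rw [QuotientGroup.eq, mul_one] at e
    exact inv_inv g ▸ inv_mem e)⟩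
  exact ⟨u, u.2, QuotientGroup.eq.1 (congrArg Subtype.val hu)⟩

/-- An element of `H` of odd order fixes two conjugates of `U`. -/
theorem fixed_two {a : G} (ha : a ∈ S.H) (ha1 : a ≠ 1) (ho : Odd (orderOf a)) {g : G}
    (h : g⁻¹ * a * g ∈ Subgroup.normalizer (S.U : Set G)) :
    g ∈ Subgroup.normalizer (S.U : Set G) ∨ S.n⁻¹ * g ∈ Subgroup.normalizer (S.U : Set G) := by
  by_cases hg : g ∈ Subgroup.normalizer (S.U : Set G)
  · exact Or.inl hg
  right
  obtain ⟨u, hu, hb⟩ := S.coset_cases hg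
  have hN := mul_mem (mul_mem hb h) (inv_mem hb)
  have h1 : (u * S.n)⁻¹ * a * (u * S.n) ∈ Subgroup.normalizer (S.U : Set G) := by
    simpa [mul_assoc] using hN
  have h2 : S.n⁻¹ * a * S.n ∈ Subgroup.normalizer (S.U : Set G) := S.H_le (S.n_inv_norm ha)
  have h3 : S.n⁻¹ * (a⁻¹ * u⁻¹ * a * u) * S.n ∈ Subgroup.normalizer (S.U : Set G) := by
    simpa [mul_assoc] using mul_mem (inv_mem h2) h1
  have hw : a⁻¹ * u⁻¹ * a * u ∈ S.U := by
    refine mul_mem ?_ hu
    have := (Subgroup.mem_normalizer_iff.1 (inv_mem (S.H_le ha)) _).1 (inv_mem hu)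
    simpa using this
  have h4 := S.U_regular hw S.n_not h3
  have hau : a * u = u * a := by
    calc a * u = u * a * (a⁻¹ * u⁻¹ * a * u) := by simp [mul_assoc]
      _ = u * a := by rw [h4, mul_one]
  have hu1 := S.H_fpf a ha ha1 ho u hu hau
  rwa [hu1, one_mul] at hb

/-- The centraliser of an element of `H` of odd order. -/
theorem half_cent {a : G} (ha : a ∈ S.H) (ha1 : a ≠ 1) (ho : Odd (orderOf a)) :
    Subgroup.centralizer ({a} : Set G) = S.H := by
  classical
  set N := Subgroup.normalizer (S.U : Set G)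
  refine le_antisymm ?_ fun x hx => mem_cent.2 (S.H_comm hx ha)
  intro c hc
  have hca : c * a = a * c := mem_cent.1 hc
  by_contra hcH
  have hfix : ∀ y, y * a = a * y → y ∈ S.H ∨ S.n⁻¹ * y ∈ N := by
    intro y hy
    rcases S.fixed_two ha ha1 ho (g := y) (by rw [mul_assoc, ← hy, inv_mul_cancel_left]; exact S.H_le ha) with h | h
    · exact Or.inl (S.N_cent ha ha1 ho h hy)
    · exact Or.inr h
  have hcN : S.n⁻¹ * c ∈ N := (hfix c hca).resolve_left hcH
  have hcomb : ∀ y, y * a = a * y → y ∉ S.H → c⁻¹ * y ∈ S.H := by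
    intro y hy hyH
    refine S.N_cent ha ha1 ho ?_ ((show Commute c a from hca).inv_left.mul_left hy).eq
    have := mul_mem (inv_mem hcN) ((hfix y hy).resolve_left hyH)
    simpa [mul_assoc] using this
  have hc2 : c * c ∈ S.H := by
    by_contra h
    have h' := hcomb _ ((show Commute c a from hca).mul_left hca).eq h
    rw [inv_mul_cancel_left] at h'
    exact hcH h'
  have hconj : ∀ h ∈ S.H, c * h * c⁻¹ ∈ S.H := by
    intro h hh
    by_contra hn
    have hha : h * a = a * h := S.H_comm hh ha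
    have h' := hcomb _ (((show Commute c a from hca).mul_left hha).mul_left (show Commute c a from hca).inv_left).eq hn
    rw [← mul_assoc, inv_mul_cancel_left] at h'
    have h2 := mul_mem (inv_mem hh) h'
    rw [inv_mul_cancel_left] at h2
    exact hcH (inv_inv c ▸ inv_mem h2)
  have hct : c * S.t = S.t * c := by
    have h1 := hconj _ S.t_mem
    have h2 : c * S.t * c⁻¹ * (c * S.t * c⁻¹) = 1 := by
      rw [show c * S.t * c⁻¹ * (c * S.t * c⁻¹) = c * (S.t * S.t) * c⁻¹ by simp [mul_assoc], S.t_sq, mul_one,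
        mul_inv_cancel]
    rcases S.H_inv h1 h2 with h | h
    · exact absurd (conj_eq_one_iff.1 h) S.t_ne
    · exact mul_inv_eq_iff_eq_mul.1 h
  rcases Nat.even_or_odd (orderOf c) with ⟨k, hk⟩ | ⟨k, hk⟩
  · have hkodd : Odd k := by
      rcases Nat.even_or_odd k with ⟨j, rfl⟩ | h
      · exact absurd ⟨j, by omega⟩ (S.not_four_dvd c)
      · exact h
    obtain ⟨j, rfl⟩ := hkodd
    set s := c ^ (2 * j + 1) with hs
    have hss : s * s = 1 := by rw [hs, ← pow_add, ← hk, pow_orderOf_eq_one]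
    have hsH : s ∉ S.H := by
      intro h
      rw [hs, pow_succ, pow_mul, pow_two] at h
      have := mul_mem (inv_mem (pow_mem hc2 j)) h
      rw [inv_mul_cancel_left] at this
      exact hcH this
    have hp : Pair S.t s := ⟨S.t_sq, S.t_ne, hss, fun e => hsH (e ▸ one_mem _),
      fun e => hsH (e ▸ S.t_mem), ((show Commute c S.t from hct).pow_left _).symm.eq⟩
    obtain ⟨A, hA⟩ := (S.pair_facts hp).2
    have haA : a ∈ A := S.quarter_mem hA ⟨mem_cent.2 (S.H_comm ha S.t_mem),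
      mem_cent.2 ((show Commute c a from hca).pow_left _).symm.eq⟩ ho
    have hd1 : orderOf a ∣ (q + 1) / 4 := hA.card ▸ A.orderOf_dvd_natCard haA
    obtain ⟨p, hpp, hpd⟩ := Nat.exists_prime_and_dvd (fun e => ha1 (orderOf_eq_one_iff.1 e))
    have hd2 : p ∣ q - 1 := hpd.trans (S.H_card ▸ S.H.orderOf_dvd_natCard ha)
    obtain ⟨hp2, -, -, hph, -⟩ := (S.prime_facts hpp).2.1 (hpd.trans hd1)
    have : p ∣ 2 * ((q - 1) / 2) := by
      have := S.nums
      rwa [show 2 * ((q - 1) / 2) = q - 1 by omega]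
    rcases hpp.dvd_mul.1 this with h | h
    · exact hp2 ((Nat.prime_dvd_prime_iff_eq hpp Nat.prime_two).1 h)
    · exact hph h
  · apply hcH
    have h1 := pow_mem hc2 (k + 1)
    rw [← pow_two, ← pow_mul, show 2 * (k + 1) = (2 * k + 1) + 1 by ring, pow_succ, ← hk, pow_orderOf_eq_one,
      one_mul] at h1
    exact h1

theorem exists_half : ∃ A : Subgroup G, IsTor A ∧ Nat.card A = (q - 1) / 2 ∧
    (∀ x, x ∈ A ↔ x ∈ S.H ∧ Odd (orderOf x)) ∧
    Nat.card (Subgroup.normalizer (A : Set G)) = 2 * (q - 1) ∧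
    ∀ a ∈ A, a ≠ 1 → Subgroup.centralizer ({a} : Set G) = S.H := by
  classical
  haveI := S.H_cyclic
  obtain ⟨g0, hg0⟩ := IsCyclic.exists_ofOrder_eq_natCard (α := S.H)
  rw [S.H_card] at hg0
  have hgo : orderOf (g0 : G) = q - 1 := by rw [Subgroup.orderOf_coe, hg0]
  have hnum := S.nums
  set A : Subgroup G := Subgroup.zpowers ((g0 : G) ^ 2) with hAdef
  have hcard : Nat.card A = (q - 1) / 2 := by
    rw [hAdef, Nat.card_zpowers, orderOf_pow, hgo, Nat.gcd_eq_right (by omega)]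
  have hle : A ≤ S.H := Subgroup.zpowers_le.2 (pow_mem g0.2 2)
  have hmem : ∀ x, x ∈ A ↔ x ∈ S.H ∧ Odd (orderOf x) := by
    intro x
    refine ⟨fun hx => ⟨hle hx, Odd.of_dvd_nat (hcard ▸ S.odd_half) (A.orderOf_dvd_natCard hx)⟩, ?_⟩
    rintro ⟨hx, ⟨k, hk⟩⟩
    have hx' : (⟨x, hx⟩ : S.H) ∈ Subgroup.zpowers g0 := by
      rw [Subgroup.eq_top_of_card_eq (Subgroup.zpowers g0) (by rw [Nat.card_zpowers, hg0, S.H_card])]
      trivial
    obtain ⟨i, hi⟩ := Subgroup.mem_zpowers_iff.1 hx'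
    have e : (g0 : G) ^ i = x := by rw [← SubgroupClass.coe_zpow, hi]
    have h1 : x = (((g0 : G) ^ 2) ^ i) ^ (k + 1) := by
      rw [← zpow_natCast (g0 : G) 2, ← _root_.zpow_mul, mul_comm ((2 : ℕ) : ℤ), _root_.zpow_mul, e,
        zpow_natCast, ← pow_mul, show 2 * (k + 1) = (2 * k + 1) + 1 by ring, pow_succ, ← hk,
        pow_orderOf_eq_one, one_mul]
    rw [h1]
    exact pow_mem (Subgroup.zpow_mem _ (Subgroup.mem_zpowers _) i) _
  have hcentA : ∀ a ∈ A, a ≠ 1 → Subgroup.centralizer ({a} : Set G) = S.H := fun a ha ha1 =>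
    S.half_cent (hle ha) ha1 ((hmem a).1 ha).2
  have htor : IsTor A := by
    refine ⟨inferInstance, hcard ▸ S.odd_half, fun a ha ha1 b hb hb1 => by rw [hcentA a ha ha1, hcentA b hb hb1],
      fun a ha ha1 g hg ho => ?_, ?_⟩
    · refine (hmem g).2 ⟨?_, ho⟩
      rw [← hcentA a ha ha1]
      exact mem_cent.2 hg
    · intro p hp hd hi
      rw [hcard] at hd
      obtain ⟨hp2, hp3, hpq, hpa, hpQ⟩ := (S.prime_facts hp).1 hd
      have h := A.index_mul_card
      rw [hcard, S.card_eq] at h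
      have h' : A.index = q ^ 3 * 2 * (4 * ((q + 1) / 4) * (q ^ 2 - q + 1)) :=
        Nat.eq_of_mul_eq_mul_right (show 0 < (q - 1) / 2 by omega) (h.trans (by ring))
      rw [h'] at hi
      have h4 : ¬ p ∣ 4 := fun h => hp2 ((Nat.prime_dvd_prime_iff_eq hp Nat.prime_two).1
        (hp.dvd_of_dvd_pow (show p ∣ 2 ^ 2 from h)))
      simp only [hp.dvd_mul] at hi
      rcases hi with (h1 | h1) | ((h1 | h1) | h1)
      · exact hpq (hp.dvd_of_dvd_pow h1)
      · exact hp2 ((Nat.prime_dvd_prime_iff_eq hp Nat.prime_two).1 h1)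
      · exact h4 h1
      · exact hpa h1
      · exact hpQ h1
  refine ⟨A, htor, hcard, hmem, ?_, hcentA⟩
  set N := Subgroup.normalizer (A : Set G)
  have hHN : S.H ≤ N := fun h hh => Subgroup.mem_normalizer_iff.2 fun x => by
    refine ⟨fun hx => ?_, fun hx => ?_⟩
    · rwa [S.H_comm hh (hle hx), mul_inv_cancel_right]
    · rw [show x = h⁻¹ * (h * x * h⁻¹) * h by simp [mul_assoc], S.H_comm (inv_mem hh) (hle hx),
        inv_mul_cancel_right]
      exact hx
  have hnA : ∀ x ∈ A, S.n * x * S.n⁻¹ ∈ A := fun x hx =>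
    (hmem _).2 ⟨S.n_norm x (hle hx), by rw [orderOf_conj]; exact ((hmem x).1 hx).2⟩
  have hnN : S.n ∈ N := by
    refine Subgroup.mem_normalizer_iff.2 fun x => ⟨hnA x, fun hx => ?_⟩
    refine (hmem x).2 ⟨?_, ?_⟩
    · have := S.n_inv_norm (hle hx)
      simpa [mul_assoc] using this
    · rw [← orderOf_conj S.n]; exact ((hmem _).1 hx).2
  obtain ⟨a, ha, ha1⟩ := A.bot_or_exists_ne_one.resolve_left fun h => by
    rw [h, Subgroup.card_bot] at hcard; omega
  have haH := hle ha
  have hao := ((hmem a).1 ha).2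
  have hNU : ∀ x ∈ N, x ∈ Subgroup.normalizer (S.U : Set G) → x ∈ S.H := by
    intro x hx hxU
    obtain ⟨u, hu, h, hh, rfl⟩ := S.N_decomp hxU
    have huN : u ∈ N := by simpa using mul_mem hx (inv_mem (hHN hh))
    have h1 := (Subgroup.mem_normalizer_iff.1 huN a).1 ha
    have h2 : u * a * u⁻¹ * a⁻¹ ∈ S.U := by
      rw [show u * a * u⁻¹ * a⁻¹ = u * (a * u⁻¹ * a⁻¹) by simp [mul_assoc]]
      exact mul_mem hu ((Subgroup.mem_normalizer_iff.1 (S.H_le haH) _).1 (inv_mem hu))
    have h3 : u * a * u⁻¹ * a⁻¹ = 1 := by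
      refine orderOf_eq_one_iff.1 (Nat.eq_one_of_dvd_coprimes ?_ (S.orderOf_dvd_nine h2)
        (hcard ▸ A.orderOf_dvd_natCard (mul_mem h1 (inv_mem ha))))
      rw [show (9 : ℕ) = 3 ^ 2 by norm_num]
      exact Nat.Coprime.pow_left 2 ((Nat.Prime.coprime_iff_not_dvd Nat.prime_three).2 (by omega))
    rw [mul_inv_eq_one, mul_inv_eq_iff_eq_mul] at h3
    rw [S.H_fpf a haH ha1 hao u hu h3.symm, one_mul]
    exact hh
  let f : Fin 2 × S.H → N := fun p =>
    if p.1 = 0 then ⟨p.2, hHN p.2.2⟩ else ⟨S.n * p.2, mul_mem hnN (hHN p.2.2)⟩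
  have hf : Function.Bijective f := by
    constructor
    · rintro ⟨i, h⟩ ⟨j, h'⟩ e
      fin_cases i <;> fin_cases j <;> simp [f] at e
      · rw [e]
      · exact absurd (show S.n ∈ Subgroup.normalizer (S.U : Set G) by
          rw [show S.n = (h : G) * (h' : G)⁻¹ by rw [e]; simp]
          exact mul_mem (S.H_le h.2) (inv_mem (S.H_le h'.2))) S.n_not
      · exact absurd (show S.n ∈ Subgroup.normalizer (S.U : Set G) by
          rw [show S.n = (h' : G) * (h : G)⁻¹ by rw [← e]; simp]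
          exact mul_mem (S.H_le h'.2) (inv_mem (S.H_le h.2))) S.n_not
      · rw [e]
    · rintro ⟨x, hx⟩
      have h1 : x⁻¹ * a * x ∈ A := by
        have := (Subgroup.mem_normalizer_iff.1 (inv_mem hx) a).1 ha
        rwa [inv_inv] at this
      rcases S.fixed_two haH ha1 hao (S.H_le (hle h1)) with h | h
      · exact ⟨(0, ⟨x, hNU x hx h⟩), by simp [f]⟩
      · exact ⟨(1, ⟨_, hNU _ (mul_mem (inv_mem hnN) hx) h⟩), by simp [f]⟩
  rw [← Nat.card_congr (Equiv.ofBijective f hf), Nat.card_prod, Nat.card_fin, S.H_card]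

end Sys

end Cfsg.Agent.ReeLocal
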