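import Cfsg.Agent.ReeLocal.Setting

/-!
Sylow 2-subgroups and involutions.
-/

set_option autoImplicit false
set_option linter.unusedSectionVars false
set_option linter.style.haveILetI false

namespace Cfsg.Agent.ReeLocal

open Matrix PSLTwo25
open scoped MatrixGroups

variable {G : Type*} [Group G] {F : Type*} [Field F] [Fintype F]

local notation "q" => Fintype.card F
local notation "L" => Matrix.ProjectiveSpecialLinearGroup (Fin 2) F

theorem cent_conj (g a : G) : Subgroup.centralizer ({g * a * g⁻¹} : Set G) =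
    (Subgroup.centralizer ({a} : Set G)).map (MulAut.conj g).toMonoidHom := by
  apply SetLike.ext
  intro x
  constructor
  · intro hx
    refine ⟨g⁻¹ * x * g, mem_cent.2 ?_, by simp [mul_assoc]⟩
    have h := mem_cent.1 hx
    calc g⁻¹ * x * g * a = g⁻¹ * (x * (g * a * g⁻¹)) * g := by simp [mul_assoc]
      _ = g⁻¹ * (g * a * g⁻¹ * x) * g := by rw [h]
      _ = a * (g⁻¹ * x * g) := by simp [mul_assoc]
  · rintro ⟨y, hy, rfl⟩
    exact mem_cent.2 (conj_mem_cent (mem_cent.1 hy))

theorem card_conjugates [Finite G] (N : Subgroup G) (a : G) :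
    Nat.card {y : G // ∃ n ∈ N, n * a * n⁻¹ = y} * Nat.card ↥(N ⊓ Subgroup.centralizer ({a} : Set G)) =
      Nat.card N := by
  classical
  letI : MulAction N G := MulAction.compHom G ((MulAut.conj : G →* MulAut G).comp N.subtype)
  have hsmul : ∀ (n : N) (y : G), n • y = (n : G) * y * (n : G)⁻¹ := fun n y => rfl
  rw [← (MulAction.stabilizer N a).index_mul_card, MulAction.index_stabilizer,
    ← Nat.card_coe_set_eq]
  congr 1
  · refine Nat.card_congr (Equiv.setCongr ?_)
    ext y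
    simp only [MulAction.mem_orbit_iff, hsmul, Subtype.exists, exists_prop]
    exact Iff.rfl
  · refine Eq.trans ?_ (Nat.card_congr ((MulAction.stabilizer N a).equivMapOfInjective _ N.subtype_injective).toEquiv).symm
    refine congrArg (fun K : Subgroup G => Nat.card K) ?_
    ext x
    rw [Subgroup.mem_inf, mem_cent]
    constructor
    · rintro ⟨hx, hc⟩
      exact ⟨⟨x, hx⟩, by rw [SetLike.mem_coe, MulAction.mem_stabilizer_iff, hsmul, hc, mul_inv_cancel_right], rfl⟩
    · rintro ⟨y, hy, rfl⟩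
      rw [SetLike.mem_coe, MulAction.mem_stabilizer_iff, hsmul, mul_inv_eq_iff_eq_mul] at hy
      exact ⟨y.2, hy⟩

namespace Sys

variable [Finite G] (S : Sys G F)
include S

theorem two_power_sq {x : G} {k : ℕ} (h : x ^ 2 ^ k = 1) : x * x = 1 := by
  haveI : Fact (Nat.Prime 2) := ⟨Nat.prime_two⟩
  obtain ⟨i, -, hi⟩ := (Nat.dvd_prime_pow Nat.prime_two).1 (orderOf_dvd_of_pow_eq_one h)
  obtain ⟨T, hT⟩ := (IsPGroup.of_card (n := i) (by rw [Nat.card_zpowers, hi]) :
    IsPGroup 2 (Subgroup.zpowers x)).exists_le_sylow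
  exact (S.syl T).2 x (hT (Subgroup.mem_zpowers x))

theorem not_four_dvd (x : G) : ¬ 4 ∣ orderOf x := by
  rintro ⟨c, hc⟩
  have hc0 : 0 < c := by have := orderOf_pos x; omega
  have h1 : (x ^ c) ^ 2 ^ 2 = 1 := by
    rw [← pow_mul, show c * 2 ^ 2 = orderOf x by omega, pow_orderOf_eq_one]
  have h2 := S.two_power_sq h1
  rw [← pow_add] at h2
  have := Nat.le_of_dvd (by omega) (orderOf_dvd_of_pow_eq_one h2)
  omega

theorem exists_sylow_t : ∃ T : Sylow 2 G, S.t ∈ T := by
  haveI : Fact (Nat.Prime 2) := ⟨Nat.prime_two⟩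
  obtain ⟨T, hT⟩ := (IsPGroup.of_card (n := 1) (by
    rw [Nat.card_zpowers, pow_one]; exact orderOf_eq_prime (by rw [pow_two, S.t_sq]) S.t_ne) :
    IsPGroup 2 (Subgroup.zpowers S.t)).exists_le_sylow
  exact ⟨T, hT (Subgroup.mem_zpowers _)⟩

theorem syl_comm (T : Sylow 2 G) {x y : G} (hx : x ∈ T) (hy : y ∈ T) : x * y = y * x := by
  have h1 : ∀ z ∈ T, z⁻¹ = z := fun z hz => inv_eq_of_mul_eq_one_right ((S.syl T).2 z hz)
  calc x * y = (x * y)⁻¹ := (h1 _ (mul_mem hx hy)).symm
    _ = y * x := by rw [_root_.mul_inv_rev, h1 x hx, h1 y hy]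

section sylow

variable (T : Sylow 2 G) (hT : S.t ∈ T)

/-- The image of a Sylow 2-subgroup containing `t`. -/
noncomputable def imageT : Subgroup L :=
  ((T : Subgroup G).subgroupOf (Subgroup.centralizer ({S.t} : Set G))).map S.proj

include hT

theorem lift_imageT : S.lift (S.imageT T) = (T : Subgroup G) := by
  apply SetLike.ext
  intro y
  constructor
  · intro hy
    obtain ⟨h, x, hx, hxy⟩ := S.mem_lift.1 hy
    have hker : S.proj (x⁻¹ * ⟨y, mem_cent.2 h⟩) = 1 := by rw [map_mul, map_inv, hxy, inv_mul_cancel]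
    have hxT : (x : G) ∈ T := hx
    rcases S.proj_eq_one.1 hker with h' | h'
    · rw [Subgroup.coe_mul, Subgroup.coe_inv, inv_mul_eq_one] at h'
      exact (show (x : G) = y from h') ▸ hxT
    · rw [Subgroup.coe_mul, Subgroup.coe_inv, inv_mul_eq_iff_eq_mul] at h'
      show y ∈ (T : Subgroup G)
      exact (show (y : G) = x * S.t from h') ▸ mul_mem hxT hT
  · intro hy
    exact S.mem_lift.2 ⟨S.syl_comm T hy hT, ⟨y, mem_cent.2 (S.syl_comm T hy hT)⟩, hy, rfl⟩

theorem klein_imageT : IsKleinFour (S.imageT T) := by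
  have h4 : Nat.card (S.imageT T) = 4 := by
    have := S.card_lift (S.imageT T)
    rw [S.lift_imageT T hT, (S.syl T).1] at this
    omega
  refine ⟨h4, ?_⟩
  haveI : Nontrivial (S.imageT T) := Finite.one_lt_card_iff_nontrivial.1 (by omega)
  rw [Monoid.exponent_eq_prime_iff Nat.prime_two]
  rintro ⟨l, x, hx, rfl⟩ hl
  refine orderOf_eq_prime ?_ hl
  apply Subtype.ext
  rw [SubmonoidClass.coe_pow, Subgroup.coe_one, ← map_pow, ← map_one S.proj]
  exact congrArg _ (Subtype.ext (by rw [SubmonoidClass.coe_pow, pow_two]; exact (S.syl T).2 _ hx))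

theorem centralizer_syl : Subgroup.centralizer ((T : Subgroup G) : Set G) = T := by
  haveI := S.charP
  refine le_antisymm (fun c hc => ?_) fun x hx => Subgroup.mem_centralizer_iff.2 fun y hy => S.syl_comm T hy hx
  have hct : c * S.t = S.t * c := (Subgroup.mem_centralizer_iff.1 hc _ hT).symm
  rw [← S.lift_imageT T hT]
  refine S.mem_lift.2 ⟨hct, mem_of_centralizes (two_ne (F := F)) (S.klein_imageT T hT) ?_⟩
  rintro _ ⟨x, hx, rfl⟩
  exact (S.proj_commute (x := ⟨c, mem_cent.2 hct⟩) (y := x)).2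
    (Subgroup.mem_centralizer_iff.1 hc _ hx).symm

theorem normalizer_inf_cent : Subgroup.normalizer ((T : Subgroup G) : Set G) ⊓ Subgroup.centralizer ({S.t} : Set G) =
    S.lift (Subgroup.normalizer (S.imageT T : Set L)) := by
  apply SetLike.ext
  intro g
  rw [Subgroup.mem_inf, S.mem_lift]
  constructor
  · rintro ⟨hn, hc⟩
    refine ⟨mem_cent.1 hc, Subgroup.mem_normalizer_iff.2 ?_⟩
    set g' : Subgroup.centralizer ({S.t} : Set G) := ⟨g, mem_cent.2 (mem_cent.1 hc)⟩
    have hmem : ∀ h : Subgroup.centralizer ({S.t} : Set G),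
        S.proj h ∈ S.imageT T ↔ (h : G) ∈ T := by
      intro h
      constructor
      · intro hh
        exact (SetLike.ext_iff.1 (S.lift_imageT T hT) _).1 (S.mem_lift.2 ⟨mem_cent.1 h.2, hh⟩)
      · intro hh; exact ⟨h, hh, rfl⟩
    intro l
    rw [← S.proj_inj l, ← map_inv, ← map_mul, ← map_mul, hmem, hmem]
    exact Subgroup.mem_normalizer_iff.1 hn _
  · rintro ⟨hc, hn⟩
    refine ⟨Subgroup.mem_normalizer_iff.2 ?_, mem_cent.2 hc⟩
    set g' : Subgroup.centralizer ({S.t} : Set G) := ⟨g, mem_cent.2 hc⟩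
    intro h
    have key : ∀ y : G, y ∈ T ↔ ∃ hy : y * S.t = S.t * y, S.proj ⟨y, mem_cent.2 hy⟩ ∈ S.imageT T := fun y => by
      rw [← S.mem_lift, S.lift_imageT T hT]; rfl
    show h ∈ T ↔ g * h * g⁻¹ ∈ T
    rw [key, key]
    constructor
    · rintro ⟨hy, hl⟩
      have hcy := mul_mem (mul_mem (mem_cent.2 hc) (mem_cent.2 hy)) (inv_mem (mem_cent.2 hc))
      refine ⟨mem_cent.1 hcy, ?_⟩
      have := (Subgroup.mem_normalizer_iff.1 hn _).1 hl
      rw [← map_inv, ← map_mul, ← map_mul] at this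
      exact this
    · rintro ⟨hy, hl⟩
      have hcy : h ∈ Subgroup.centralizer ({S.t} : Set G) := by
        have := mul_mem (mul_mem (inv_mem (mem_cent.2 hc)) (mem_cent.2 hy)) (mem_cent.2 hc)
        simpa [mul_assoc] using this
      refine ⟨mem_cent.1 hcy, (Subgroup.mem_normalizer_iff.1 hn _).2 ?_⟩
      rw [← map_inv, ← map_mul, ← map_mul]
      exact hl

theorem card_normalizer_inf_cent :
    Nat.card ↥(Subgroup.normalizer ((T : Subgroup G) : Set G) ⊓ Subgroup.centralizer ({S.t} : Set G)) = 24 := by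
  haveI := S.charP
  rw [S.normalizer_inf_cent T hT, S.card_lift, (klein_normalizer (F := F) S.q_mod (S.klein_imageT T hT)).1]

/-- The normaliser is transitive on the involutions of the Sylow 2-subgroup. -/
theorem syl_orbit : ∀ y, y ∈ T → y ≠ 1 → ∃ n ∈ Subgroup.normalizer ((T : Subgroup G) : Set G), n * S.t * n⁻¹ = y := by
  classical
  haveI := S.charP
  haveI : Fact (Nat.Prime 2) := ⟨Nat.prime_two⟩
  set N := Subgroup.normalizer ((T : Subgroup G) : Set G) with hN
  set O : Set G := {y | ∃ n ∈ N, n * S.t * n⁻¹ = y} with hO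
  have hOT : ∀ y ∈ O, y ∈ T ∧ y ≠ 1 := by
    rintro _ ⟨n, hn, rfl⟩
    exact ⟨(Subgroup.mem_normalizer_iff.1 hn _).1 hT, fun h => S.t_ne (conj_eq_one_iff.1 h)⟩
  -- odd length
  have hodd : Odd O.ncard := by
    have h1 := card_conjugates N S.t
    rw [S.card_normalizer_inf_cent T hT] at h1
    have hO' : Nat.card {y : G // ∃ n ∈ N, n * S.t * n⁻¹ = y} = O.ncard := Nat.card_coe_set_eq O
    rw [hO', ← ((T : Subgroup G).subgroupOf N).index_mul_card,
      Nat.card_congr (Subgroup.subgroupOfEquivOfLe Subgroup.le_normalizer).toEquiv, (S.syl T).1] at h1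
    have h2 : ¬ 2 ∣ ((T : Subgroup G).subgroupOf N).index := fun h =>
      T.not_dvd_index (h.trans (Subgroup.relIndex_dvd_index_of_le Subgroup.le_normalizer))
    rw [Nat.odd_iff]
    omega
  -- fusion
  have hfus : ∀ g, g * S.t * g⁻¹ ∈ T → g * S.t * g⁻¹ ∈ O := by
    intro g hg
    haveI : IsMulCommutative (T : Subgroup G) := ⟨⟨fun a b => Subtype.ext (S.syl_comm T a.2 b.2)⟩⟩
    obtain ⟨n, hn, e⟩ := T.conj_eq_normalizer_conj_of_mem S.t g⁻¹ hT (by rw [inv_inv]; exact hg)
    exact ⟨n⁻¹, inv_mem hn, by rw [inv_inv, ← e, inv_inv]⟩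
  -- it is not central
  have hne : ∃ s ∈ O, s ≠ S.t := by
    by_contra hc
    push Not at hc
    haveI : IsMulCommutative (T : Subgroup G) := ⟨⟨fun a b => Subtype.ext (S.syl_comm T a.2 b.2)⟩⟩
    letI : CommGroup (T : Subgroup G) := { (inferInstance : Group (T : Subgroup G)) with
      mul_comm := fun a b => Subtype.ext (S.syl_comm T a.2 b.2) }
    have key : ∀ (k : ℕ) (g₀ : G), g₀⁻¹ * S.t ^ k * g₀ ∈ (T : Subgroup G) → g₀⁻¹ * S.t ^ k * g₀ = S.t ^ k := by
      intro k g₀ hk
      rcases Nat.even_or_odd k with ⟨i, rfl⟩ | ⟨i, rfl⟩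
      · rw [← two_mul, pow_mul, pow_two, S.t_sq, one_pow, mul_one, inv_mul_cancel]
      · rw [pow_succ, pow_mul, pow_two, S.t_sq, one_pow, one_mul] at hk ⊢
        have := hfus g₀⁻¹ (by rw [inv_inv]; exact hk)
        rw [inv_inv] at this
        exact hc _ this
    have htr := MonoidHom.transfer_eq_pow (ϕ := MonoidHom.id (T : Subgroup G)) S.t key
    set f := MonoidHom.transfer (MonoidHom.id (T : Subgroup G))
    haveI := S.simple
    rcases (MonoidHom.normal_ker f).eq_bot_or_eq_top with h | h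
    · have h8 := Nat.card_le_card_of_injective f ((MonoidHom.ker_eq_bot_iff f).1 h)
      rw [(S.syl T).1, S.cardG] at h8
      have := S.q_ge
      have h3 : 27 ≤ q ^ 3 := S.q_ge.trans (Nat.le_self_pow (by norm_num) _)
      have : 1 ≤ (q - 1) * (q ^ 3 + 1) := Nat.mul_pos (by omega) (by omega)
      rw [mul_assoc] at h8
      nlinarith
    · have h1 : f S.t = 1 := by rw [← MonoidHom.mem_ker, h]; trivial
      rw [htr] at h1
      have h2 : S.t ^ (T : Subgroup G).index = 1 := congrArg Subtype.val h1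
      have h3 := T.not_dvd_index
      have hd := orderOf_dvd_of_pow_eq_one h2
      rw [orderOf_eq_prime (by rw [pow_two, S.t_sq]) S.t_ne] at hd
      exact h3 hd
  obtain ⟨s, hsO, hst⟩ := hne
  intro y hy hy1
  show y ∈ O
  -- the first components
  have hTc : ∀ x, x ∈ T → x ∈ Subgroup.centralizer ({S.t} : Set G) := fun x hx => mem_cent.2 (S.syl_comm T hx hT)
  let c : ∀ x, x ∈ T → Multiplicative (ZMod 2) := fun x hx => (S.e ⟨x, hTc x hx⟩).1
  have hsame : ∀ (x : G) (hx : x ∈ T) (z : G) (hz : z ∈ T), x ≠ 1 → x ≠ S.t → z ≠ 1 → z ≠ S.t →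
      c x hx = c z hz → x ∈ O → z ∈ O := by
    rintro x hx z hz hx1 hxt hz1 hzt hcc ⟨n, hn, rfl⟩
    set x' : Subgroup.centralizer ({S.t} : Set G) := ⟨_, hTc _ hx⟩
    set z' : Subgroup.centralizer ({S.t} : Set G) := ⟨z, hTc _ hz⟩
    obtain ⟨l, hl, hlc⟩ := (klein_normalizer (F := F) S.q_mod (S.klein_imageT T hT)).2 (S.proj x') ⟨x', hx, rfl⟩
      (S.proj z') ⟨z', hz, rfl⟩ (fun h => by rcases S.proj_eq_one.1 h with h | h <;> contradiction)
      (fun h => by rcases S.proj_eq_one.1 h with h | h <;> contradiction)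
    set g : Subgroup.centralizer ({S.t} : Set G) := ⟨S.inj l, S.inj_mem l⟩ with hg
    have hgN : (g : G) ∈ N ⊓ Subgroup.centralizer ({S.t} : Set G) := by
      rw [hN, S.normalizer_inf_cent T hT]
      exact S.mem_lift.2 ⟨mem_cent.1 (S.inj_mem l), by rw [S.proj_inj]; exact hl⟩
    refine ⟨(g : G) * n, mul_mem hgN.1 hn, ?_⟩
    have e1 : g * x' * g⁻¹ = z' := by
      refine S.e.injective (Prod.ext ?_ ?_)
      · rw [map_mul, map_mul, map_inv, Prod.fst_mul, Prod.fst_mul, Prod.fst_inv, mul_right_comm, mul_inv_cancel, one_mul]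
        exact hcc
      · show S.proj (g * x' * g⁻¹) = S.proj z'
        rw [map_mul, map_mul, map_inv, hg, S.proj_inj, hlc]
    calc (g : G) * n * S.t * ((g : G) * n)⁻¹ = (g : G) * (n * S.t * n⁻¹) * (g : G)⁻¹ := by simp [mul_assoc]
      _ = z := congrArg Subtype.val e1
  by_contra hyO
  have hyt : y ≠ S.t := by
    rintro rfl; exact hyO ⟨1, one_mem _, by simp⟩
  obtain ⟨hsT, hs1⟩ := hOT s hsO
  have hcne : c y hy ≠ c s hsT := fun h => hyO (hsame s hsT y hy hs1 hst hy1 hyt h.symm hsO)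
  -- the class of `s`
  set E : L → G := fun l => ((S.e.symm (c s hsT, l) : Subgroup.centralizer ({S.t} : Set G)) : G) with hE
  have hEinj : Function.Injective E := fun a b h => by
    have := S.e.symm.injective (Subtype.ext h : S.e.symm (c s hsT, a) = S.e.symm (c s hsT, b))
    exact (Prod.ext_iff.1 this).2
  have hOeq : O = insert S.t (E '' ((S.imageT T : Set L) \ {1})) := by
    ext x
    constructor
    · intro hx
      obtain ⟨hxT, hx1⟩ := hOT x hx
      by_cases hxt : x = S.t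
      · exact Or.inl hxt
      right
      have hcx : c x hxT = c s hsT := by
        by_contra h
        have key : ∀ a b c : Multiplicative (ZMod 2), a ≠ c → b ≠ c → a = b := by decide
        exact hyO (hsame x hxT y hy hx1 hxt hy1 hyt (key _ _ _ h hcne) hx)
      refine ⟨S.proj ⟨x, hTc x hxT⟩, ⟨⟨⟨x, hTc x hxT⟩, hxT, rfl⟩, fun h => ?_⟩, ?_⟩
      · rcases S.proj_eq_one.1 h with h | h <;> contradiction
      · have : S.e.symm (c s hsT, S.proj ⟨x, hTc x hxT⟩) = ⟨x, hTc x hxT⟩ := by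
          rw [MulEquiv.symm_apply_eq]; exact Prod.ext hcx.symm rfl
        exact congrArg Subtype.val this
    · rintro (rfl | ⟨l, ⟨hlV, hl1⟩, rfl⟩)
      · exact ⟨1, one_mem _, by simp⟩
      · set x' := S.e.symm (c s hsT, l) with hx'
        have hp : S.proj x' = l := by
          show (S.e x').2 = l
          rw [hx', S.e.apply_symm_apply]
        have hxT : (x' : G) ∈ T := by
          have : (x' : G) ∈ S.lift (S.imageT T) :=
            S.mem_lift.2 ⟨mem_cent.1 x'.2, by rw [show (⟨(x' : G), _⟩ : Subgroup.centralizer ({S.t} : Set G)) = x' from rfl, hp]; exact hlV⟩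
          rwa [S.lift_imageT T hT] at this
        refine hsame s hsT _ hxT hs1 hst (fun h => hl1 ?_) (fun h => hl1 ?_) ?_ hsO
        · rw [← hp]; exact S.proj_eq_one.2 (Or.inl h)
        · rw [← hp]; exact S.proj_eq_one.2 (Or.inr h)
        · show c s hsT = (S.e ⟨(x' : G), hTc _ hxT⟩).1
          rw [show (⟨(x' : G), hTc _ hxT⟩ : Subgroup.centralizer ({S.t} : Set G)) = x' from rfl, hx',
            S.e.apply_symm_apply]
  have hnot : S.t ∉ E '' ((S.imageT T : Set L) \ {1}) := by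
    rintro ⟨l, ⟨-, hl1⟩, h⟩
    refine hl1 ?_
    have : S.e.symm (c s hsT, l) = ⟨S.t, S.t_cent⟩ := Subtype.ext h
    rw [MulEquiv.symm_apply_eq, S.e_t] at this
    exact (Prod.ext_iff.1 this).2
  have hcardO : O.ncard = 4 := by
    rw [hOeq, Set.ncard_insert_of_notMem hnot, Set.ncard_image_of_injective _ hEinj,
      Set.ncard_sdiff_singleton_of_mem (one_mem (S.imageT T)), ← Nat.card_coe_set_eq,
      show Nat.card ↥(S.imageT T : Set L) = 4 from (S.klein_imageT T hT).card_four]
  rw [hcardO] at hodd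
  exact absurd hodd (by decide)

theorem card_normalizer_syl : Nat.card (Subgroup.normalizer ((T : Subgroup G) : Set G)) = 168 := by
  rw [← card_conjugates _ S.t, S.card_normalizer_inf_cent T hT]
  have h7 : Nat.card {y : G // ∃ n ∈ Subgroup.normalizer ((T : Subgroup G) : Set G), n * S.t * n⁻¹ = y} = 7 := by
    have hset : {y : G | ∃ n ∈ Subgroup.normalizer ((T : Subgroup G) : Set G), n * S.t * n⁻¹ = y} =
        ((T : Subgroup G) : Set G) \ {1} := by
      ext y
      constructor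
      · rintro ⟨n, hn, rfl⟩
        exact ⟨(Subgroup.mem_normalizer_iff.1 hn _).1 hT, fun h => S.t_ne (conj_eq_one_iff.1 h)⟩
      · rintro ⟨hy, hy1⟩; exact S.syl_orbit T hT y hy hy1
    show Nat.card ↥{y : G | ∃ n ∈ Subgroup.normalizer ((T : Subgroup G) : Set G), n * S.t * n⁻¹ = y} = 7
    rw [hset, Nat.card_coe_set_eq, Set.ncard_sdiff_singleton_of_mem (one_mem _), ← Nat.card_coe_set_eq,
      show Nat.card ↥((T : Subgroup G) : Set G) = 8 from (S.syl T).1]
  rw [h7]

end sylow

/-- All involutions are conjugate. -/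
theorem inv_conj {v : G} (hv : v * v = 1) (hv1 : v ≠ 1) : ∃ g, g * S.t * g⁻¹ = v := by
  haveI : Fact (Nat.Prime 2) := ⟨Nat.prime_two⟩
  obtain ⟨T, hT⟩ := S.exists_sylow_t
  obtain ⟨P, hP⟩ := (IsPGroup.of_card (n := 1) (by
    rw [Nat.card_zpowers, pow_one]; exact orderOf_eq_prime (by rw [pow_two, hv]) hv1) :
    IsPGroup 2 (Subgroup.zpowers v)).exists_le_sylow
  obtain ⟨g, hg⟩ := MulAction.exists_smul_eq G P T
  have h1 : g * v * g⁻¹ ∈ (T : Subgroup G) := by
    rw [← hg, Sylow.coe_subgroup_smul]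
    exact Subgroup.smul_mem_pointwise_smul v (MulAut.conj g) (P : Subgroup G) (hP (Subgroup.mem_zpowers v))
  obtain ⟨n, -, hn⟩ := S.syl_orbit T hT _ h1 (fun h => hv1 (conj_eq_one_iff.1 h))
  refine ⟨g⁻¹ * n, ?_⟩
  calc g⁻¹ * n * S.t * (g⁻¹ * n)⁻¹ = g⁻¹ * (n * S.t * n⁻¹) * g := by simp [mul_assoc]
    _ = v := by rw [hn]; simp [mul_assoc]

theorem cent_card {v : G} (hv : v * v = 1) (hv1 : v ≠ 1) :
    Nat.card (Subgroup.centralizer ({v} : Set G)) = q * (q - 1) * (q + 1) := by
  obtain ⟨g, rfl⟩ := S.inv_conj hv hv1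
  rw [cent_conj, Subgroup.card_map_of_injective (MulAut.conj g).injective, S.card_cent_t]

/-- The number of involutions. -/
theorem card_inv : Nat.card {v : G // orderOf v = 2} = q ^ 2 * (q ^ 2 - q + 1) := by
  have h1 := card_conjugates (⊤ : Subgroup G) S.t
  rw [Subgroup.card_top, top_inf_eq, S.card_cent_t] at h1
  have h2 : Nat.card {y : G // ∃ n ∈ (⊤ : Subgroup G), n * S.t * n⁻¹ = y} = Nat.card {v : G // orderOf v = 2} := by
    refine Nat.card_congr (Equiv.subtypeEquivRight fun y => ?_)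
    constructor
    · rintro ⟨n, -, rfl⟩
      rw [orderOf_conj]
      exact orderOf_eq_prime (by rw [pow_two, S.t_sq]) S.t_ne
    · intro hy
      obtain ⟨g, hg⟩ := S.inv_conj (v := y) (by rw [← pow_two, ← hy, pow_orderOf_eq_one])
        (fun h => by rw [h, orderOf_one] at hy; norm_num at hy)
      exact ⟨g, trivial, hg⟩
  rw [h2, S.cardG, S.cube_add] at h1
  have h27 := S.q_ge
  refine Nat.eq_of_mul_eq_mul_right (Nat.mul_pos (Nat.mul_pos (by omega) (by omega)) (by omega) : 0 < q * (q - 1) * (q + 1)) ?_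
  rw [h1]; ring

/-- The centraliser of a Sylow 2-subgroup and the order of its normaliser. -/
theorem sylow_two (T : Sylow 2 G) : Subgroup.centralizer ((T : Subgroup G) : Set G) = T ∧
    Nat.card (Subgroup.normalizer ((T : Subgroup G) : Set G)) = 168 := by
  haveI : Fact (Nat.Prime 2) := ⟨Nat.prime_two⟩
  obtain ⟨T₀, hT₀⟩ := S.exists_sylow_t
  obtain ⟨g, rfl⟩ := MulAction.exists_smul_eq G T₀ T
  have h1 := S.centralizer_syl T₀ hT₀
  have h2 := S.card_normalizer_syl T₀ hT₀
  have hco : ((g • T₀ : Sylow 2 G) : Subgroup G) = (T₀ : Subgroup G).map (MulAut.conj g).toMonoidHom := by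
    rw [Sylow.coe_subgroup_smul]; rfl
  refine ⟨?_, ?_⟩
  · rw [hco]
    apply SetLike.ext
    intro x
    rw [Subgroup.mem_centralizer_iff]
    constructor
    · intro hx
      refine ⟨g⁻¹ * x * g, ?_, by simp [mul_assoc]⟩
      show g⁻¹ * x * g ∈ (T₀ : Subgroup G)
      rw [← h1, Subgroup.mem_centralizer_iff]
      intro y hy
      have := hx _ ⟨y, hy, rfl⟩
      simp only [MulEquiv.coe_toMonoidHom, MulAut.conj_apply] at this
      calc y * (g⁻¹ * x * g) = g⁻¹ * (g * y * g⁻¹ * x) * g := by simp [mul_assoc]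
        _ = g⁻¹ * (x * (g * y * g⁻¹)) * g := by rw [this]
        _ = g⁻¹ * x * g * y := by simp [mul_assoc]
    · rintro ⟨z, hz, rfl⟩ _ ⟨y, hy, rfl⟩
      rw [← map_mul, ← map_mul]
      exact congrArg _ (S.syl_comm T₀ hy hz)
  · rw [hco, ← h2]
    have : Subgroup.normalizer (((T₀ : Subgroup G).map (MulAut.conj g).toMonoidHom : Subgroup G) : Set G) =
        (Subgroup.normalizer ((T₀ : Subgroup G) : Set G)).map (MulAut.conj g).toMonoidHom :=
      ((T₀ : Subgroup G).map_equiv_normalizer_eq (MulAut.conj g)).symm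
    rw [this, Subgroup.card_map_of_injective (MulAut.conj g).injective]

end Sys

end Cfsg.Agent.ReeLocal
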