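import Cfsg.Agent.ReeLocal.Results

/-!
Solvable subgroups of the small Ree groups.
-/

set_option autoImplicit false
set_option linter.unusedSectionVars false
set_option linter.style.haveILetI false

namespace Cfsg.Agent.ReeLocal

variable {G : Type*} [Group G] {F : Type*} [Field F] [Fintype F]

local notation "q" => Fintype.card F

theorem exists_elementary_normalized {H : Type*} [Group H] [Finite H] (K : Subgroup H) (hK : Group.IsSolvable K)
    (h1 : K ≠ ⊥) : ∃ (M : Subgroup H) (p : ℕ), p.Prime ∧ M ≤ K ∧ M ≠ ⊥ ∧ (∀ x ∈ M, x ^ p = 1) ∧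
      (∀ x ∈ M, ∀ y ∈ M, x * y = y * x) ∧ ∀ k ∈ K, ∀ x ∈ M, k * x * k⁻¹ ∈ M := by
  classical
  haveI : Nontrivial K := K.nontrivial_iff_ne_bot.2 h1
  have hex := (Group.isSolvable_def K).1 hK
  obtain ⟨j, hj⟩ : ∃ j, Nat.find hex = j + 1 := by
    refine Nat.exists_eq_succ_of_ne_zero fun h0 => ?_
    have := Nat.find_spec hex
    rw [h0, derivedSeries_zero] at this
    exact top_ne_bot this
  set D := derivedSeries K j with hDdef
  have hD1 : D ≠ ⊥ := fun h => by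
    have := Nat.find_min' hex h
    omega
  have hDc : ∀ x ∈ D, ∀ y ∈ D, x * y = y * x := fun x hx y hy => by
    have h := Subgroup.commutator_mem_commutator hx hy
    rw [← derivedSeries_succ, ← hj, Nat.find_spec hex, Subgroup.mem_bot] at h
    exact commutatorElement_eq_one_iff_mul_comm.1 h
  obtain ⟨p, hp, hpd⟩ := Nat.exists_prime_and_dvd (fun h : Nat.card D = 1 => hD1 (Subgroup.card_eq_one.1 h))
  haveI := Fact.mk hp
  let M : Subgroup K :=
    { carrier := {x | x ∈ D ∧ x ^ p = 1}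
      one_mem' := ⟨one_mem _, one_pow p⟩
      mul_mem' := fun {a b} ha hb => ⟨mul_mem ha.1 hb.1, by
        rw [(show Commute a b from hDc a ha.1 b hb.1).mul_pow, ha.2, hb.2, one_mul]⟩
      inv_mem' := fun {a} ha => ⟨inv_mem ha.1, by rw [inv_pow, ha.2, inv_one]⟩ }
  refine ⟨M.map K.subtype, p, hp, Subgroup.map_subtype_le M, ?_, ?_, ?_, ?_⟩
  · rw [Ne, Subgroup.map_eq_bot_iff_of_injective _ K.subtype_injective]
    intro hM
    obtain ⟨x, hx⟩ := exists_prime_orderOf_dvd_card' p hpd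
    have hxM : (x : K) ∈ M := ⟨x.2, orderOf_dvd_iff_pow_eq_one.1 (dvd_of_eq (by rw [Subgroup.orderOf_coe, hx]))⟩
    rw [hM, Subgroup.mem_bot, OneMemClass.coe_eq_one] at hxM
    rw [hxM, orderOf_one] at hx
    exact hp.ne_one hx.symm
  · rintro _ ⟨x, hx, rfl⟩
    rw [← map_pow, hx.2, map_one]
  · rintro _ ⟨x, hx, rfl⟩ _ ⟨y, hy, rfl⟩
    rw [← map_mul, ← map_mul, hDc x hx.1 y hy.1]
  · rintro k hk _ ⟨x, hx, rfl⟩
    refine ⟨⟨k, hk⟩ * x * ⟨k, hk⟩⁻¹, ⟨(inferInstance : D.Normal).conj_mem x hx.1 _, ?_⟩, rfl⟩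
    rw [conj_pow, hx.2, mul_one, mul_inv_cancel]

namespace Sys

variable [Finite G] (S : Sys G F)
include S

/-- Lying in one of the maximal local normalisers. -/
def InLocal (K : Subgroup G) : Prop :=
  ∃ A : Subgroup G, K ≤ Subgroup.normalizer (A : Set G) ∧
    ((∃ P : Sylow 2 G, A = P) ∨ (∃ P : Sylow 3 G, A = P) ∨
     (IsCyclic A ∧ (Nat.card A = (q - 1) / 2 ∨ Nat.card A = (q + 1) / 4 ∨
        Nat.card A = q - 3 ^ (S.m + 1) + 1 ∨ Nat.card A = q + 3 ^ (S.m + 1) + 1)))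

theorem inLocal_transport {K : Subgroup G} (g : G) {B : Subgroup G}
    (hK : ∀ k ∈ K, g * k * g⁻¹ ∈ Subgroup.normalizer (B : Set G))
    (hB : (∃ P : Sylow 2 G, B = P) ∨ (∃ P : Sylow 3 G, B = P) ∨
      (IsCyclic B ∧ (Nat.card B = (q - 1) / 2 ∨ Nat.card B = (q + 1) / 4 ∨
        Nat.card B = q - 3 ^ (S.m + 1) + 1 ∨ Nat.card B = q + 3 ^ (S.m + 1) + 1))) : S.InLocal K := by
  refine ⟨B.map (MulAut.conj g⁻¹).toMonoidHom, fun k hk => ?_, ?_⟩
  · rw [← Subgroup.map_equiv_normalizer_eq B (MulAut.conj g⁻¹)]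
    exact ⟨g * k * g⁻¹, hK k hk, by simp [mul_assoc]⟩
  · rcases hB with ⟨P, rfl⟩ | ⟨P, rfl⟩ | ⟨hc, hn⟩
    · exact Or.inl ⟨g⁻¹ • P, by rw [Sylow.coe_subgroup_smul]; rfl⟩
    · exact Or.inr (Or.inl ⟨g⁻¹ • P, by rw [Sylow.coe_subgroup_smul]; rfl⟩)
    · refine Or.inr (Or.inr ⟨?_, ?_⟩)
      · exact isCyclic_of_surjective (B.equivMapOfInjective _ (MulAut.conj g⁻¹).injective).toMonoidHom
          (B.equivMapOfInjective _ (MulAut.conj g⁻¹).injective).surjective
      · rw [Subgroup.card_map_of_injective (MulAut.conj g⁻¹).injective]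
        exact hn

theorem inLocal_conj {K : Subgroup G} (g : G) (h : S.InLocal (K.map (MulAut.conj g).toMonoidHom)) :
    S.InLocal K := by
  obtain ⟨A, hA, hd⟩ := h
  exact S.inLocal_transport g (fun k hk => hA ⟨k, hk, by simp⟩) hd

theorem exists_sylow_three : ∃ P : Sylow 3 G, (P : Subgroup G) = S.U := by
  haveI : Fact (Nat.Prime 3) := ⟨Nat.prime_three⟩
  obtain ⟨P, hP⟩ := S.U_pgroup.exists_le_sylow
  refine ⟨P, le_antisymm (fun x hx => ?_) hP⟩
  -- the Sylow subgroup normalises `U`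
  obtain ⟨k, hk⟩ := P.isPGroup' ⟨x, hx⟩
  have hk' : x ^ 3 ^ k = 1 := congrArg Subtype.val hk
  by_contra hxU
  have hpg : IsPGroup 3 (P : Subgroup G) := P.isPGroup'
  have hlt : S.U < (P : Subgroup G) := lt_of_le_of_ne hP fun e => hxU (e.symm ▸ hx)
  obtain ⟨n, hn⟩ := IsPGroup.iff_card.1 hpg
  have h1 := (S.U.subgroupOf (P : Subgroup G)).index_mul_card
  rw [Nat.card_congr (Subgroup.subgroupOfEquivOfLe hP).toEquiv, S.U_card, hn] at h1
  have hd : q ^ 3 * 3 ∣ Nat.card G := by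
    refine Dvd.dvd.trans ?_ (Subgroup.card_subgroup_dvd_card (P : Subgroup G))
    have hgt : q ^ 3 < Nat.card (P : Subgroup G) := by
      rw [← S.U_card]
      exact Set.Finite.card_lt_card (Set.toFinite _) hlt
    rw [hn, S.cube_eq] at hgt ⊢
    rw [← pow_succ]
    exact Nat.pow_dvd_pow 3 ((Nat.pow_lt_pow_iff_right (by norm_num)).1 hgt)
  rw [S.cardG, mul_assoc] at hd
  have h3 : 3 ∣ (q - 1) * (q ^ 3 + 1) :=
    Nat.dvd_of_mul_dvd_mul_left (pow_pos (by have := S.q_ge; omega) 3) hd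
  have hnum := S.nums
  rcases (Nat.Prime.dvd_mul Nat.prime_three).1 h3 with h | h
  · omega
  · exact (by norm_num : ¬ (3 : ℕ) ∣ 1)
      ((Nat.dvd_add_right (dvd_pow (Nat.dvd_of_mod_eq_zero hnum.2.2) three_ne_zero)).1 h)

theorem inLocal_odd {K M : Subgroup G} {p : ℕ} (hp : p.Prime) (hp2 : p ≠ 2) (hM : M ≠ ⊥)
    (hexp : ∀ x ∈ M, x ^ p = 1) (hcomm : ∀ x ∈ M, ∀ y ∈ M, x * y = y * x)
    (hnorm : ∀ k ∈ K, ∀ x ∈ M, k * x * k⁻¹ ∈ M) : S.InLocal K := by
  haveI := Fact.mk hp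
  obtain ⟨x, hx, hx1⟩ := M.bot_or_exists_ne_one.resolve_left hM
  have hxo : orderOf x = p := orderOf_eq_prime (hexp x hx) hx1
  rcases eq_or_ne p 3 with rfl | hp3
  · obtain ⟨P, hP⟩ := S.exists_sylow_three
    obtain ⟨g, hg⟩ := S.exists_conj_three (x := x) (k := 1) (by rw [pow_one]; exact hexp x hx)
    have hg1 : g * x * g⁻¹ ≠ 1 := fun e => hx1 (conj_eq_one_iff.1 e)
    have hMU : ∀ y ∈ M, g * y * g⁻¹ ∈ S.U := by
      intro y hy
      have hN : g * y * g⁻¹ ∈ Subgroup.normalizer (S.U : Set G) :=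
        S.U_ti _ _ hg hg1 (by rw [conj_mem_cent (hcomm y hy x hx), mul_inv_cancel_right]; exact hg)
      exact S.three_mem_U hN (k := 1) (by rw [pow_one, conj_pow, hexp y hy, mul_one, mul_inv_cancel])
    refine S.inLocal_transport g (B := S.U) (fun k hk => S.U_ti _ _ hg hg1 ?_) (Or.inr (Or.inl ⟨P, hP.symm⟩))
    rw [show g * k * g⁻¹ * (g * x * g⁻¹) * (g * k * g⁻¹)⁻¹ = g * (k * x * k⁻¹) * g⁻¹ by simp [mul_assoc]]
    exact hMU _ (hnorm k hk x hx)
  · -- a torus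
    obtain ⟨A, hA, hpA, hc⟩ : ∃ A : Subgroup G, IsTor A ∧ p ∣ Nat.card A ∧
        (Nat.card A = (q - 1) / 2 ∨ Nat.card A = (q + 1) / 4 ∨
          Nat.card A = q - 3 ^ (S.m + 1) + 1 ∨ Nat.card A = q + 3 ^ (S.m + 1) + 1) := by
      rcases S.prime_of_dvd_card hp (hxo ▸ orderOf_dvd_natCard x) with h | h | h | h | h
      · exact absurd h hp3
      · exact absurd h hp2
      · obtain ⟨A, hA, hc, -⟩ := S.exists_half
        exact ⟨A, hA, hc ▸ h, Or.inl hc⟩
      · obtain ⟨s, A, hA⟩ := S.exists_quarter_tor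
        exact ⟨A, S.quarter_tor hA, hA.card ▸ h, Or.inr (Or.inl hA.card)⟩
      · obtain ⟨T₁, T₂, hT₁, hT₂, hc₁, hc₂, hprod, -⟩ := S.two_classes
        rw [← hprod] at h
        rcases hp.dvd_mul.1 h with h' | h'
        · exact ⟨T₁, hT₁, h', Or.inr (Or.inr (Or.inl hc₁))⟩
        · exact ⟨T₂, hT₂, h', Or.inr (Or.inr (Or.inr hc₂))⟩
    obtain ⟨g, hg⟩ := hA.exists_conj_of_dvd (x := x) (hxo.symm ▸ hpA) (orderOf_ne_one hx1)
    have hg1 : g * x * g⁻¹ ≠ 1 := fun e => hx1 (conj_eq_one_iff.1 e)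
    have hMA : ∀ y ∈ M, g * y * g⁻¹ ∈ A := by
      intro y hy
      refine hA.mem _ hg hg1 _ (conj_mem_cent (hcomm y hy x hx)) ?_
      rw [orderOf_conj]
      exact Odd.of_dvd_nat (hp.odd_of_ne_two hp2) (orderOf_dvd_of_pow_eq_one (hexp y hy))
    refine S.inLocal_transport g (B := A) (fun k hk => hA.mem_normalizer hg hg1 ?_) (Or.inr (Or.inr ⟨hA.cyclic, hc⟩))
    rw [show g * k * g⁻¹ * (g * x * g⁻¹) * (g * k * g⁻¹)⁻¹ = g * (k * x * k⁻¹) * g⁻¹ by simp [mul_assoc]]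
    exact hMA _ (hnorm k hk x hx)

theorem inLocal_two {K M : Subgroup G} (hexp : ∀ x ∈ M, x * x = 1) (h1 : Nat.card M ≠ 1) (h2 : Nat.card M ≠ 2)
    (hnorm : ∀ k ∈ K, ∀ x ∈ M, k * x * k⁻¹ ∈ M) : S.InLocal K := by
  haveI : Fact (Nat.Prime 2) := ⟨Nat.prime_two⟩
  have hKM : K ≤ Subgroup.normalizer (M : Set G) := by
    intro k hk
    refine Subgroup.mem_normalizer_iff.2 fun y => ⟨hnorm k hk y, fun h => ?_⟩
    have := hnorm k⁻¹ (inv_mem hk) _ h
    simpa [mul_assoc] using this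
  have hpg : IsPGroup 2 M := fun x => ⟨1, Subtype.ext (by simpa [pow_two] using hexp x x.2)⟩
  obtain ⟨T, hT⟩ := hpg.exists_le_sylow
  have hd : Nat.card M ∣ 2 ^ 3 := by
    rw [show (2 : ℕ) ^ 3 = Nat.card T from ((S.syl T).1).symm]
    exact Subgroup.card_dvd_of_le hT
  obtain ⟨i, hi, hc⟩ := (Nat.dvd_prime_pow Nat.prime_two).1 hd
  interval_cases i
  · exact absurd hc h1
  · exact absurd (hc.trans (pow_one 2)) h2
  · -- a four-group
    haveI := Fintype.ofFinite M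
    classical
    obtain ⟨v, hv, hv1⟩ := M.bot_or_exists_ne_one.resolve_left fun h => h1 (by rw [h, Subgroup.card_bot])
    obtain ⟨w, hw, hw'⟩ : ∃ w ∈ M, w ∉ ({1, v} : Set G) := by
      by_contra hno
      push Not at hno
      have := Set.ncard_le_ncard (s := (M : Set G)) (t := {1, v}) hno (Set.toFinite _)
      rw [← Nat.card_coe_set_eq, show Nat.card ↥(M : Set G) = Nat.card M from rfl, hc,
        Set.ncard_pair (Ne.symm hv1)] at this
      omega
    simp only [Set.mem_insert_iff, Set.mem_singleton_iff, not_or] at hw'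
    have hp : Pair v w := ⟨hexp v hv, hv1, hexp w hw, hw'.1, Ne.symm hw'.2, S.syl_comm T (hT hv) (hT hw)⟩
    have hfour : hp.four = M := by
      refine Subgroup.eq_of_le_of_card_ge (fun z hz => ?_) (by rw [hc, hp.card_four]; norm_num)
      rcases hp.mem_four.1 hz with rfl | rfl | rfl | rfl
      · exact one_mem _
      · exact hv
      · exact hw
      · exact mul_mem hv hw
    obtain ⟨A, hA⟩ := (S.pair_facts hp).2
    refine ⟨A, ?_, Or.inr (Or.inr ⟨hA.cyclic, Or.inr (Or.inl hA.card)⟩)⟩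
    rw [S.quarter_normalizer_eq hA]
    have : hA.pair.four = M := hfour
    rw [this]
    exact hKM
  · exact ⟨M, hKM, Or.inl ⟨T, Subgroup.eq_of_le_of_card_ge hT (by
      rw [hc]; exact ((S.syl T).1).le.trans (by norm_num))⟩⟩

theorem inLocal_cent {K : Subgroup G} (hK : Group.IsSolvable K)
    (hle : K ≤ Subgroup.centralizer ({S.t} : Set G)) : S.InLocal K := by
  set C := Subgroup.centralizer ({S.t} : Set G)
  set Kb := (K.subgroupOf C).map S.proj
  by_cases hb : Kb = ⊥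
  · obtain ⟨T, hT⟩ := S.exists_sylow_t
    refine ⟨T, le_trans (fun k hk => ?_) Subgroup.le_normalizer, Or.inl ⟨T, rfl⟩⟩
    have h1 : S.proj ⟨k, hle hk⟩ = 1 := by
      rw [← Subgroup.mem_bot, ← hb]
      exact ⟨⟨k, hle hk⟩, hk, rfl⟩
    rcases S.proj_eq_one.1 h1 with h | h
    · rw [show k = 1 from h]; exact one_mem _
    · rw [show k = S.t from h]; exact hT
  haveI := hK
  have hKb : Group.IsSolvable Kb := by
    let f : K →* Kb :=
      (S.proj.comp (Subgroup.inclusion hle)).codRestrict Kb fun k => ⟨⟨k, hle k.2⟩, k.2, rfl⟩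
    refine Group.isSolvable_of_surjective (f := f) ?_
    rintro ⟨_, y, hy, rfl⟩
    exact ⟨⟨y, hy⟩, rfl⟩
  obtain ⟨M, p, hp, -, hM1, hexp, hcomm, hnorm⟩ := exists_elementary_normalized Kb hKb hb
  have hnorm' : ∀ (k : G) (hk : k ∈ K), ∀ l ∈ M, S.proj ⟨k, hle hk⟩ * l * (S.proj ⟨k, hle hk⟩)⁻¹ ∈ M :=
    fun k hk l hl => hnorm _ ⟨⟨k, hle hk⟩, hk, rfl⟩ l hl
  rcases eq_or_ne p 2 with rfl | hp2
  · refine S.inLocal_two (M := S.lift M) ?_ ?_ ?_ ?_
    · intro x hx
      obtain ⟨hc, hl⟩ := S.mem_lift.1 hx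
      refine S.two_power_sq (k := 2) ?_
      have h1 : S.proj (⟨x, mem_cent.2 hc⟩ ^ 2) = 1 := by rw [map_pow]; exact hexp _ hl
      rw [show 2 ^ 2 = 2 * 2 by norm_num, pow_mul, pow_two (x ^ 2)]
      rcases S.proj_eq_one.1 h1 with h | h <;> rw [SubmonoidClass.coe_pow] at h
      · rw [show x ^ 2 = 1 from h, one_mul]
      · rw [show x ^ 2 = S.t from h, S.t_sq]
    · rw [S.card_lift]; have := Nat.card_pos (α := M); omega
    · rw [S.card_lift]
      intro h
      exact hM1 (Subgroup.card_eq_one.1 (by omega))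
    · intro k hk x hx
      obtain ⟨hc, hl⟩ := S.mem_lift.1 hx
      have hkc : k * x * k⁻¹ ∈ C := mul_mem (mul_mem (hle hk) (mem_cent.2 hc)) (inv_mem (hle hk))
      refine S.mem_lift.2 ⟨mem_cent.1 hkc, ?_⟩
      have := hnorm' k hk _ hl
      rw [← map_inv, ← map_mul, ← map_mul] at this
      exact this
  · refine S.inLocal_odd (M := M.map S.inj) hp hp2 ?_ ?_ ?_ ?_
    · rwa [Ne, Subgroup.map_eq_bot_iff_of_injective _ S.inj_injective]
    · rintro _ ⟨l, hl, rfl⟩; rw [← map_pow, hexp l hl, map_one]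
    · rintro _ ⟨l, hl, rfl⟩ _ ⟨l', hl', rfl⟩; rw [← map_mul, ← map_mul, hcomm l hl l' hl']
    · rintro k hk _ ⟨l, hl, rfl⟩
      set k' : C := ⟨k, hle hk⟩
      set l' : C := ⟨S.inj l, S.inj_mem l⟩
      have hodd : Odd (orderOf ((k' * l' * k'⁻¹ : C) : G)) := by
        show Odd (orderOf (k * S.inj l * k⁻¹))
        rw [orderOf_conj, S.orderOf_inj]
        exact Odd.of_dvd_nat (hp.odd_of_ne_two hp2) (orderOf_dvd_of_pow_eq_one (hexp l hl))
      have e := S.inj_proj (x := k' * l' * k'⁻¹) hodd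
      refine ⟨S.proj (k' * l' * k'⁻¹), ?_, e⟩
      rw [map_mul, map_mul, map_inv, S.proj_inj]
      exact hnorm' k hk l hl

/-- Solvable subgroups lie in local normalisers. -/
theorem solvable_local (K : Subgroup G) (hK : Group.IsSolvable K) : S.InLocal K := by
  by_cases h1 : K = ⊥
  · obtain ⟨T, -⟩ := S.exists_sylow_t
    exact ⟨T, by rw [h1]; exact bot_le, Or.inl ⟨T, rfl⟩⟩
  obtain ⟨M, p, hp, -, hM1, hexp, hcomm, hnorm⟩ := exists_elementary_normalized K hK h1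
  rcases eq_or_ne p 2 with rfl | hp2
  · by_cases h2 : Nat.card M = 2
    · obtain ⟨v, hv, hv1⟩ := M.bot_or_exists_ne_one.resolve_left hM1
      have hvv : v * v = 1 := by rw [← pow_two]; exact hexp v hv
      obtain ⟨g, hg⟩ := S.inv_conj hvv hv1
      apply S.inLocal_conj g⁻¹
      haveI := hK
      refine S.inLocal_cent (Group.isSolvable_of_surjective
        (f := (K.equivMapOfInjective _ (MulAut.conj g⁻¹).injective).toMonoidHom)
        (K.equivMapOfInjective _ (MulAut.conj g⁻¹).injective).surjective) ?_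
      rintro _ ⟨k, hk, rfl⟩
      refine mem_cent.2 ?_
      have hkv : k * v * k⁻¹ = v := by
        obtain ⟨a, b, hab, huniv⟩ := Nat.card_eq_two_iff.1 h2
        have hall : ∀ z : M, z = ⟨1, one_mem _⟩ ∨ z = ⟨v, hv⟩ := by
          intro z
          have hz : z = a ∨ z = b := by simpa [← huniv] using Set.mem_univ z
          have hv' : (⟨v, hv⟩ : M) = a ∨ (⟨v, hv⟩ : M) = b := by simpa [← huniv] using Set.mem_univ (⟨v, hv⟩ : M)
          have h1' : (⟨1, one_mem _⟩ : M) = a ∨ (⟨1, one_mem _⟩ : M) = b := by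
            simpa [← huniv] using Set.mem_univ (⟨1, one_mem _⟩ : M)
          have hne : (⟨1, one_mem _⟩ : M) ≠ ⟨v, hv⟩ := fun e => hv1 (congrArg Subtype.val e).symm
          rcases hz with rfl | rfl <;> rcases hv' with e1 | e1 <;> rcases h1' with e2 | e2 <;>
            first
            | exact absurd (e2.trans e1.symm) hne
            | exact Or.inl e2.symm
            | exact Or.inr e1.symm
        rcases hall ⟨_, hnorm k hk v hv⟩ with e | e
        · exact absurd (conj_eq_one_iff.1 (congrArg Subtype.val e)) hv1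
        · exact congrArg Subtype.val e
      rw [← hg] at hkv
      rw [mul_inv_eq_iff_eq_mul] at hkv
      have := conj_mem_cent (g := g⁻¹) hkv
      simpa [mul_assoc] using this
    · exact S.inLocal_two (fun x hx => by rw [← pow_two]; exact hexp x hx)
        (fun h => hM1 (Subgroup.card_eq_one.1 h)) h2 hnorm
  · exact S.inLocal_odd hp hp2 hM1 hexp hcomm hnorm

end Sys

end Cfsg.Agent.ReeLocal
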