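import Cfsg.Agent.ReeG2.Central
import Cfsg.Agent.ReeG2.Seven
import Cfsg.Agent.S1154
import Cfsg.Agent.ReeLocal.Solvable

/-!
The small Ree groups satisfy the axioms of `Sys`.
-/

set_option autoImplicit false
set_option linter.unusedSectionVars false
set_option linter.style.haveILetI false

namespace Cfsg.Agent.ReeLocal

open Cfsg.Lie Cfsg.Agent.ChevGrp Cfsg.Agent.ChevTw Cfsg.Agent.ReeG2

section

variable (K : Type*) [Field K] [Fintype K] {m : ℕ} (hK : Fintype.card K = 3 ^ (2 * m + 1))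
include hK

theorem conj_U_mem {w a : GL chevG2.Idx K}
    (hw : w ∈ chevG2.borelSubgroup K ⊓ twistedG2 K (3 ^ m))
    (ha : a ∈ chevG2.posUnipotent K ⊓ twistedG2 K (3 ^ m)) :
    w * a * w⁻¹ ∈ chevG2.posUnipotent K ⊓ twistedG2 K (3 ^ m) := by
  obtain ⟨t, u, v, x, rfl⟩ := (mem_B_iff K hK _).1 hw
  obtain ⟨t₁, u₁, v₁, rfl⟩ := (mem_U_iff K hK _).1 ha
  obtain ⟨a', b', c', hab⟩ := tor_uEl_comm K hK x t₁ u₁ v₁
  rw [mul_assoc (uEl K m t u v) (tor K m x), hab, _root_.mul_inv_rev]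
  simp only [mul_assoc, mul_inv_cancel_left]
  exact mul_mem (uEl_mem K hK t u v) (mul_mem (uEl_mem K hK a' b' c') (inv_mem (uEl_mem K hK t u v)))

theorem B_of_conj_mem {g a : GL chevG2.Idx K} (hg : g ∈ twistedG2 K (3 ^ m))
    (ha : a ∈ chevG2.posUnipotent K ⊓ twistedG2 K (3 ^ m)) (ha1 : a ≠ 1)
    (hga : g * a * g⁻¹ ∈ chevG2.posUnipotent K ⊓ twistedG2 K (3 ^ m)) :
    g ∈ chevG2.borelSubgroup K ⊓ twistedG2 K (3 ^ m) := by
  rcases bruhat K hK hg with h | ⟨t, u, v, x, t', u', v', rfl⟩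
  · exact h
  exfalso
  obtain ⟨t₁, u₁, v₁, rfl⟩ := (mem_U_iff K hK _).1 ha
  obtain ⟨t₂, u₂, v₂, h2⟩ := (mem_U_iff K hK _).1 hga
  set y := uEl K m t' u' v' * uEl K m t₁ u₁ v₁ * (uEl K m t' u' v')⁻¹ with hy
  obtain ⟨t₃, u₃, v₃, h3⟩ := (mem_U_iff K hK y).1
    (mul_mem (mul_mem (uEl_mem K hK t' u' v') (uEl_mem K hK t₁ u₁ v₁)) (inv_mem (uEl_mem K hK t' u' v')))
  have hy1 : uEl K m t₃ u₃ v₃ ≠ 1 := by
    rw [← h3, hy]
    exact fun e => ha1 (conj_eq_one_iff.1 e)
  refine nG_uEl_notMem K hK hy1 ?_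
  have hb : uEl K m t u v * tor K m x ∈ chevG2.borelSubgroup K ⊓ twistedG2 K (3 ^ m) :=
    (mem_B_iff K hK _).2 ⟨t, u, v, x, rfl⟩
  have hu : uEl K m t₂ u₂ v₂ ∈ chevG2.borelSubgroup K ⊓ twistedG2 K (3 ^ m) :=
    (mem_B_iff K hK _).2 ⟨t₂, u₂, v₂, 1, by rw [map_one, mul_one]⟩
  have e : nG K hK * uEl K m t₃ u₃ v₃ * (nG K hK)⁻¹ =
      (uEl K m t u v * tor K m x)⁻¹ * uEl K m t₂ u₂ v₂ * (uEl K m t u v * tor K m x) := by
    rw [← h3, ← h2, hy]
    simp [mul_assoc]
  rw [e]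
  exact mul_mem (mul_mem (inv_mem hb) hu) hb

/-- The torus inside the group. -/
noncomputable def torHom : Kˣ →* ↥(RG K m) :=
  (tor K m).codRestrict (RG K m) (tor_mem_Tw K hK)

theorem torHom_injective : Function.Injective (torHom K hK) := fun _ _ e =>
  tor_injective K hK (congrArg Subtype.val e)

omit hK in
/-- The Sylow 3-subgroup. -/
noncomputable abbrev U3 (m : ℕ) : Subgroup ↥(RG K m) := (chevG2.posUnipotent K ⊓ twistedG2 K (3 ^ m)).subgroupOf (RG K m)

theorem normalizer_U3 : Subgroup.normalizer (U3 K m : Set ↥(RG K m)) = RB K m := by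
  apply SetLike.ext
  intro g
  constructor
  · intro hg
    rw [mem_RB K hK]
    refine B_of_conj_mem K hK g.2 (uEl_mem K hK 0 1 0) (uEl_ne_one K hK) ?_
    exact (Subgroup.mem_normalizer_iff.1 hg (uT K hK 0 1 0)).1 (uEl_mem K hK 0 1 0)
  · intro hg
    rw [Subgroup.mem_normalizer_iff]
    intro a
    refine ⟨fun ha => ?_, fun ha => ?_⟩
    · exact conj_U_mem K hK ((mem_RB K hK).1 hg) ha
    · show (a : GL chevG2.Idx K) ∈ chevG2.posUnipotent K ⊓ twistedG2 K (3 ^ m)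
      have := conj_U_mem K hK (inv_mem ((mem_RB K hK).1 hg)) ha
      simpa [mul_assoc] using this

theorem card_RB : Nat.card (RB K m) = Fintype.card K ^ 3 * (Fintype.card K - 1) := by
  classical
  have hle : chevG2.borelSubgroup K ⊓ twistedG2 K (3 ^ m) ≤ RG K m := inf_le_right
  rw [Nat.card_congr (Subgroup.subgroupOfEquivOfLe hle).toEquiv]
  let f : (K × K × K) × Kˣ → ↥(chevG2.borelSubgroup K ⊓ twistedG2 K (3 ^ m)) := fun p =>
    ⟨uEl K m p.1.1 p.1.2.1 p.1.2.2 * tor K m p.2, (mem_B_iff K hK _).2 ⟨_, _, _, _, rfl⟩⟩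
  have hf : Function.Bijective f := by
    constructor
    · rintro ⟨⟨t, u, v⟩, x⟩ ⟨⟨t₁, u₁, v₁⟩, x₁⟩ e
      have e' : uEl K m t u v * tor K m x = uEl K m t₁ u₁ v₁ * tor K m x₁ := congrArg Subtype.val e
      obtain ⟨h4, h5⟩ := (GS K).Bbar_decomp_unique (ChevTw.rulesG2 K) (hRG K) (uEl_mem_Ubar K hK t u v)
        (uEl_mem_Ubar K hK t₁ u₁ v₁) (tor_mem_diag K m x) (tor_mem_diag K m x₁) e'
      obtain ⟨rfl, rfl, rfl⟩ := uEl_inj K hK h4
      rw [tor_injective K hK h5]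
    · rintro ⟨g, hg⟩
      obtain ⟨t, u, v, x, rfl⟩ := (mem_B_iff K hK g).1 hg
      exact ⟨⟨⟨t, u, v⟩, x⟩, rfl⟩
  rw [← Nat.card_congr (Equiv.ofBijective f hf), Nat.card_prod, Nat.card_prod, Nat.card_prod, Nat.card_units,
    Nat.card_eq_fintype_card (α := K)]
  ring

theorem card_U3 : Nat.card (U3 K m) = Fintype.card K ^ 3 := by
  have hle : chevG2.posUnipotent K ⊓ twistedG2 K (3 ^ m) ≤ RG K m := inf_le_right
  rw [Nat.card_congr (Subgroup.subgroupOfEquivOfLe hle).toEquiv, card_posUnipotentG2 hK, hK]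

theorem card_U3_three (hm : 1 ≤ m) :
    Nat.card {u : U3 K m // orderOf u = 3} = Fintype.card K ^ 2 - 1 := by
  have hle : chevG2.posUnipotent K ⊓ twistedG2 K (3 ^ m) ≤ RG K m := inf_le_right
  rw [hK, ← Cfsg.Agent.S1154.result hm hK]
  refine Nat.card_congr ((Subgroup.subgroupOfEquivOfLe hle).toEquiv.subtypeEquiv fun u => ?_)
  rw [MulEquiv.toEquiv_eq_coe, EquivLike.coe_coe]
  exact Iff.of_eq (congrArg (· = 3) ((Subgroup.subgroupOfEquivOfLe hle).orderOf_eq u).symm)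

/-- The data of `²G₂(q)`. -/
noncomputable def reeSys (hm : 1 ≤ m) : Sys ↥(twistedG2 K (3 ^ m)) K :=
  haveI := charG2 hK
  { m := m
    one_le := hm
    cardF := hK
    simple := (ChevTwOrd.simple_G2 hm hK).1
    cardG := by rw [ChevTwOrd.order_G2 hK, hK]
    t := jT K hK
    t_ne := fun h => tor_negOne_ne K hK (congrArg Subtype.val h)
    t_sq := Subtype.ext (tor_negOne_sq K hK)
    e := (cent_equiv K hK).some
    syl := ReeG2.sylow_two K hK
    U := U3 K m
    U_card := card_U3 K hK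
    U_three := card_U3_three K hK hm
    U_ti := fun g u hu hu1 hgu => by
      rw [normalizer_U3 K hK, mem_RB K hK]
      exact B_of_conj_mem K hK g.2 hu (fun e => hu1 (Subtype.ext e)) hgu
    N_card := by rw [normalizer_U3 K hK, card_RB K hK]
    H := (torHom K hK).range
    H_le := by
      rintro _ ⟨x, rfl⟩
      rw [normalizer_U3 K hK, mem_RB K hK]
      exact (mem_B_iff K hK _).2 ⟨0, 0, 0, x, by rw [uEl_one K hK, one_mul]; rfl⟩
    H_cyclic := isCyclic_of_surjective (torHom K hK).rangeRestrict (torHom K hK).rangeRestrict_surjective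
    H_card := by
      rw [← Nat.card_congr (MonoidHom.ofInjective (torHom_injective K hK)).toEquiv, Nat.card_units,
        Nat.card_eq_fintype_card]
    t_mem := ⟨-1, rfl⟩
    H_fpf := by
      rintro _ ⟨x, rfl⟩ hx1 hodd u hu hc
      obtain ⟨t, a, b, hu'⟩ := (mem_U_iff K hK _).1 hu
      rw [orderOf_injective (torHom K hK) (torHom_injective K hK)] at hodd
      have hxne : x ≠ 1 := fun e => hx1 (by rw [e, map_one])
      have hxx : x * x ≠ 1 := by
        intro e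
        obtain ⟨k, hk⟩ := hodd
        have h1 : x ^ (2 * k + 1) = 1 := by rw [← hk, pow_orderOf_eq_one]
        rw [pow_succ, pow_mul, pow_two, e, one_pow, one_mul] at h1
        exact hxne h1
      have hc' : tor K m x * uEl K m t a b = uEl K m t a b * tor K m x := by
        rw [← hu']; exact congrArg Subtype.val hc
      obtain ⟨h1, h2⟩ := fix_cases K hK (x := x) hc'
      obtain ⟨rfl, rfl⟩ := h1 hxne
      obtain rfl := h2 hxx
      exact Subtype.ext (hu'.trans (uEl_one K hK))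
    n := nT K hK
    n_not := by
      rw [normalizer_U3 K hK, mem_RB K hK]
      have := not_mem_B K hK 0 0 0 1 0 0 0
      rw [map_one, uEl_one K hK, one_mul, one_mul, mul_one] at this
      exact this
    n_norm := by
      rintro _ ⟨x, rfl⟩
      obtain ⟨y, hy⟩ := nG_conj_tor K hK x
      exact ⟨y, Subtype.ext hy.symm⟩
    rep := ((sevenMat K).toHomUnits).comp (Subgroup.inclusion (show RG K m ≤ chevG2.group K by
      rw [group_eq (ChevTw.rulesG2 K)]; exact (grpG2 hK).Tw_le))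
    rep_inj := by
      intro a b e
      exact Subgroup.inclusion_injective _ (sevenMat_injective K (congrArg Units.val e)) }

theorem reeSys_m (hm : 1 ≤ m) : (reeSys K hK hm).m = m := rfl

end

end Cfsg.Agent.ReeLocal
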