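import Cfsg.Agent.PSLTwo25.Klein
import Cfsg.Agent.Spec.TorusTwo
import Cfsg.Agent.Linear.ClassesPSL

/-!
Facts about `2 × PSL(2, q)` for `q` a power of three congruent to three modulo eight.
-/

set_option autoImplicit false
set_option linter.unusedSectionVars false
set_option linter.style.haveILetI false

namespace Cfsg.Agent.ReeLocal

open Matrix Cfsg.Agent.PSLTwo25
open scoped MatrixGroups

variable {F : Type*} [Field F] [Fintype F]

local notation "M₂" => Matrix (Fin 2) (Fin 2) F
local notation "L" => Matrix.ProjectiveSpecialLinearGroup (Fin 2) F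

section psl

variable [CharP F 3] (hq : Fintype.card F % 8 = 3)

theorem two_ne : (2 : F) ≠ 0 := by
  intro h
  have h3 : ((3 : ℕ) : F) = 0 := CharP.cast_eq_zero F 3
  push_cast at h3
  exact one_ne_zero (show (1 : F) = 0 by linear_combination h3 - h)

theorem three_zero : (3 : F) = 0 := by
  exact_mod_cast CharP.cast_eq_zero F 3

include hq

theorem no_sqrt_neg_one (r : F) : r ^ 2 ≠ -1 := fun h => by
  have hs : IsSquare (-1 : F) := ⟨r, by rw [← h, pow_two]⟩
  rw [FiniteField.isSquare_neg_one_iff] at hs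
  omega

theorem card_L : 2 * Nat.card L = Fintype.card F * (Fintype.card F - 1) * (Fintype.card F + 1) :=
  (card_G_factor (F := F) (Nat.odd_iff.2 (by omega))).1

/-- The centraliser of an involution. -/
theorem involution_centralizer {l : L} (hl : l * l = 1) (hl1 : l ≠ 1) :
    Nat.card (Subgroup.centralizer ({l} : Set L)) = Fintype.card F + 1 ∧
      ∃ A : Subgroup L, A ≤ Subgroup.centralizer ({l} : Set L) ∧ IsCyclic A ∧ Nat.card A = (Fintype.card F + 1) / 4 ∧
        ∀ n ∈ Subgroup.centralizer ({l} : Set L), ∀ a ∈ A, n * a * n⁻¹ ∈ A := by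
  have h2 := two_ne (F := F)
  obtain ⟨a, rfl⟩ := QuotientGroup.mk_surjective l
  have ha := lift_involution h2 hl hl1
  have htr : (a : M₂).trace = 0 := by rw [Matrix.trace_fin_two]; exact (trace_zero_iff h2).1 ha
  have hsq : (a : M₂).trace ^ 2 ≠ 4 := by
    rw [htr]; intro h
    exact Spec.Two.four_ne_zero' h2 (by linear_combination -h)
  have hns : ∀ r : F, r ^ 2 - (a : M₂).trace * r + 1 ≠ 0 := fun r h => by
    rw [htr] at h
    exact no_sqrt_neg_one hq r (by linear_combination h)
  rcases Spec.Two.card_torus a hsq with ⟨⟨r, hr⟩, -⟩ | ⟨-, hC⟩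
  · exact absurd hr (hns r)
  set C := Subgroup.centralizer ({a} : Set SL(2, F)) with hCdef
  have hidx := Linear.Classes.index_centralizer_proj_zero h2 htr
  have hCi : C.index * (Fintype.card F + 1) = Fintype.card F * (Fintype.card F - 1) * (Fintype.card F + 1) := by
    rw [← hC, Subgroup.index_mul_card, Linear.card_SL_two, hC]
  have hCi' : C.index = Fintype.card F * (Fintype.card F - 1) := Nat.eq_of_mul_eq_mul_right (by omega) hCi
  have hcard : Nat.card (Subgroup.centralizer ({(QuotientGroup.mk a : L)} : Set L)) = Fintype.card F + 1 := by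
    have e := (Subgroup.centralizer ({(QuotientGroup.mk a : L)} : Set L)).index_mul_card
    have e2 := card_L (F := F) hq
    rw [← e, ← mul_assoc] at e2
    rw [show 2 * (Subgroup.centralizer ({(QuotientGroup.mk a : L)} : Set L)).index = Fintype.card F * (Fintype.card F - 1) from
      hidx.trans hCi'] at e2
    exact Nat.eq_of_mul_eq_mul_left (Nat.mul_pos Fintype.card_pos (by omega)) e2
  refine ⟨hcard, ?_⟩
  haveI := Spec.Two.isCyclic_centralizer a hsq
  obtain ⟨g, hg⟩ := IsCyclic.exists_ofOrder_eq_natCard (α := C)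
  rw [hC] at hg
  have hgo : orderOf (g : SL(2, F)) = Fintype.card F + 1 := by rw [Subgroup.orderOf_coe, hg]
  -- the order in the quotient
  have hpow : ∀ k : ℕ, (QuotientGroup.mk ((g : SL(2, F))) : L) ^ k = 1 ↔ (Fintype.card F + 1) / 2 ∣ k := by
    intro k
    rw [← QuotientGroup.mk_pow, mk_eq_one]
    have hneg : (g : SL(2, F)) ^ ((Fintype.card F + 1) / 2) = negS := by
      have h1 : (g : SL(2, F)) ^ ((Fintype.card F + 1) / 2) * (g : SL(2, F)) ^ ((Fintype.card F + 1) / 2) = 1 := by
        rw [← pow_add, show (Fintype.card F + 1) / 2 + (Fintype.card F + 1) / 2 = Fintype.card F + 1 by omega, ← hgo, pow_orderOf_eq_one]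
      refine (eq_one_or_negS h2 h1).resolve_left fun h => ?_
      have := Nat.le_of_dvd (by omega) (hgo ▸ orderOf_dvd_of_pow_eq_one h)
      omega
    constructor
    · rintro (h | h)
      · have := hgo ▸ orderOf_dvd_of_pow_eq_one h
        exact (Dvd.intro 2 (by omega)).trans this
      · have : (g : SL(2, F)) ^ (k + (Fintype.card F + 1) / 2) = 1 := by rw [pow_add, h, hneg, negS_sq]
        have h3 := (Dvd.intro 2 (by omega) : (Fintype.card F + 1) / 2 ∣ Fintype.card F + 1).trans (hgo ▸ orderOf_dvd_of_pow_eq_one this)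
        exact (Nat.dvd_add_left dvd_rfl).1 h3
    · rintro ⟨j, rfl⟩
      rw [pow_mul, hneg]
      rcases Nat.even_or_odd j with ⟨i, rfl⟩ | ⟨i, rfl⟩
      · left; rw [← two_mul, pow_mul, pow_two, negS_sq, one_pow]
      · right; rw [pow_succ, pow_mul, pow_two, negS_sq, one_pow, one_mul]
  set γ : L := QuotientGroup.mk ((g : SL(2, F))) with hγ
  have hγo : orderOf γ = (Fintype.card F + 1) / 2 := Nat.dvd_antisymm
    (orderOf_dvd_of_pow_eq_one ((hpow _).2 dvd_rfl)) ((hpow _).1 (pow_orderOf_eq_one γ))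
  refine ⟨Subgroup.zpowers (γ ^ 2), ?_, inferInstance, ?_, ?_⟩
  · rw [Subgroup.zpowers_le, Subgroup.mem_centralizer_singleton_iff]
    have h1 : (g : SL(2, F)) * a = a * g := Subgroup.mem_centralizer_singleton_iff.1 g.2
    have h1' : Commute γ (QuotientGroup.mk a) := by
      show γ * _ = _ * γ
      rw [hγ, ← QuotientGroup.mk_mul, h1, QuotientGroup.mk_mul]
    exact (h1'.pow_left 2).eq
  · rw [Nat.card_zpowers, orderOf_pow, hγo, Nat.gcd_eq_right (by omega)]
    omega
  · intro n hn x hx
    obtain ⟨m, rfl⟩ := QuotientGroup.mk_surjective n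
    obtain ⟨i, rfl⟩ := Subgroup.mem_zpowers_iff.1 hx
    have hm : (QuotientGroup.mk (m * a * m⁻¹) : L) = QuotientGroup.mk a := by
      rw [QuotientGroup.mk_mul, QuotientGroup.mk_mul, QuotientGroup.mk_inv,
        Subgroup.mem_centralizer_singleton_iff.1 hn, mul_inv_cancel_right]
    have hmem : m * (g : SL(2, F)) * m⁻¹ ∈ C := by
      refine Subgroup.mem_centralizer_singleton_iff.2 ?_
      have h1 : (g : SL(2, F)) * a = a * g := Subgroup.mem_centralizer_singleton_iff.1 g.2
      have h3 : m * (g : SL(2, F)) * m⁻¹ * (m * a * m⁻¹) = m * a * m⁻¹ * (m * (g : SL(2, F)) * m⁻¹) := by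
        simp only [mul_assoc, inv_mul_cancel_left]
        rw [← mul_assoc (g : SL(2, F)) a, h1, mul_assoc]
      rcases mk_eq_iff.1 hm with h | h
      · rwa [← h] at h3
      · rw [show m * a * m⁻¹ = negS * a from (by conv_rhs => rw [h, ← mul_assoc, negS_sq, one_mul])] at h3
        rw [← mul_assoc, mul_negS, mul_assoc, mul_assoc negS a] at h3
        exact mul_left_cancel h3
    obtain ⟨j, hj⟩ := Subgroup.mem_zpowers_iff.1 (show (⟨_, hmem⟩ : C) ∈ Subgroup.zpowers g by
      have : Subgroup.zpowers g = ⊤ := Subgroup.eq_top_of_card_eq _ (by rw [Nat.card_zpowers, hg, hC])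
      rw [this]; trivial)
    have hj' : (QuotientGroup.mk m : L) * γ * (QuotientGroup.mk m : L)⁻¹ = γ ^ j := by
      rw [hγ, ← QuotientGroup.mk_inv, ← QuotientGroup.mk_mul, ← QuotientGroup.mk_mul, ← QuotientGroup.mk_zpow]
      congr 1
      exact (congrArg Subtype.val hj).symm.trans (SubgroupClass.coe_zpow g j)
    rw [← conj_zpow, ← conj_pow, hj', Subgroup.mem_zpowers_iff]
    refine ⟨j * i, ?_⟩
    rw [← zpow_natCast γ 2, ← zpow_natCast (γ ^ j) 2, ← _root_.zpow_mul, ← _root_.zpow_mul, ← _root_.zpow_mul]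
    congr 1
    ring

theorem involution_conj {l l' : L} (hl : l * l = 1) (hl1 : l ≠ 1) (hl' : l' * l' = 1) (hl1' : l' ≠ 1) :
    ∃ g : L, g * l * g⁻¹ = l' := by
  have h2 := two_ne (F := F)
  obtain ⟨a, rfl⟩ := QuotientGroup.mk_surjective l
  obtain ⟨b, rfl⟩ := QuotientGroup.mk_surjective l'
  obtain ⟨g, hg⟩ := exists_conj_J h2 (lift_involution h2 hl hl1) (lift_involution h2 hl' hl1')
  exact ⟨QuotientGroup.mk g, by rw [← hg]; rfl⟩

/-- The centraliser of a non-trivial element of odd order is commutative. -/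
theorem centralizer_comm_odd {l a c : L} (hl : Odd (orderOf l)) (hl1 : l ≠ 1)
    (ha : a * l = l * a) (hc : c * l = l * c) : a * c = c * a := by
  have h2 := two_ne (F := F)
  obtain ⟨n, hn⟩ := hl
  obtain ⟨g, hgl, hg⟩ : ∃ g : SL(2, F), (QuotientGroup.mk g : L) = l ∧ g ^ (2 * n + 1) = 1 := by
    obtain ⟨g, rfl⟩ := QuotientGroup.mk_surjective l
    have h := pow_orderOf_eq_one (QuotientGroup.mk g : L)
    rw [hn, ← QuotientGroup.mk_pow, mk_eq_one] at h
    rcases h with h | h
    · exact ⟨g, rfl, h⟩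
    · refine ⟨negS * g, mk_eq_iff.2 (Or.inr (by rw [← mul_assoc, negS_sq, one_mul])), ?_⟩
      rw [(show Commute negS g from (mul_negS g).symm).mul_pow, h, pow_succ, pow_mul, pow_two, negS_sq,
        one_pow, one_mul, negS_sq]
  subst hgl
  have key : ∀ b : SL(2, F), (QuotientGroup.mk b : L) * QuotientGroup.mk g = QuotientGroup.mk g * QuotientGroup.mk b →
      b * g = g * b := by
    intro b hb
    rw [← QuotientGroup.mk_mul, ← QuotientGroup.mk_mul] at hb
    rcases mk_eq_iff.1 hb.symm with h | h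
    · exact h
    · exfalso
      have h3 : b * g * b⁻¹ = negS * g := by rw [h, ← mul_assoc, mul_inv_cancel_right]
      have h4 : (b * g * b⁻¹) ^ (2 * n + 1) = 1 := by rw [conj_pow, hg, mul_one, mul_inv_cancel]
      rw [h3, (show Commute negS g from (mul_negS g).symm).mul_pow, hg, mul_one, pow_succ, pow_mul, pow_two,
        negS_sq, one_pow, one_mul] at h4
      exact negS_ne_one h2 h4
  have hns : ∀ z : F, (g : M₂) ≠ z • (1 : M₂) := by
    intro z hz
    refine hl1 (mk_eq_one.2 ?_)
    have hz2 : z ^ 2 = 1 := by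
      have := g.det_coe
      rwa [hz, Matrix.det_smul, Matrix.det_one, mul_one, Fintype.card_fin] at this
    rcases sq_eq_one_iff.1 hz2 with rfl | rfl
    · exact Or.inl (Subtype.ext (by rw [hz, one_smul, Matrix.SpecialLinearGroup.coe_one]))
    · exact Or.inr (Subtype.ext (by rw [hz, neg_one_smul, negS_coe]))
  obtain ⟨a, rfl⟩ := QuotientGroup.mk_surjective a
  obtain ⟨c, rfl⟩ := QuotientGroup.mk_surjective c
  have ha' := congrArg (fun z : SL(2, F) => (z : M₂)) (key a ha)
  have hc' := congrArg (fun z : SL(2, F) => (z : M₂)) (key c hc)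
  simp only [Matrix.SpecialLinearGroup.coe_mul] at ha' hc'
  have := Elusive.commute_of_commute_two (M := (a : M₂)) (N := (c : M₂)) hns ha'.symm hc'.symm
  rw [← QuotientGroup.mk_mul, ← QuotientGroup.mk_mul]
  exact congrArg QuotientGroup.mk (Subtype.ext (by
    rw [Matrix.SpecialLinearGroup.coe_mul, Matrix.SpecialLinearGroup.coe_mul, this]))

/-- The normaliser of a four-group is transitive on its involutions and has order twelve. -/
theorem klein_normalizer {V : Subgroup L} (hV : IsKleinFour V) :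
    Nat.card (Subgroup.normalizer (V : Set L)) = 12 ∧
      ∀ x ∈ V, ∀ y ∈ V, x ≠ 1 → y ≠ 1 → ∃ g ∈ Subgroup.normalizer (V : Set L), g * x * g⁻¹ = y := by
  have h2 := two_ne (F := F)
  haveI : Fact (Nat.Prime 2) := ⟨Nat.prime_two⟩
  haveI : Finite V := Nat.finite_of_card_ne_zero (by rw [hV.card_four]; norm_num)
  have hL4 : ¬ 8 ∣ Nat.card L := by
    intro hd
    have h16 : 2 * 8 ∣ 2 * Nat.card L := Nat.mul_dvd_mul_left 2 hd
    rw [card_L hq, ← Nat.mod_add_div (Fintype.card F) 8, hq] at h16
    set j := Fintype.card F / 8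
    rw [show (3 + 8 * j) * (3 + 8 * j - 1) * (3 + 8 * j + 1) = (3 + 8 * j) * (2 * (1 + 4 * j)) * (4 * (1 + 2 * j)) by
      rw [show 3 + 8 * j - 1 = 2 * (1 + 4 * j) by omega, show 3 + 8 * j + 1 = 4 * (1 + 2 * j) by omega],
      show (3 + 8 * j) * (2 * (1 + 4 * j)) * (4 * (1 + 2 * j)) = 8 * ((3 + 8 * j) * ((1 + 4 * j) * (1 + 2 * j))) by ring] at h16
    obtain ⟨c, hc⟩ := h16
    have hodd : Odd ((3 + 8 * j) * ((1 + 4 * j) * (1 + 2 * j))) :=
      (Odd.add_even (by decide) (even_iff_two_dvd.2 ⟨4 * j, by ring⟩)).mul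
        ((Odd.add_even odd_one (even_iff_two_dvd.2 ⟨2 * j, by ring⟩)).mul
          (Odd.add_even odd_one (even_iff_two_dvd.2 ⟨j, by ring⟩)))
    rw [Nat.odd_iff] at hodd
    omega
  obtain ⟨P, hP⟩ := (IsPGroup.of_card (n := 2) (hV.card_four.trans (by norm_num)) : IsPGroup 2 V).exists_le_sylow
  have hPV : V = (P : Subgroup L) := by
    refine Subgroup.eq_of_le_of_card_ge hP ?_
    obtain ⟨n, hn⟩ := IsPGroup.iff_card.1 P.isPGroup'
    have hn3 : n < 3 := by
      by_contra hge
      exact hL4 ((show 8 ∣ Nat.card P from hn ▸ (by norm_num : 8 = 2 ^ 3) ▸ Nat.pow_dvd_pow 2 (by omega)).trans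
        (Subgroup.card_subgroup_dvd_card _))
    rw [hn, hV.card_four]
    calc 2 ^ n ≤ 2 ^ 2 := Nat.pow_le_pow_right (by norm_num) (by omega)
      _ = 4 := by norm_num
  have htrans : ∀ x ∈ V, ∀ y ∈ V, x ≠ 1 → y ≠ 1 → ∃ g ∈ Subgroup.normalizer (V : Set L), g * x * g⁻¹ = y := by
    intro x hx y hy hx1 hy1
    obtain ⟨g, hg⟩ := involution_conj hq (klein_sq hV hx) hx1 (klein_sq hV hy) hy1
    haveI : IsMulCommutative (P : Subgroup L) :=
      ⟨⟨fun a b => Subtype.ext (klein_comm hV (hPV ▸ a.2) (hPV ▸ b.2))⟩⟩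
    obtain ⟨n, hn, e⟩ := P.conj_eq_normalizer_conj_of_mem x g⁻¹ (hP hx) (by rw [inv_inv, hg]; exact hP hy)
    refine ⟨n⁻¹, ?_, by rw [inv_inv, ← e, inv_inv, hg]⟩
    rw [hPV]; exact inv_mem hn
  refine ⟨?_, htrans⟩
  obtain ⟨k, hk, hc⟩ := card_normalizer_klein h2 hV
  have hk2 : ¬ 2 ∣ k := fun ⟨j, hj⟩ => hL4 ((Dvd.intro j (by omega) : 8 ∣ Nat.card (Subgroup.normalizer (V : Set L))).trans
    (Subgroup.card_subgroup_dvd_card _))
  have : k ∈ Nat.divisors 6 := Nat.mem_divisors.2 ⟨hk, by norm_num⟩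
  rw [show Nat.divisors 6 = {1, 2, 3, 6} by decide] at this
  simp only [Finset.mem_insert, Finset.mem_singleton] at this
  rcases this with rfl | rfl | rfl | rfl
  · exfalso
    obtain ⟨x, y, hx, hy, hx1, hy1, hxy⟩ := klein_exists_gens hV
    obtain ⟨g, hg, e⟩ := htrans x hx y hy hx1 hy1
    have : Subgroup.normalizer (V : Set L) = V :=
      (Subgroup.eq_of_le_of_card_ge Subgroup.le_normalizer (by rw [hc, hV.card_four])).symm
    rw [this] at hg
    rw [klein_comm hV hg hx, mul_inv_cancel_right] at e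
    exact hxy e
  · omega
  · omega
  · omega


omit hq in
theorem cube_formula (g : SL(2, F)) :
    (g : M₂) * (g : M₂) * (g : M₂) =
      ((g : M₂).trace ^ 2 - 1) • (g : M₂) - (g : M₂).trace • (1 : M₂) := by
  have h2 := Linear.Classes.cayley_hamilton g
  rw [h2, Matrix.sub_mul, Matrix.one_mul, Matrix.smul_mul, h2]
  module

omit hq in
theorem cube_eq_one_iff (g : SL(2, F)) : g ^ 3 = 1 ↔ (g : M₂).trace = 2 := by
  have h3 := three_zero (F := F)
  constructor
  · intro h
    have e : (g : M₂) * (g : M₂) * (g : M₂) = 1 := by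
      have := congrArg (fun x : SL(2, F) => (x : M₂)) h
      simpa [pow_succ] using this
    rw [cube_formula] at e
    set τ := (g : M₂).trace with hτ
    by_cases h1 : τ ^ 2 - 1 = 0
    · rw [h1, zero_smul, zero_sub] at e
      have e' := congrFun (congrFun e 0) 0
      simp at e'
      linear_combination -e' - h3
    · have e' : (g : M₂) = ((1 + τ) / (τ ^ 2 - 1)) • (1 : M₂) := by
        rw [div_eq_inv_mul, ← smul_smul, eq_inv_smul_iff₀ h1, add_smul, one_smul]
        exact sub_eq_iff_eq_add.1 e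
      set c := (1 + τ) / (τ ^ 2 - 1)
      have hd := g.det_coe
      rw [e', Matrix.det_smul, Matrix.det_one, mul_one, Fintype.card_fin] at hd
      rcases sq_eq_one_iff.1 hd with hc | hc
      · rw [hτ, e', hc, one_smul, Matrix.trace_one]; simp
      · exfalso
        apply h1
        rw [hτ, e', hc, Matrix.trace_smul, Matrix.trace_one]
        simp
        linear_combination h3
  · intro h
    apply Subtype.ext
    rw [show ((g ^ 3 : SL(2, F)) : M₂) = (g : M₂) * (g : M₂) * (g : M₂) by simp [pow_succ],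
      cube_formula, h, Matrix.SpecialLinearGroup.coe_one]
    rw [show (2 : F) ^ 2 - 1 = 0 by linear_combination h3, zero_smul, zero_sub, ← neg_smul,
      show -(2 : F) = 1 by linear_combination -h3, one_smul]

theorem lift_cube {l : L} (hl : l ^ 3 = 1) : ∃ g : SL(2, F), QuotientGroup.mk g = l ∧ g ^ 3 = 1 := by
  obtain ⟨g, rfl⟩ := QuotientGroup.mk_surjective l
  rw [← QuotientGroup.mk_pow, mk_eq_one] at hl
  rcases hl with h | h
  · exact ⟨g, rfl, h⟩
  · refine ⟨negS * g, mk_eq_iff.2 (Or.inr (by rw [← mul_assoc, negS_sq, one_mul])), ?_⟩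
    rw [(show Commute negS g from (mul_negS g).symm).mul_pow, h, pow_succ, pow_two, negS_sq, one_mul, negS_sq]

theorem no_order_nine (l : L) : orderOf l ≠ 9 := by
  intro h
  have h9 : (l ^ 3) ^ 3 = 1 := by rw [← pow_mul, show 3 * 3 = orderOf l by rw [h], pow_orderOf_eq_one]
  obtain ⟨g, rfl⟩ := QuotientGroup.mk_surjective l
  rw [← pow_mul, ← QuotientGroup.mk_pow, mk_eq_one, show 3 * 3 = 9 by norm_num] at h9
  have key : ∀ g : SL(2, F), g ^ 9 = 1 → g ^ 3 = 1 := by
    intro g hg
    rw [cube_eq_one_iff]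
    have h1 := (cube_eq_one_iff (g ^ 3)).1 (by rw [← pow_mul]; exact hg)
    rw [show ((g ^ 3 : SL(2, F)) : M₂) = (g : M₂) * (g : M₂) * (g : M₂) by simp [pow_succ],
      cube_formula, Matrix.trace_sub, Matrix.trace_smul, Matrix.trace_smul, Matrix.trace_one,
      Fintype.card_fin, smul_eq_mul, smul_eq_mul] at h1
    push_cast at h1
    have h3 := three_zero (F := F)
    have : ((g : M₂).trace + 1) ^ 3 = 0 := by
      linear_combination h1 + ((g : M₂).trace ^ 2 + 2 * (g : M₂).trace + 1) * h3
    linear_combination (pow_eq_zero_iff three_ne_zero).1 this - h3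
  have h3' : (QuotientGroup.mk g : L) ^ 3 = 1 := by
    rw [← QuotientGroup.mk_pow, mk_eq_one]
    rcases h9 with h | h
    · exact Or.inl (key g h)
    · right
      have := key (negS * g) (by
        rw [(show Commute negS g from (mul_negS g).symm).mul_pow, h, show (9 : ℕ) = 2 * 4 + 1 by norm_num, pow_succ,
          pow_mul, pow_two, negS_sq, one_pow, one_mul, negS_sq])
      rw [(show Commute negS g from (mul_negS g).symm).mul_pow, pow_succ, pow_two, negS_sq, one_mul] at this
      calc g ^ 3 = negS * (negS * g ^ 3) := by rw [← mul_assoc, negS_sq, one_mul]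
        _ = negS := by rw [this, mul_one]
  have := Nat.le_of_dvd (by norm_num) (orderOf_dvd_of_pow_eq_one h3')
  omega

omit hq in
open scoped Classical in
theorem card_trace_two : Nat.card {g : SL(2, F) // (g : M₂).trace = 2} = Fintype.card F * Fintype.card F := by
  have hmk : ∀ b x : F, b ≠ 0 → (!![x + 1, b; -x ^ 2 / b, 1 - x] : M₂).det = 1 := by
    intro b x hb; rw [Matrix.det_fin_two_of]; field_simp; ring
  have hmk0 : ∀ x : F, (!![1, 0; x, 1] : M₂).det = 1 := fun x => by simp [Matrix.det_fin_two_of]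
  let f : F × F → {g : SL(2, F) // (g : M₂).trace = 2} := fun p =>
    if hb : p.1 = 0 then ⟨⟨_, hmk0 p.2⟩, by simp [Matrix.trace_fin_two]; norm_num⟩
    else ⟨⟨_, hmk p.1 p.2 hb⟩, by simp [Matrix.trace_fin_two]; ring⟩
  have hf : Function.Bijective f := by
    constructor
    · rintro ⟨b, x⟩ ⟨b', x'⟩ h
      have e01 := congrArg (fun g : {g : SL(2, F) // (g : M₂).trace = 2} => (g.1 : M₂) 0 1) h
      have e10 := congrArg (fun g : {g : SL(2, F) // (g : M₂).trace = 2} => (g.1 : M₂) 1 0) h
      have e00 := congrArg (fun g : {g : SL(2, F) // (g : M₂).trace = 2} => (g.1 : M₂) 0 0) h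
      simp only [f] at e01 e10 e00
      by_cases hb : b = 0 <;> by_cases hb' : b' = 0 <;> simp_all
    · rintro ⟨g, hg⟩
      rw [Matrix.trace_fin_two] at hg
      have hd := g.det_coe
      rw [Matrix.det_fin_two] at hd
      by_cases hb : (g : M₂) 0 1 = 0
      · refine ⟨(0, (g : M₂) 1 0), Subtype.ext (Subtype.ext ?_)⟩
        have ha : (g : M₂) 0 0 = 1 := by
          have : ((g : M₂) 0 0 - 1) ^ 2 = 0 := by
            linear_combination -hd - (g : M₂) 1 0 * hb + (g : M₂) 0 0 * hg
          exact sub_eq_zero.1 ((pow_eq_zero_iff two_ne_zero).1 this)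
        ext i j
        fin_cases i <;> fin_cases j <;> simp [f, hb, ha]
        linear_combination ha - hg
      · refine ⟨((g : M₂) 0 1, (g : M₂) 0 0 - 1), Subtype.ext (Subtype.ext ?_)⟩
        ext i j
        fin_cases i <;> fin_cases j <;> simp [f, hb]
        · field_simp
          linear_combination hd - (g : M₂) 0 0 * hg
        · linear_combination -hg
  rw [← Nat.card_congr (Equiv.ofBijective f hf), Nat.card_prod, Nat.card_eq_fintype_card]

theorem card_order_three : Nat.card {l : L // orderOf l = 3} = Fintype.card F * Fintype.card F - 1 := by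
  classical
  haveI := Fintype.ofFinite {g : SL(2, F) // (g : M₂).trace = 2}
  have h1 : (1 : M₂).trace = 2 := by rw [Matrix.trace_one]; simp
  let f : {g : {g : SL(2, F) // (g : M₂).trace = 2} // g ≠ ⟨1, h1⟩} → {l : L // orderOf l = 3} := fun g =>
    ⟨QuotientGroup.mk g.1.1, orderOf_eq_prime (by
      rw [← QuotientGroup.mk_pow, (cube_eq_one_iff g.1.1).2 g.1.2, QuotientGroup.mk_one]) fun h => by
        rcases mk_eq_one.1 h with e | e
        · exact g.2 (Subtype.ext e)
        · have := g.1.2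
          rw [e, negS_coe, Matrix.trace_neg, h1] at this
          exact two_ne (F := F) (by linear_combination -2 * this - 2 * three_zero (F := F))⟩
  have hf : Function.Bijective f := by
    constructor
    · intro g g' h
      rcases mk_eq_iff.1 (congrArg Subtype.val h) with e | e
      · exact Subtype.ext (Subtype.ext e.symm)
      · have := g'.1.2
        rw [e, negS_mul, Matrix.trace_neg, g.1.2] at this
        exact absurd (by linear_combination -2 * this - 2 * three_zero (F := F)) (two_ne (F := F))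
    · rintro ⟨l, hl⟩
      obtain ⟨g, hgl, hg⟩ := lift_cube hq (l := l) (by rw [← hl, pow_orderOf_eq_one])
      refine ⟨⟨⟨g, (cube_eq_one_iff g).1 hg⟩, fun h => ?_⟩, Subtype.ext hgl⟩
      rw [← hgl, show g = 1 from congrArg Subtype.val h, QuotientGroup.mk_one, orderOf_one] at hl
      omega
  rw [← Nat.card_congr (Equiv.ofBijective f hf), Nat.card_eq_fintype_card, Fintype.card_subtype_compl,
    Fintype.card_subtype_eq, ← Nat.card_eq_fintype_card, card_trace_two]

end psl

end Cfsg.Agent.ReeLocal
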