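import Cfsg.Agent.ReeLocal.Big

/-!
Elements of odd and of even order.
-/

set_option autoImplicit false
set_option linter.unusedSectionVars false
set_option linter.style.haveILetI false

namespace Cfsg.Agent.ReeLocal

variable {G : Type*} [Group G] {F : Type*} [Field F] [Fintype F]

local notation "q" => Fintype.card F

theorem card_or [Finite G] (P Q : G → Prop) (h : ∀ x, P x → ¬ Q x) :
    Nat.card {x : G // P x ∨ Q x} = Nat.card {x : G // P x} + Nat.card {x : G // Q x} := by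
  show Nat.card ↥{x : G | P x ∨ Q x} = Nat.card ↥{x : G | P x} + Nat.card ↥{x : G | Q x}
  rw [Nat.card_coe_set_eq, Nat.card_coe_set_eq, Nat.card_coe_set_eq]
  exact Set.ncard_union_eq (s := {x | P x}) (t := {x | Q x}) (Set.disjoint_left.2 h)

namespace IsTor

variable [Finite G] {A : Subgroup G} (hA : IsTor A)
include hA

theorem card_dvd_ne_one :
    Nat.card {x : G // x ≠ 1 ∧ orderOf x ∣ Nat.card A} =
      (Subgroup.normalizer (A : Set G)).index * (Nat.card A - 1) := by
  classical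
  rw [hA.card_conj_subtype (fun x => x ≠ 1 ∧ orderOf x ∣ Nat.card A)
    (fun g x hx => ⟨fun h => hx.1 (conj_eq_one_iff.1 h), by rw [orderOf_conj]; exact hx.2⟩)
    (fun x hx => ⟨hx.1, hA.exists_conj_of_dvd hx.2 (orderOf_ne_one hx.1)⟩)]
  congr 1
  haveI := Fintype.ofFinite A
  rw [Nat.card_eq_fintype_card (α := A), Nat.card_eq_fintype_card, ← Fintype.card_subtype_eq (1 : A),
    ← Fintype.card_subtype_compl]
  refine Fintype.card_congr (Equiv.subtypeEquivRight fun u => ?_)
  constructor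
  · intro h e; exact h.1 (congrArg Subtype.val e)
  · intro h
    refine ⟨fun e => h (Subtype.ext e), ?_⟩
    rw [← Nat.card_eq_fintype_card]
    exact A.orderOf_dvd_natCard u.2

theorem orderOf_dvd_card {x : G} {r : ℕ} (hr : r.Prime) (hrx : r ∣ orderOf x) (hrA : r ∣ Nat.card A)
    (ho : Odd (orderOf x)) : orderOf x ∣ Nat.card A := by
  obtain ⟨g, hg⟩ := hA.exists_conj_mem hr hrx hrA ho
  rw [← orderOf_conj g x]
  exact A.orderOf_dvd_natCard hg

end IsTor

namespace Sys

variable [Finite G] (S : Sys G F)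
include S

/-- The possible odd orders. -/
theorem odd_cases {x : G} (ho : Odd (orderOf x)) :
    orderOf x ∣ 9 ∨ orderOf x ∣ (q - 1) / 2 ∨ orderOf x ∣ (q + 1) / 4 ∨ orderOf x ∣ q ^ 2 - q + 1 := by
  by_cases h1 : orderOf x = 1
  · exact Or.inl (by rw [h1]; exact one_dvd _)
  obtain ⟨r, hr, hrx⟩ := Nat.exists_prime_and_dvd h1
  rcases S.prime_of_dvd_card hr (hrx.trans (orderOf_dvd_natCard x)) with rfl | rfl | h | h | h
  · left
    have hu : orderOf (x ^ (orderOf x / 3)) = 3 := orderOf_pow_orderOf_div (orderOf_pos x).ne' hrx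
    exact S.cent_three (u := x ^ (orderOf x / 3)) (k := 1) (by rw [pow_one]; exact orderOf_dvd_iff_pow_eq_one.1 (dvd_of_eq hu))
      (fun e => by rw [e, orderOf_one] at hu; omega) (Commute.self_pow x _).eq ho
  · exact absurd ho (Nat.not_odd_iff_even.2 (even_iff_two_dvd.2 hrx))
  · obtain ⟨A, hA, hAc, -⟩ := S.exists_half
    exact Or.inr (Or.inl (hAc ▸ hA.orderOf_dvd_card hr hrx (hAc ▸ h) ho))
  · obtain ⟨s, A, hA⟩ := S.exists_quarter_tor
    exact Or.inr (Or.inr (Or.inl (hA.card ▸ (S.quarter_tor hA).orderOf_dvd_card hr hrx (hA.card ▸ h) ho)))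
  · obtain ⟨T, e, hT, hrT, hTQ, -⟩ := S.exists_big hr h
    exact Or.inr (Or.inr (Or.inr ((hT.orderOf_dvd_card hr hrx hrT ho).trans hTQ)))

theorem coprime_parts :
    Nat.Coprime 9 ((q - 1) / 2) ∧ Nat.Coprime 9 ((q + 1) / 4) ∧ Nat.Coprime 9 (q ^ 2 - q + 1) ∧
    Nat.Coprime ((q - 1) / 2) ((q + 1) / 4) ∧ Nat.Coprime ((q - 1) / 2) (q ^ 2 - q + 1) ∧
    Nat.Coprime ((q + 1) / 4) (q ^ 2 - q + 1) := by
  refine ⟨?_, ?_, ?_, ?_, ?_, ?_⟩ <;> refine Nat.coprime_of_dvd fun k hk h1 h2 => ?_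
  · have := Nat.prime_eq_prime_of_dvd_pow hk Nat.prime_three (show k ∣ 3 ^ 2 from h1)
    exact ((S.prime_facts hk).1 h2).2.1 this
  · have := Nat.prime_eq_prime_of_dvd_pow hk Nat.prime_three (show k ∣ 3 ^ 2 from h1)
    exact ((S.prime_facts hk).2.1 h2).2.1 this
  · have := Nat.prime_eq_prime_of_dvd_pow hk Nat.prime_three (show k ∣ 3 ^ 2 from h1)
    have := ((S.prime_facts hk).2.2 h2).2.1
    omega
  · exact ((S.prime_facts hk).1 h1).2.2.2.1 h2
  · exact ((S.prime_facts hk).1 h1).2.2.2.2 h2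
  · exact ((S.prime_facts hk).2.1 h1).2.2.2.2 h2

/-- An involution commuting with an element of odd order. -/
theorem even_equiv (P : ℕ → Prop) :
    Nat.card {x : G // Even (orderOf x) ∧ P (orderOf x / 2)} =
      Nat.card {p : G × G // orderOf p.1 = 2 ∧ Odd (orderOf p.2) ∧ p.2 * p.1 = p.1 * p.2 ∧ P (orderOf p.2)} := by
  have hord : ∀ v h : G, orderOf v = 2 → Odd (orderOf h) → h * v = v * h → orderOf (v * h) = 2 * orderOf h := by
    intro v h hv hh hc
    have hcop : (orderOf v).Coprime (orderOf h) := by rw [hv]; exact Nat.coprime_two_left.2 hh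
    rw [(show Commute v h from hc.symm).orderOf_mul_eq_mul_orderOf_of_coprime hcop, hv]
  symm
  refine Nat.card_congr (Equiv.ofBijective (fun p => ⟨p.1.1 * p.1.2, ?_, ?_⟩) ⟨?_, ?_⟩)
  · rw [hord _ _ p.2.1 p.2.2.1 p.2.2.2.1]
    exact even_two_mul _
  · rw [hord _ _ p.2.1 p.2.2.1 p.2.2.2.1, Nat.mul_div_cancel_left _ two_pos]
    exact p.2.2.2.2
  · rintro ⟨⟨v, h⟩, hv, hh, hc, hP⟩ ⟨⟨v', h'⟩, hv', hh', hc', hP'⟩ e
    have e' : v * h = v' * h' := congrArg Subtype.val e
    have he : orderOf h = orderOf h' := by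
      have := congrArg orderOf e'
      rw [hord v h hv hh hc, hord v' h' hv' hh' hc'] at this
      change 2 * orderOf h = 2 * orderOf h' at this
      omega
    have key : ∀ a b : G, orderOf a = 2 → Odd (orderOf b) → b * a = a * b → (a * b) ^ orderOf b = a := by
      intro a b ha hb hab
      obtain ⟨k, hk⟩ := hb
      rw [(show Commute a b from hab.symm).mul_pow, pow_orderOf_eq_one, mul_one, hk, pow_succ, pow_mul,
        show a ^ 2 = 1 from ha ▸ pow_orderOf_eq_one a, one_pow, one_mul]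
    have hvv : v = v' := by
      rw [← key v h hv hh hc, ← key v' h' hv' hh' hc', e', he]
    subst hvv
    have : h = h' := mul_left_cancel e'
    subst this
    rfl
  · rintro ⟨x, ⟨k, hk⟩, hP⟩
    have hkodd : Odd k := by
      rcases Nat.even_or_odd k with ⟨j, rfl⟩ | h
      · exact absurd ⟨j, by omega⟩ (S.not_four_dvd x)
      · exact h
    have hv : orderOf (x ^ k) = 2 := by
      refine orderOf_eq_prime (by rw [← pow_mul, show k * 2 = orderOf x by omega, pow_orderOf_eq_one]) ?_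
      intro e
      have := Nat.le_of_dvd hkodd.pos (orderOf_dvd_of_pow_eq_one e)
      have := hkodd.pos
      omega
    have hh : orderOf (x ^ (k + 1)) = k := by
      rw [orderOf_pow, hk]
      obtain ⟨j, rfl⟩ := hkodd
      have hg : Nat.gcd (2 * j + 1 + (2 * j + 1)) (2 * j + 1 + 1) = 2 := by
        rw [show 2 * j + 1 + (2 * j + 1) = 2 * (2 * j + 1) by ring, show 2 * j + 1 + 1 = 2 * (j + 1) by ring,
          Nat.gcd_mul_left, show 2 * j + 1 = j + (j + 1) by ring]
        rw [Nat.gcd_add_self_left, Nat.gcd_self_add_right]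
        simp
      rw [hg]; omega
    refine ⟨⟨(x ^ k, x ^ (k + 1)), hv, by rw [hh]; exact hkodd, (pow_mul_comm x _ _), ?_⟩, Subtype.ext ?_⟩
    · rw [hh]
      rwa [show orderOf x / 2 = k by omega] at hP
    · show x ^ k * x ^ (k + 1) = x
      rw [← pow_add, show k + (k + 1) = orderOf x + 1 by omega, pow_succ, pow_orderOf_eq_one, one_mul]

theorem pairs_left (P : ℕ → Prop) :
    Nat.card {p : G × G // orderOf p.1 = 2 ∧ Odd (orderOf p.2) ∧ p.2 * p.1 = p.1 * p.2 ∧ P (orderOf p.2)} =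
      Nat.card {v : G // orderOf v = 2} *
        Nat.card {h : G // Odd (orderOf h) ∧ h * S.t = S.t * h ∧ P (orderOf h)} := by
  classical
  haveI := Fintype.ofFinite G
  let e : {p : G × G // orderOf p.1 = 2 ∧ Odd (orderOf p.2) ∧ p.2 * p.1 = p.1 * p.2 ∧ P (orderOf p.2)} ≃
      Σ v : {v : G // orderOf v = 2}, {h : G // Odd (orderOf h) ∧ h * (v : G) = v * h ∧ P (orderOf h)} :=
    { toFun := fun p => ⟨⟨p.1.1, p.2.1⟩, ⟨p.1.2, p.2.2⟩⟩
      invFun := fun s => ⟨(s.1.1, s.2.1), s.1.2, s.2.2⟩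
      left_inv := fun p => rfl
      right_inv := fun s => rfl }
  rw [Nat.card_congr e, Nat.card_sigma, Finset.sum_congr rfl (fun v _ => ?_), Finset.sum_const, Finset.card_univ,
    smul_eq_mul, ← Nat.card_eq_fintype_card]
  obtain ⟨g, hg⟩ := S.inv_conj (v := (v : G)) (by rw [← pow_two]; exact orderOf_dvd_iff_pow_eq_one.1 (dvd_of_eq v.2))
    (fun e => by have := v.2; rw [e, orderOf_one] at this; omega)
  symm
  refine Nat.card_congr ((MulAut.conj g).toEquiv.subtypeEquiv fun h => ?_)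
  simp only [MulEquiv.toEquiv_eq_coe, EquivLike.coe_coe, MulAut.conj_apply, orderOf_conj]
  refine and_congr Iff.rfl (and_congr ?_ Iff.rfl)
  rw [← hg]
  constructor
  · exact fun h' => conj_mem_cent h'
  · intro h'
    have := conj_mem_cent (g := g⁻¹) h'
    simpa [mul_assoc] using this

theorem pairs_right (P : ℕ → Prop) (k : ℕ)
    (hk : ∀ h : G, Odd (orderOf h) → P (orderOf h) → Nat.card {v : G // orderOf v = 2 ∧ h * v = v * h} = k) :
    Nat.card {p : G × G // orderOf p.1 = 2 ∧ Odd (orderOf p.2) ∧ p.2 * p.1 = p.1 * p.2 ∧ P (orderOf p.2)} =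
      k * Nat.card {h : G // Odd (orderOf h) ∧ P (orderOf h)} := by
  classical
  haveI := Fintype.ofFinite G
  let e : {p : G × G // orderOf p.1 = 2 ∧ Odd (orderOf p.2) ∧ p.2 * p.1 = p.1 * p.2 ∧ P (orderOf p.2)} ≃
      Σ h : {h : G // Odd (orderOf h) ∧ P (orderOf h)}, {v : G // orderOf v = 2 ∧ (h : G) * v = v * h} :=
    { toFun := fun p => ⟨⟨p.1.2, p.2.2.1, p.2.2.2.2⟩, ⟨p.1.1, p.2.1, p.2.2.2.1⟩⟩
      invFun := fun s => ⟨(s.2.1, s.1.1), s.2.2.1, s.1.2.1, s.2.2.2, s.1.2.2⟩
      left_inv := fun p => rfl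
      right_inv := fun s => rfl }
  rw [Nat.card_congr e, Nat.card_sigma, Finset.sum_congr rfl (fun (h : {h : G // Odd (orderOf h) ∧ P (orderOf h)}) _ => hk h h.2.1 h.2.2), Finset.sum_const,
    Finset.card_univ, smul_eq_mul, ← Nat.card_eq_fintype_card, mul_comm]

theorem inv_count_conj (g h : G) :
    Nat.card {v : G // orderOf v = 2 ∧ (g * h * g⁻¹) * v = v * (g * h * g⁻¹)} =
      Nat.card {v : G // orderOf v = 2 ∧ h * v = v * h} := by
  symm
  refine Nat.card_congr ((MulAut.conj g).toEquiv.subtypeEquiv fun v => ?_)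
  simp only [MulEquiv.toEquiv_eq_coe, EquivLike.coe_coe, MulAut.conj_apply, orderOf_conj]
  refine and_congr Iff.rfl ?_
  constructor
  · exact fun h' => conj_mem_cent h'
  · intro h'
    have := conj_mem_cent (g := g⁻¹) h'
    simpa [mul_assoc] using this

/-- The involutions commuting with an element of a split torus. -/
theorem inv_count_half {h : G} (hd : orderOf h ∣ (q - 1) / 2) (h1 : h ≠ 1) :
    Nat.card {v : G // orderOf v = 2 ∧ h * v = v * h} = 1 := by
  obtain ⟨A, hA, hAc, hmem, -, hAC⟩ := S.exists_half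
  obtain ⟨g, hg⟩ := hA.exists_conj_of_dvd (hAc.symm ▸ hd) (orderOf_ne_one h1)
  have hg1 : g * h * g⁻¹ ≠ 1 := fun e => h1 (conj_eq_one_iff.1 e)
  rw [← S.inv_count_conj g h]
  set a := g * h * g⁻¹
  refine Nat.card_eq_one_iff_unique.2 ⟨⟨?_⟩, ⟨⟨S.t, orderOf_eq_prime (by rw [pow_two, S.t_sq]) S.t_ne, ?_⟩⟩⟩
  · rintro ⟨v, hv, hc⟩ ⟨v', hv', hc'⟩
    have key : ∀ w, orderOf w = 2 → a * w = w * a → w = S.t := by
      intro w hw hcw
      have hwH : w ∈ S.H := hAC a hg hg1 ▸ mem_cent.2 hcw.symm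
      refine (S.H_inv hwH (by rw [← pow_two, ← hw, pow_orderOf_eq_one])).resolve_left fun e => ?_
      rw [e, orderOf_one] at hw; omega
    exact Subtype.ext ((key v hv hc).trans (key v' hv' hc').symm)
  · exact S.H_comm ((hmem a).1 hg).1 S.t_mem

/-- The involutions commuting with an element of a torus of order `(q + 1)/4`. -/
theorem inv_count_quarter {h : G} (hd : orderOf h ∣ (q + 1) / 4) (h1 : h ≠ 1) :
    Nat.card {v : G // orderOf v = 2 ∧ h * v = v * h} = 3 := by
  classical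
  obtain ⟨s, A, hA⟩ := S.exists_quarter_tor
  obtain ⟨g, hg⟩ := (S.quarter_tor hA).exists_conj_of_dvd (hA.card.symm ▸ hd) (orderOf_ne_one h1)
  have hg1 : g * h * g⁻¹ ≠ 1 := fun e => h1 (conj_eq_one_iff.1 e)
  rw [← S.inv_count_conj g h]
  set a := g * h * g⁻¹
  have hset : {v : G | orderOf v = 2 ∧ a * v = v * a} = (hA.pair.four : Set G) \ {1} := by
    ext v
    constructor
    · rintro ⟨hv, hc⟩
      refine ⟨S.sq_mem_four hA hg hg1 ⟨S.quarter_cent hA hg hg1 (mem_cent.2 hc.symm), mem_cent.2 hc.symm⟩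
        (by rw [← pow_two, ← hv, pow_orderOf_eq_one]), fun e => ?_⟩
      rw [show v = 1 from e, orderOf_one] at hv; omega
    · rintro ⟨hv, hv1⟩
      have hsq : v * v = 1 := by
        rcases hA.pair.mem_four.1 hv with rfl | rfl | rfl | rfl
        · simp
        · exact hA.pair.v_sq
        · exact hA.pair.w_sq
        · exact hA.pair.prod.w_sq
      refine ⟨orderOf_eq_prime (by rw [pow_two, hsq]) hv1, ?_⟩
      have hav : Commute a S.t := mem_cent.1 (hA.le hg).1
      have haw : Commute a s := mem_cent.1 (hA.le hg).2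
      rcases hA.pair.mem_four.1 hv with rfl | rfl | rfl | rfl
      · simp
      · exact hav.eq
      · exact haw.eq
      · exact (hav.mul_right haw).eq
  show Nat.card ↥{v : G | orderOf v = 2 ∧ a * v = v * a} = 3
  rw [hset, Nat.card_coe_set_eq, Set.ncard_sdiff_singleton_of_mem (one_mem _), ← Nat.card_coe_set_eq,
    show Nat.card ↥(hA.pair.four : Set G) = 4 from hA.pair.card_four]

/-- The elements of order dividing nine that centralise `t`. -/
theorem card_cent_nine :
    Nat.card {h : G // Odd (orderOf h) ∧ h * S.t = S.t * h ∧ orderOf h ∣ 9} = q ^ 2 := by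
  have h9 : Nat.card {h : G // Odd (orderOf h) ∧ h * S.t = S.t * h ∧ orderOf h ∣ 9} =
      Nat.card {h : G // h = 1 ∨ (h * S.t = S.t * h ∧ orderOf h = 3)} := by
    refine Nat.card_congr (Equiv.subtypeEquivRight fun h => ?_)
    constructor
    · rintro ⟨-, hc, hd⟩
      obtain ⟨i, hi, hi'⟩ := (Nat.dvd_prime_pow Nat.prime_three).1 (show orderOf h ∣ 3 ^ 2 from hd)
      interval_cases i
      · exact Or.inl (orderOf_eq_one_iff.1 hi')
      · exact Or.inr ⟨hc, hi'⟩
      · exact absurd hi' (S.no_nine_cent hc)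
    · rintro (rfl | ⟨hc, h3⟩)
      · exact ⟨by simp, by simp, by simp⟩
      · exact ⟨h3 ▸ by decide, hc, h3 ▸ by norm_num⟩
  rw [h9, card_or _ _ (fun x hx hx' => by rw [hx, orderOf_one] at hx'; omega), S.card_three_cent,
    Nat.card_unique, pow_two]
  have := S.q_ge
  have : 1 ≤ q * q := Nat.one_le_iff_ne_zero.2 (Nat.mul_ne_zero (by omega) (by omega))
  omega

end Sys

end Cfsg.Agent.ReeLocal
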