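import Cfsg.Agent.ReeLocal.Unipotent
import Cfsg.Agent.RankOne.Inverted

/-!
Four-groups and the tori of order `(q + 1)/4`.
-/

set_option autoImplicit false
set_option linter.unusedSectionVars false
set_option linter.style.haveILetI false

namespace Cfsg.Agent.ReeLocal

open PSLTwo25

variable {G : Type*} [Group G] {F : Type*} [Field F] [Fintype F]

local notation "q" => Fintype.card F

/-- Two distinct commuting involutions. -/
structure Pair (v w : G) : Prop where
  v_sq : v * v = 1
  v_ne : v ≠ 1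
  w_sq : w * w = 1
  w_ne : w ≠ 1
  ne : v ≠ w
  comm : v * w = w * v

theorem Pair.prod {v w : G} (h : Pair v w) : Pair v (v * w) where
  v_sq := h.v_sq
  v_ne := h.v_ne
  w_sq := by
    calc v * w * (v * w) = v * w * (w * v) := by rw [h.comm]
      _ = v * (w * w) * v := by simp [mul_assoc]
      _ = 1 := by rw [h.w_sq, mul_one, h.v_sq]
  w_ne := fun e => h.ne (mul_left_cancel (h.v_sq.trans e.symm))
  ne := fun e => h.w_ne (mul_eq_left.1 e.symm)
  comm := by
    calc v * (v * w) = v * (w * v) := by rw [h.comm]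
      _ = v * w * v := (mul_assoc _ _ _).symm

theorem Pair.symm {v w : G} (h : Pair v w) : Pair w v :=
  ⟨h.w_sq, h.w_ne, h.v_sq, h.v_ne, h.ne.symm, h.comm.symm⟩

/-- The four-group. -/
def Pair.four {v w : G} (h : Pair v w) : Subgroup G := fourOf v w h.v_sq h.w_sq h.comm

theorem Pair.mem_four {v w : G} (h : Pair v w) {x : G} :
    x ∈ h.four ↔ x = 1 ∨ x = v ∨ x = w ∨ x = v * w := mem_fourOf

theorem Pair.card_four {v w : G} (h : Pair v w) : Nat.card h.four = 4 :=
  (isKleinFour_fourOf (hc := h.comm) h.v_ne h.w_ne h.ne).card_four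

/-- The common centraliser. -/
abbrev CV (v w : G) : Subgroup G :=
  Subgroup.centralizer ({v} : Set G) ⊓ Subgroup.centralizer ({w} : Set G)

theorem Pair.four_le {v w : G} (h : Pair v w) : h.four ≤ CV v w := by
  intro x hx
  rcases h.mem_four.1 hx with rfl | rfl | rfl | rfl
  · exact one_mem _
  · exact ⟨mem_cent.2 rfl, mem_cent.2 h.comm⟩
  · exact ⟨mem_cent.2 h.comm.symm, mem_cent.2 rfl⟩
  · exact ⟨mem_cent.2 ((Commute.refl v).mul_left h.comm.symm).eq,
      mem_cent.2 ((show Commute v w from h.comm).mul_left (Commute.refl w)).eq⟩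

/-- The odd part of the common centraliser of two commuting involutions. -/
structure IsQuarter (n : ℕ) (v w : G) (A : Subgroup G) : Prop where
  pair : Pair v w
  le : A ≤ CV v w
  cyclic : IsCyclic A
  card : Nat.card A = n
  normal : ∀ g ∈ CV v w, ∀ a ∈ A, g * a * g⁻¹ ∈ A

theorem three_cycle {X : Type*} {c : X → X} (hc : Function.Injective c) {u₁ u₂ u₃ : X}
    (h₁₂ : u₁ ≠ u₂) (h₁₃ : u₁ ≠ u₃) (h₂₃ : u₂ ≠ u₃) (h₁ : c u₁ = u₂ ∨ c u₁ = u₃) (h₂ : c u₂ = u₁ ∨ c u₂ = u₃)
    (h₃ : c u₃ = u₁ ∨ c u₃ = u₂) : c (c (c u₁)) = u₁ := by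
  have n₁₂ : c u₁ ≠ c u₂ := fun e => h₁₂ (hc e)
  have n₁₃ : c u₁ ≠ c u₃ := fun e => h₁₃ (hc e)
  have n₂₃ : c u₂ ≠ c u₃ := fun e => h₂₃ (hc e)
  rcases h₁ with e₁ | e₁ <;> rcases h₂ with e₂ | e₂ <;> rcases h₃ with e₃ | e₃ <;> simp_all

namespace Sys

variable [Finite G] (S : Sys G F)
include S

theorem pair_transport {v w : G} (h : Pair v w) :
    ∃ g s, Pair S.t s ∧ g * S.t * g⁻¹ = v ∧ g * s * g⁻¹ = w := by
  obtain ⟨g, hg⟩ := S.inv_conj h.v_sq h.v_ne
  refine ⟨g, g⁻¹ * w * g, ⟨S.t_sq, S.t_ne, ?_, ?_, ?_, ?_⟩, hg, by simp [mul_assoc]⟩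
  · calc g⁻¹ * w * g * (g⁻¹ * w * g) = g⁻¹ * (w * w) * g := by simp [mul_assoc]
      _ = 1 := by rw [h.w_sq, mul_one, inv_mul_cancel]
  · intro e
    exact h.w_ne (by simpa [mul_assoc, inv_mul_eq_one, eq_comm] using e)
  · intro e
    apply h.ne
    rw [← hg, e]; simp [mul_assoc]
  · have e := h.comm
    rw [← hg] at e
    calc S.t * (g⁻¹ * w * g) = g⁻¹ * (g * S.t * g⁻¹ * w) * g := by simp [mul_assoc]
      _ = g⁻¹ * (w * (g * S.t * g⁻¹)) * g := by rw [e]
      _ = g⁻¹ * w * g * S.t := by simp [mul_assoc]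

theorem pair_facts {v w : G} (h : Pair v w) :
    Nat.card (CV v w) = 2 * (q + 1) ∧ ∃ A, IsQuarter ((q + 1) / 4) v w A := by
  obtain ⟨g, s, hp, rfl, rfl⟩ := S.pair_transport h
  have hmap : CV (g * S.t * g⁻¹) (g * s * g⁻¹) = (CV S.t s).map (MulAut.conj g).toMonoidHom := by
    rw [CV, CV, cent_conj, cent_conj, Subgroup.map_inf _ _ _ (MulAut.conj g).injective]
  obtain ⟨hcard, A, hle, hcyc, hA, hn⟩ := S.pair_cent hp.w_sq hp.w_ne hp.ne.symm hp.comm.symm
  refine ⟨by rw [hmap, Subgroup.card_map_of_injective (MulAut.conj g).injective]; exact hcard,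
    A.map (MulAut.conj g).toMonoidHom, h, ?_, ?_, ?_, ?_⟩
  · rw [hmap]; exact Subgroup.map_mono hle
  · exact isCyclic_of_surjective (A.equivMapOfInjective _ (MulAut.conj g).injective).toMonoidHom
      (A.equivMapOfInjective _ (MulAut.conj g).injective).surjective
  · rw [Subgroup.card_map_of_injective (MulAut.conj g).injective, hA]
  · rw [hmap]
    rintro _ ⟨x, hx, rfl⟩ _ ⟨a, ha, rfl⟩
    exact ⟨x * a * x⁻¹, hn x hx a ha, by simp [mul_assoc]⟩

theorem cent_inv_comm {v h a c : G} (hv : v * v = 1) (hv1 : v ≠ 1) (hh : Odd (orderOf h)) (h1 : h ≠ 1)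
    (hhv : h * v = v * h) (ha : a * v = v * a) (ha' : a * h = h * a) (hc : c * v = v * c)
    (hc' : c * h = h * c) : a * c = c * a := by
  obtain ⟨g, rfl⟩ := S.inv_conj hv hv1
  have key : ∀ {x y : G}, x * y = y * x → (g⁻¹ * x * g) * (g⁻¹ * y * g) = (g⁻¹ * y * g) * (g⁻¹ * x * g) := by
    intro x y e
    simpa using conj_mem_cent (g := g⁻¹) e
  have hb : g⁻¹ * (g * S.t * g⁻¹) * g = S.t := by simp [mul_assoc]
  have ho : orderOf (g⁻¹ * h * g) = orderOf h := by
    simpa using orderOf_conj g⁻¹ h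
  have := S.cent_t_comm (h := g⁻¹ * h * g) (a := g⁻¹ * a * g) (c := g⁻¹ * c * g) (ho ▸ hh)
    (fun e => h1 (orderOf_eq_one_iff.1 (by rw [← ho, e, orderOf_one])))
    (hb ▸ key hhv) (hb ▸ key ha) (key ha') (hb ▸ key hc) (key hc')
  have e := conj_mem_cent (g := g) this
  simp only [mul_assoc, mul_inv_cancel_left, mul_inv_cancel, mul_one] at e
  exact e

section quarter

variable {v w : G} {A : Subgroup G} (hA : IsQuarter ((Fintype.card F + 1) / 4) v w A)
include hA

theorem quarter_odd {a : G} (ha : a ∈ A) : Odd (orderOf a) :=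
  Odd.of_dvd_nat (hA.card ▸ S.odd_quarter) (A.orderOf_dvd_natCard ha)

theorem quarter_mem {x : G} (hx : x ∈ CV v w) (ho : Odd (orderOf x)) : x ∈ A := by
  refine mem_of_coprime_relIndex hA.normal hA.le hx ?_
  have h := (A.subgroupOf (CV v w)).index_mul_card
  rw [Nat.card_congr (Subgroup.subgroupOfEquivOfLe hA.le).toEquiv, hA.card, (S.pair_facts hA.pair).1] at h
  have h8 : A.relIndex (CV v w) = 8 := by
    have := S.nums
    refine Nat.eq_of_mul_eq_mul_right (show 0 < (q + 1) / 4 by omega) (h.trans ?_)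
    omega
  rw [h8, show (8 : ℕ) = 2 ^ 3 by norm_num]
  exact Nat.Coprime.pow_right 3 (Nat.coprime_two_right.2 ho)

theorem quarter_exists_ne : ∃ a ∈ A, a ≠ 1 := by
  refine A.bot_or_exists_ne_one.resolve_left fun h => ?_
  have := hA.card
  rw [h, Subgroup.card_bot] at this
  have := S.nums
  omega

theorem quarter_comm {a b : G} (ha : a ∈ A) (hb : b ∈ A) : a * b = b * a := by
  haveI := hA.cyclic
  letI := (IsCyclic.commGroup : CommGroup A)
  exact congrArg Subtype.val (mul_comm (⟨a, ha⟩ : A) ⟨b, hb⟩)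

theorem quarter_push {a : G} (ha : a ∈ A) (ha1 : a ≠ 1) {x : G} (hv : x * v = v * x) (hx : x * a = a * x) :
    x * w = w * x :=
  S.cent_inv_comm hA.pair.v_sq hA.pair.v_ne (S.quarter_odd hA ha) ha1 (mem_cent.1 (hA.le ha).1) hv hx
    hA.pair.comm.symm (mem_cent.1 (hA.le ha).2).symm

theorem quarter_push' {a : G} (ha : a ∈ A) (ha1 : a ≠ 1) {x : G} (hw : x * w = w * x) (hx : x * a = a * x) :
    x * v = v * x :=
  S.cent_inv_comm hA.pair.w_sq hA.pair.w_ne (S.quarter_odd hA ha) ha1 (mem_cent.1 (hA.le ha).2) hw hx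
    hA.pair.comm (mem_cent.1 (hA.le ha).1).symm

theorem quarter_push'' {a : G} (ha : a ∈ A) (ha1 : a ≠ 1) {x : G} (hvw : x * (v * w) = v * w * x)
    (hx : x * a = a * x) : x * v = v * x :=
  S.cent_inv_comm hA.pair.prod.w_sq hA.pair.prod.w_ne (S.quarter_odd hA ha) ha1
    ((show Commute a v from mem_cent.1 (hA.le ha).1).mul_right (mem_cent.1 (hA.le ha).2)).eq hvw hx
    hA.pair.prod.comm (mem_cent.1 (hA.le ha).1).symm

theorem card_inf_cent {a : G} (ha : a ∈ A) (ha1 : a ≠ 1) :
    Nat.card ↥(CV v w ⊓ Subgroup.centralizer ({a} : Set G)) = q + 1 := by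
  haveI : Fact (Nat.Prime 2) := ⟨Nat.prime_two⟩
  set K := CV v w ⊓ Subgroup.centralizer ({a} : Set G)
  have hAK : A ≤ K := fun b hb => ⟨hA.le hb, mem_cent.2 (S.quarter_comm hA hb ha)⟩
  have hEK : hA.pair.four ≤ K := by
    intro x hx
    refine ⟨hA.pair.four_le hx, mem_cent.2 ?_⟩
    have hav : Commute a v := mem_cent.1 (hA.le ha).1
    have haw : Commute a w := mem_cent.1 (hA.le ha).2
    rcases hA.pair.mem_four.1 hx with rfl | rfl | rfl | rfl
    · simp
    · exact hav.symm.eq
    · exact haw.symm.eq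
    · exact (hav.mul_right haw).symm.eq
  have hd1 := Subgroup.card_dvd_of_le hAK
  have hd2 := Subgroup.card_dvd_of_le hEK
  rw [hA.card] at hd1
  rw [hA.pair.card_four] at hd2
  have h := S.nums
  have hd : q + 1 ∣ Nat.card K := by
    have hcop : Nat.Coprime 4 ((q + 1) / 4) := by
      rw [show (4 : ℕ) = 2 ^ 2 by norm_num]
      exact Nat.Coprime.pow_left 2 (Nat.coprime_two_left.2 S.odd_quarter)
    have := hcop.mul_dvd_of_dvd_of_dvd hd2 hd1
    rwa [show 4 * ((q + 1) / 4) = q + 1 by omega] at this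
  have hdle : Nat.card K ∣ 2 * (q + 1) :=
    (S.pair_facts hA.pair).1 ▸ Subgroup.card_dvd_of_le inf_le_left
  obtain ⟨c, hc⟩ := hd
  have hc2 : c ∣ 2 := by
    rw [hc, mul_comm 2] at hdle
    exact Nat.dvd_of_mul_dvd_mul_left (by omega) hdle
  rcases (Nat.dvd_prime Nat.prime_two).1 hc2 with rfl | rfl
  · rw [hc, mul_one]
  exfalso
  have hKtop : K = CV v w := Subgroup.eq_of_le_of_card_ge inf_le_left (by
    rw [(S.pair_facts hA.pair).1, hc, mul_comm])
  obtain ⟨T, hT⟩ := (IsPGroup.of_card (n := 2) (hA.pair.card_four.trans (by norm_num)) :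
    IsPGroup 2 hA.pair.four).exists_le_sylow
  have hTK : (T : Subgroup G) ≤ K := by
    rw [hKtop]
    intro x hx
    exact ⟨mem_cent.2 (S.syl_comm T hx (hT (hA.pair.mem_four.2 (.inr (.inl rfl))))),
      mem_cent.2 (S.syl_comm T hx (hT (hA.pair.mem_four.2 (.inr (.inr (.inl rfl))))))⟩
  have haT : a ∈ Subgroup.centralizer ((T : Subgroup G) : Set G) :=
    Subgroup.mem_centralizer_iff.2 fun x hx => mem_cent.1 (hTK hx).2
  rw [(S.sylow_two T).1] at haT
  have h2 : orderOf a ∣ 2 := orderOf_dvd_of_pow_eq_one (by rw [pow_two]; exact (S.syl T).2 a haT)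
  have := Nat.dvd_gcd h2 dvd_rfl
  rw [Nat.Coprime.gcd_eq_one (Nat.coprime_two_left.2 (S.quarter_odd hA ha)), Nat.dvd_one,
    orderOf_eq_one_iff] at this
  exact ha1 this

theorem sq_mem_four {a : G} (ha : a ∈ A) (ha1 : a ≠ 1) {x : G}
    (hx : x ∈ CV v w ⊓ Subgroup.centralizer ({a} : Set G)) (h2 : x * x = 1) : x ∈ hA.pair.four := by
  set K := CV v w ⊓ Subgroup.centralizer ({a} : Set G)
  have hle : hA.pair.four ≤ K := fun y hy => ⟨hA.pair.four_le hy, mem_cent.2 (by
    have hav : Commute a v := mem_cent.1 (hA.le ha).1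
    have haw : Commute a w := mem_cent.1 (hA.le ha).2
    rcases hA.pair.mem_four.1 hy with rfl | rfl | rfl | rfl
    · simp
    · exact hav.symm.eq
    · exact haw.symm.eq
    · exact (hav.mul_right haw).symm.eq)⟩
  refine mem_of_coprime_relIndex (fun g hg y hy => ?_) hle hx ?_
  · have hgy : g * y = y * g := S.cent_inv_comm hA.pair.v_sq hA.pair.v_ne (S.quarter_odd hA ha) ha1
      (mem_cent.1 (hA.le ha).1) (mem_cent.1 hg.1.1) (mem_cent.1 hg.2) (mem_cent.1 (hle hy).1.1)
      (mem_cent.1 (hle hy).2)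
    rw [hgy, mul_inv_cancel_right]; exact hy
  · have h := (hA.pair.four.subgroupOf K).index_mul_card
    rw [Nat.card_congr (Subgroup.subgroupOfEquivOfLe hle).toEquiv, hA.pair.card_four,
      S.card_inf_cent hA ha ha1] at h
    have h4 : hA.pair.four.relIndex K = (q + 1) / 4 := by
      change (hA.pair.four.subgroupOf K).index = _
      omega
    rw [h4]
    refine Nat.Coprime.coprime_dvd_left (orderOf_dvd_of_pow_eq_one (by rw [pow_two]; exact h2)) ?_
    exact Nat.coprime_two_left.2 S.odd_quarter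

theorem quarter_no_three {a y : G} (ha : a ∈ A) (ha1 : a ≠ 1) (hy : orderOf y = 3) : y * a ≠ a * y := by
  intro hc
  have h9 := S.cent_three (u := y) (k := 1) (by rw [pow_one, ← hy, pow_orderOf_eq_one])
    (fun e => by rw [e, orderOf_one] at hy; omega) hc.symm (S.quarter_odd hA ha)
  have hq := hA.card ▸ A.orderOf_dvd_natCard ha
  obtain ⟨p, hp, hpa⟩ := Nat.exists_prime_and_dvd (fun e => ha1 (orderOf_eq_one_iff.1 e))
  have hp3 := Nat.prime_eq_prime_of_dvd_pow hp Nat.prime_three
    (show p ∣ 3 ^ 2 from hpa.trans h9)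
  exact ((S.prime_facts hp).2.1 (hpa.trans hq)).2.1 hp3

set_option maxHeartbeats 500000 in
/-- The centraliser of a non-trivial element of a torus of order `(q + 1)/4`. -/
theorem quarter_cent {a : G} (ha : a ∈ A) (ha1 : a ≠ 1) :
    Subgroup.centralizer ({a} : Set G) ≤ CV v w := by
  classical
  haveI : Fact (Nat.Prime 2) := ⟨Nat.prime_two⟩
  set D := Subgroup.centralizer ({a} : Set G) with hD
  set K := CV v w ⊓ D with hK
  have hED : hA.pair.four ≤ D := by
    intro y hy
    refine mem_cent.2 ?_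
    have hav : Commute a v := mem_cent.1 (hA.le ha).1
    have haw : Commute a w := mem_cent.1 (hA.le ha).2
    rcases hA.pair.mem_four.1 hy with rfl | rfl | rfl | rfl
    · simp
    · exact hav.symm.eq
    · exact haw.symm.eq
    · exact (hav.mul_right haw).symm.eq
  have hP2 : IsPGroup 2 (hA.pair.four.subgroupOf D) :=
    IsPGroup.of_card (n := 2) (by
      rw [Nat.card_congr (Subgroup.subgroupOfEquivOfLe hED).toEquiv, hA.pair.card_four]; norm_num)
  obtain ⟨P, hP⟩ := hP2.exists_le_sylow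
  have hsq : ∀ x ∈ P, (x : G) * x = 1 := fun x hx => by
    obtain ⟨k, hk⟩ := P.isPGroup' ⟨x, hx⟩
    have := congrArg (fun z : P => ((z : D) : G)) hk
    simp only [SubmonoidClass.coe_pow, Subgroup.coe_one] at this
    exact S.two_power_sq this
  have hcomm : ∀ x ∈ P, ∀ y ∈ P, (x : G) * y = y * x := fun x hx y hy => by
    have h1 : ∀ z ∈ P, (z : G)⁻¹ = z := fun z hz => inv_eq_of_mul_eq_one_right (hsq z hz)
    calc (x : G) * y = ((x : G) * y)⁻¹ := (h1 (x * y) (mul_mem hx hy)).symm
      _ = y * x := by rw [_root_.mul_inv_rev, h1 x hx, h1 y hy]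
  have hmem4 : ∀ y, (hy : y ∈ hA.pair.four) → (⟨y, hED hy⟩ : D) ∈ P := fun y hy => hP hy
  have hPE : ∀ x ∈ P, (x : G) ∈ hA.pair.four := by
    intro x hx
    refine S.sq_mem_four hA ha ha1 ⟨⟨mem_cent.2 ?_, mem_cent.2 ?_⟩, x.2⟩ (hsq x hx)
    · exact hcomm x hx _ (hmem4 v (hA.pair.mem_four.2 (.inr (.inl rfl))))
    · exact hcomm x hx _ (hmem4 w (hA.pair.mem_four.2 (.inr (.inr (.inl rfl)))))
  have hNP : Subgroup.normalizer ((P : Subgroup D) : Set D) ≤ Subgroup.centralizer ((P : Subgroup D) : Set D) := by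
    intro n hn
    have hperm : ∀ y ∈ hA.pair.four, (n : G) * y * (n : G)⁻¹ ∈ hA.pair.four := fun y hy =>
      hPE _ ((Subgroup.mem_normalizer_iff.1 hn ⟨y, hED hy⟩).1 (hmem4 y hy))
    -- fixing one of the involutions means centralising
    have hfix : ∀ z : D, (z : G) * v = v * z ∨ (z : G) * w = w * z ∨ (z : G) * (v * w) = v * w * z →
        (z : G) * v = v * z ∧ (z : G) * w = w * z := by
      intro z hz
      have hza : (z : G) * a = a * z := mem_cent.1 z.2
      rcases hz with h | h | h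
      · exact ⟨h, S.quarter_push hA ha ha1 h hza⟩
      · exact ⟨S.quarter_push' hA ha ha1 h hza, h⟩
      · have := S.quarter_push'' hA ha ha1 h hza
        exact ⟨this, S.quarter_push hA ha ha1 this hza⟩
    have hn3 : ∀ y ∈ ({v, w, v * w} : Set G), (n : G) * y * (n : G)⁻¹ ∈ ({v, w, v * w} : Set G) := by
      intro y hy
      have hy4 : y ∈ hA.pair.four ∧ y ≠ 1 := by
        rcases hy with rfl | rfl | rfl
        · exact ⟨hA.pair.mem_four.2 (by tauto), hA.pair.v_ne⟩
        · exact ⟨hA.pair.mem_four.2 (by tauto), hA.pair.w_ne⟩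
        · exact ⟨hA.pair.mem_four.2 (by tauto), hA.pair.prod.w_ne⟩
      rcases hA.pair.mem_four.1 (hperm y hy4.1) with h | h | h | h
      · exact absurd (conj_eq_one_iff.1 h) hy4.2
      · exact Or.inl h
      · exact Or.inr (Or.inl h)
      · exact Or.inr (Or.inr h)
    have hcent : (n : G) * v = v * n ∧ (n : G) * w = w * n := by
      by_contra hc
      have hno : ∀ y ∈ ({v, w, v * w} : Set G), (n : G) * y * (n : G)⁻¹ ≠ y := by
        intro y hy e
        rw [mul_inv_eq_iff_eq_mul] at e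
        refine hc (hfix n ?_)
        rcases hy with rfl | rfl | rfl
        · exact Or.inl e
        · exact Or.inr (Or.inl e)
        · exact Or.inr (Or.inr e)
      set c : G → G := fun y => (n : G) * y * (n : G)⁻¹ with hcdef
      have hinj : Function.Injective c := fun y z h => mul_left_cancel (mul_right_cancel h)
      have h3 : ((n ^ 3 : D) : G) * v = v * (n ^ 3 : D) := by
        rw [SubmonoidClass.coe_pow]
        have hc3 : c (c (c v)) = v := by
          have hv : v ∈ ({v, w, v * w} : Set G) := Or.inl rfl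
          have hw : w ∈ ({v, w, v * w} : Set G) := Or.inr (Or.inl rfl)
          have hu : v * w ∈ ({v, w, v * w} : Set G) := Or.inr (Or.inr rfl)
          refine three_cycle hinj hA.pair.ne hA.pair.prod.ne (fun e => hA.pair.v_ne (mul_eq_right.1 e.symm))
            ((hn3 v hv).resolve_left (hno v hv)) ?_ ?_
          · rcases hn3 w hw with e | e | e
            · exact Or.inl e
            · exact absurd e (hno w hw)
            · exact Or.inr e
          · rcases hn3 _ hu with e | e | e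
            · exact Or.inl e
            · exact Or.inr e
            · exact absurd e (hno _ hu)
        rw [← mul_inv_eq_iff_eq_mul]
        calc (n : G) ^ 3 * v * ((n : G) ^ 3)⁻¹ = c (c (c v)) := by
              simp [c, pow_succ, mul_assoc]
          _ = v := hc3
      obtain ⟨h3v, -⟩ := hfix (n ^ 3) (Or.inl h3)
      by_cases h3d : 3 ∣ orderOf n
      · obtain ⟨k, hk⟩ := h3d
        have hy : orderOf ((n : G) ^ k) = 3 := by
          have := orderOf_pow_orderOf_div (orderOf_pos n).ne' (Dvd.intro k hk.symm : 3 ∣ orderOf n)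
          rw [hk, Nat.mul_div_cancel_left _ (by norm_num)] at this
          rw [← SubmonoidClass.coe_pow, Subgroup.orderOf_coe]
          have h2 : orderOf (n ^ k) = 3 := by
            rw [orderOf_pow_of_dvd (by intro h0; rw [h0, mul_zero] at hk; exact (orderOf_pos n).ne' hk)
              (Dvd.intro_left 3 hk.symm), hk, Nat.mul_div_cancel _ (Nat.pos_of_ne_zero (by
                intro h0; rw [h0, mul_zero] at hk; exact (orderOf_pos n).ne' hk))]
          exact h2
        exact S.quarter_no_three hA ha ha1 hy ((show Commute (n : G) a from mem_cent.1 n.2).pow_left k).eq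
      · obtain ⟨e, he⟩ := exists_pow_eq_self_of_coprime ((Nat.Prime.coprime_iff_not_dvd Nat.prime_three).2 h3d)
        have hv' : (n : G) * v = v * n := by
          have := (show Commute ((n ^ 3 : D) : G) v from h3v).pow_left e
          rw [← SubmonoidClass.coe_pow, he] at this
          exact this.eq
        exact hc (hfix n (Or.inl hv'))
    rw [Subgroup.mem_centralizer_iff]
    intro x hx
    apply Subtype.ext
    show (x : G) * n = n * x
    have hv' : Commute (n : G) v := hcent.1
    have hw' : Commute (n : G) w := hcent.2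
    rcases hA.pair.mem_four.1 (hPE x hx) with h | h | h | h <;> rw [h]
    · simp
    · exact hv'.symm.eq
    · exact hw'.symm.eq
    · exact (hv'.mul_right hw').symm.eq
  set M := (MonoidHom.transferSylow P hNP).ker
  have hcomp : M.IsComplement' (P : Subgroup D) := MonoidHom.ker_transferSylow_isComplement' P hNP
  have hMn : M.Normal := MonoidHom.normal_ker _
  have hModd : Odd (Nat.card (M.map D.subtype)) := by
    rw [Subgroup.card_map_of_injective D.subtype_injective, Nat.odd_iff]
    have h2 := MonoidHom.not_dvd_card_ker_transferSylow P hNP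
    change ¬ 2 ∣ Nat.card M at h2
    omega
  clear_value M
  have hnorm : ∀ y, y ∈ hA.pair.four → ∀ x ∈ M.map D.subtype, y * x * y ∈ M.map D.subtype := by
    rintro y hy _ ⟨x, hx, rfl⟩
    have hy2 : y * y = 1 := hsq (⟨y, hED hy⟩ : D) (hmem4 y hy)
    have hyy : y⁻¹ = y := inv_eq_of_mul_eq_one_right hy2
    refine ⟨⟨y, hED hy⟩ * x * ⟨y, hED hy⟩⁻¹, hMn.conj_mem _ hx _, ?_⟩
    show y * (x : G) * y⁻¹ = y * (x : G) * y
    rw [hyy]
  have hMK : ∀ x ∈ M.map D.subtype, x ∈ K := by
    intro x hx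
    have hv4 : v ∈ hA.pair.four := hA.pair.mem_four.2 (.inr (.inl rfl))
    have hw4 : w ∈ hA.pair.four := hA.pair.mem_four.2 (.inr (.inr (.inl rfl)))
    refine RankOne.mem_of_centralizers_le (t := v) hA.pair.v_sq hModd (hnorm v hv4) (s := w) hA.pair.w_sq
      hA.pair.comm.symm (hnorm w hw4) K ?_ ?_ ?_ hx
    · rintro _ ⟨z, -, rfl⟩ h
      exact ⟨⟨mem_cent.2 h.symm, mem_cent.2 (S.quarter_push hA ha ha1 h.symm (mem_cent.1 z.2))⟩, z.2⟩
    · rintro _ ⟨z, -, rfl⟩ h
      exact ⟨⟨mem_cent.2 (S.quarter_push' hA ha ha1 h.symm (mem_cent.1 z.2)), mem_cent.2 h.symm⟩, z.2⟩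
    · rintro _ ⟨z, -, rfl⟩ h
      have hv := S.quarter_push'' hA ha ha1 h.symm (mem_cent.1 z.2)
      exact ⟨⟨mem_cent.2 hv, mem_cent.2 (S.quarter_push hA ha ha1 hv (mem_cent.1 z.2))⟩, z.2⟩
  intro x hx
  obtain ⟨⟨⟨m, hm⟩, ⟨p, hp⟩⟩, hmp, -⟩ := Subgroup.isComplement_iff_existsUnique.1 hcomp ⟨x, hx⟩
  have e : (m : G) * p = x := congrArg Subtype.val hmp
  rw [← e]
  exact mul_mem (hMK _ ⟨m, hm, rfl⟩).1 (hA.pair.four_le (hPE p hp))

theorem quarter_card_cent {a : G} (ha : a ∈ A) (ha1 : a ≠ 1) :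
    Nat.card (Subgroup.centralizer ({a} : Set G)) = q + 1 := by
  have h := S.card_inf_cent hA ha ha1
  rwa [inf_eq_right.2 (S.quarter_cent hA ha ha1)] at h

theorem quarter_cent_comm {a x y : G} (ha : a ∈ A) (ha1 : a ≠ 1) (hx : x * a = a * x) (hy : y * a = a * y) :
    x * y = y * x :=
  S.cent_inv_comm hA.pair.v_sq hA.pair.v_ne (S.quarter_odd hA ha) ha1 (mem_cent.1 (hA.le ha).1)
    (mem_cent.1 (S.quarter_cent hA ha ha1 (mem_cent.2 hx)).1) hx
    (mem_cent.1 (S.quarter_cent hA ha ha1 (mem_cent.2 hy)).1) hy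

theorem quarter_cent_eq {a b : G} (ha : a ∈ A) (ha1 : a ≠ 1) (hb : b ∈ A) (hb1 : b ≠ 1) :
    Subgroup.centralizer ({a} : Set G) = Subgroup.centralizer ({b} : Set G) :=
  le_antisymm
    (fun _ hx => mem_cent.2 (S.quarter_cent_comm hA ha ha1 (mem_cent.1 hx) (S.quarter_comm hA hb ha)))
    (fun _ hx => mem_cent.2 (S.quarter_cent_comm hA hb hb1 (mem_cent.1 hx) (S.quarter_comm hA ha hb)))

theorem quarter_tor : IsTor A where
  cyclic := hA.cyclic
  oddCard := hA.card ▸ S.odd_quarter
  cent _ ha ha1 _ hb hb1 := S.quarter_cent_eq hA ha ha1 hb hb1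
  mem _ ha ha1 g hg ho := S.quarter_mem hA (S.quarter_cent hA ha ha1 (mem_cent.2 hg)) ho
  hall p hp hd hi := by
    rw [hA.card] at hd
    obtain ⟨hp2, hp3, hpq, hph, hpQ⟩ := (S.prime_facts hp).2.1 hd
    have h := A.index_mul_card
    rw [hA.card, S.card_eq] at h
    have h' : A.index = q ^ 3 * (2 * ((q - 1) / 2)) * (4 * (q ^ 2 - q + 1)) :=
      Nat.eq_of_mul_eq_mul_right (show 0 < (q + 1) / 4 by have := S.nums; omega) (h.trans (by ring))
    rw [h'] at hi
    rcases hp.dvd_mul.1 hi with h1 | h1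
    · rcases hp.dvd_mul.1 h1 with h2 | h2
      · exact hpq (hp.dvd_of_dvd_pow h2)
      · rcases hp.dvd_mul.1 h2 with h3 | h3
        · exact hp2 ((Nat.prime_dvd_prime_iff_eq hp Nat.prime_two).1 h3)
        · exact hph h3
    · rcases hp.dvd_mul.1 h1 with h2 | h2
      · exact hp2 ((Nat.prime_dvd_prime_iff_eq hp Nat.prime_two).1 (hp.dvd_of_dvd_pow (show p ∣ 2 ^ 2 from h2)))
      · exact hpQ h2

/-- The normaliser of a four-group is the normaliser of the torus. -/
theorem quarter_normalizer_eq :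
    Subgroup.normalizer (A : Set G) = Subgroup.normalizer (hA.pair.four : Set G) := by
  obtain ⟨a, ha, ha1⟩ := S.quarter_exists_ne hA
  apply le_antisymm
  · intro g hg
    rw [Subgroup.mem_normalizer_iff]
    have key : ∀ g ∈ Subgroup.normalizer (A : Set G), ∀ y ∈ hA.pair.four, g * y * g⁻¹ ∈ hA.pair.four := by
      intro g hg y hy
      have hga : g * a * g⁻¹ ∈ A := (Subgroup.mem_normalizer_iff.1 hg a).1 ha
      have hga1 : g * a * g⁻¹ ≠ 1 := fun e => ha1 (conj_eq_one_iff.1 e)
      have hya : y * a = a * y := by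
        have hav : Commute a v := mem_cent.1 (hA.le ha).1
        have haw : Commute a w := mem_cent.1 (hA.le ha).2
        rcases hA.pair.mem_four.1 hy with rfl | rfl | rfl | rfl
        · simp
        · exact hav.symm.eq
        · exact haw.symm.eq
        · exact (hav.mul_right haw).symm.eq
      have hc := mem_cent.2 (conj_mem_cent (g := g) hya)
      refine S.sq_mem_four hA hga hga1 ⟨S.quarter_cent hA hga hga1 hc, hc⟩ ?_
      have : y * y = 1 := by
        rcases hA.pair.mem_four.1 hy with rfl | rfl | rfl | rfl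
        · simp
        · exact hA.pair.v_sq
        · exact hA.pair.w_sq
        · exact hA.pair.prod.w_sq
      calc g * y * g⁻¹ * (g * y * g⁻¹) = g * (y * y) * g⁻¹ := by simp [mul_assoc]
        _ = 1 := by rw [this, mul_one, mul_inv_cancel]
    intro y
    refine ⟨key g hg y, fun h => ?_⟩
    have := key g⁻¹ (inv_mem hg) _ h
    simpa [mul_assoc] using this
  · intro g hg
    rw [Subgroup.mem_normalizer_iff]
    have key : ∀ g ∈ Subgroup.normalizer (hA.pair.four : Set G), ∀ b ∈ A, g * b * g⁻¹ ∈ A := by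
      intro g hg b hb
      refine S.quarter_mem hA ⟨mem_cent.2 ?_, mem_cent.2 ?_⟩ (by rw [orderOf_conj]; exact S.quarter_odd hA hb)
      all_goals
        have hbv : Commute b v := mem_cent.1 (hA.le hb).1
        have hbw : Commute b w := mem_cent.1 (hA.le hb).2
        have hinv : ∀ y, y ∈ hA.pair.four → (g * b * g⁻¹) * y = y * (g * b * g⁻¹) := by
          intro y hy
          have h := (Subgroup.mem_normalizer_iff.1 (inv_mem hg) y).1 hy
          rw [inv_inv] at h
          have hcy : b * (g⁻¹ * y * g) = g⁻¹ * y * g * b := by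
            rcases hA.pair.mem_four.1 h with e | e | e | e <;> rw [e]
            · simp
            · exact hbv.eq
            · exact hbw.eq
            · exact (hbv.mul_right hbw).eq
          simpa [mul_assoc] using conj_mem_cent (g := g) hcy
        apply hinv
        exact hA.pair.mem_four.2 (by tauto)
    intro y
    refine ⟨key g hg y, fun h => ?_⟩
    have := key g⁻¹ (inv_mem hg) _ h
    simpa [mul_assoc] using this

end quarter

/-- An element moving `t` to `s` inside their four-group. -/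
theorem exists_move_t {s : G} (hp : Pair S.t s) :
    ∃ g, g * S.t * g⁻¹ = s ∧ (g * s * g⁻¹ = S.t ∨ g * s * g⁻¹ = S.t * s) := by
  haveI : Fact (Nat.Prime 2) := ⟨Nat.prime_two⟩
  haveI := S.charP
  obtain ⟨T, hT⟩ := (IsPGroup.of_card (n := 2) (hp.card_four.trans (by norm_num)) :
    IsPGroup 2 hp.four).exists_le_sylow
  have hTt : S.t ∈ T := hT (hp.mem_four.2 (.inr (.inl rfl)))
  have hTs : s ∈ T := hT (hp.mem_four.2 (.inr (.inr (.inl rfl))))
  obtain ⟨n, hn, hns⟩ := S.syl_orbit T hTt s hTs hp.w_ne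
  set x := n⁻¹ * S.t * n with hx
  have hxT : x ∈ T := by
    have := (Subgroup.mem_normalizer_iff.1 (inv_mem hn) S.t).1 hTt
    rwa [inv_inv] at this
  have hx1 : x ≠ 1 := fun e => S.t_ne (by
    have h : S.t = n * x * n⁻¹ := by rw [hx]; simp [mul_assoc]
    rw [h, e]; simp)
  have hxt : x ≠ S.t := fun e => hp.ne (by
    rw [← hns]
    nth_rewrite 2 [← e]
    rw [hx]; simp [mul_assoc])
  set x' : Subgroup.centralizer ({S.t} : Set G) := ⟨x, mem_cent.2 (S.syl_comm T hxT hTt)⟩
  set s' : Subgroup.centralizer ({S.t} : Set G) := ⟨s, mem_cent.2 (S.syl_comm T hTs hTt)⟩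
  obtain ⟨l, hl, hlc⟩ := (klein_normalizer (F := F) S.q_mod (S.klein_imageT T hTt)).2 (S.proj s') ⟨s', hTs, rfl⟩
    (S.proj x') ⟨x', hxT, rfl⟩
    (fun e => by rcases S.proj_eq_one.1 e with h | h; exacts [hp.w_ne h, hp.ne h.symm])
    (fun e => by rcases S.proj_eq_one.1 e with h | h; exacts [hx1 h, hxt h])
  set m : Subgroup.centralizer ({S.t} : Set G) := ⟨S.inj l, S.inj_mem l⟩ with hm
  have hmp : S.proj (x'⁻¹ * (m * s' * m⁻¹)) = 1 := by
    rw [map_mul, map_inv, map_mul, map_mul, map_inv, hm, S.proj_inj, hlc, inv_mul_cancel]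
  refine ⟨n * (m : G), ?_, ?_⟩
  · calc n * (m : G) * S.t * (n * (m : G))⁻¹ = n * ((m : G) * S.t * (m : G)⁻¹) * n⁻¹ := by simp [mul_assoc]
      _ = s := by rw [mem_cent.1 m.2, mul_inv_cancel_right, hns]
  · have e1 : n * (m : G) * s * (n * (m : G))⁻¹ = n * ((m : G) * s * (m : G)⁻¹) * n⁻¹ := by simp [mul_assoc]
    rcases S.proj_eq_one.1 hmp with h | h
    · left
      rw [Subgroup.coe_mul, Subgroup.coe_inv, inv_mul_eq_one] at h
      rw [e1, show (m : G) * s * (m : G)⁻¹ = x from h.symm, hx]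
      simp [mul_assoc]
    · right
      rw [Subgroup.coe_mul, Subgroup.coe_inv, inv_mul_eq_iff_eq_mul] at h
      rw [e1, show (m : G) * s * (m : G)⁻¹ = x * S.t from h, hx]
      calc n * (n⁻¹ * S.t * n * S.t) * n⁻¹ = S.t * (n * S.t * n⁻¹) := by simp [mul_assoc]
        _ = S.t * s := by rw [hns]

theorem card_normalizer_four {v w : G} (h : Pair v w) :
    Nat.card (Subgroup.normalizer (h.four : Set G)) = 6 * (q + 1) := by
  classical
  haveI : Fact (Nat.Prime 2) := ⟨Nat.prime_two⟩
  obtain ⟨g, s, hp, hgv, hgw⟩ := S.pair_transport h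
  obtain ⟨k, hkt, hks⟩ := S.exists_move_t hp
  set N := Subgroup.normalizer (h.four : Set G) with hN
  -- the stabiliser of `v`
  have hstab : N ⊓ Subgroup.centralizer ({v} : Set G) = CV v w := by
    apply le_antisymm
    · rintro x ⟨hxN, hxv⟩
      refine ⟨hxv, mem_cent.2 ?_⟩
      have hxv' : Commute x v := mem_cent.1 hxv
      rcases h.mem_four.1 ((Subgroup.mem_normalizer_iff.1 hxN w).1 (h.mem_four.2 (.inr (.inr (.inl rfl))))) with e | e | e | e
      · exact absurd (conj_eq_one_iff.1 e) h.w_ne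
      · refine absurd ?_ h.ne
        rw [mul_inv_eq_iff_eq_mul, ← hxv'.eq] at e
        exact (mul_left_cancel e).symm
      · exact mul_inv_eq_iff_eq_mul.1 e
      · exfalso
        -- an element exchanging `w` and `v * w`
        have hpow : ∀ i : ℕ, x ^ (2 * i) * w * (x ^ (2 * i))⁻¹ = w ∧
            x ^ (2 * i + 1) * w * (x ^ (2 * i + 1))⁻¹ = v * w := by
          intro i
          induction i with
          | zero => exact ⟨by simp, by simpa using e⟩
          | succ i ih =>
            have h1 : x ^ (2 * (i + 1)) * w * (x ^ (2 * (i + 1)))⁻¹ = w := by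
              rw [show 2 * (i + 1) = (2 * i + 1) + 1 by ring, pow_succ' x, _root_.mul_inv_rev]
              calc x * x ^ (2 * i + 1) * w * ((x ^ (2 * i + 1))⁻¹ * x⁻¹)
                  = x * (x ^ (2 * i + 1) * w * (x ^ (2 * i + 1))⁻¹) * x⁻¹ := by simp [mul_assoc]
                _ = x * (v * w) * x⁻¹ := by rw [ih.2]
                _ = (x * v * x⁻¹) * (x * w * x⁻¹) := by simp [mul_assoc]
                _ = v * (v * w) := by rw [e, hxv'.eq, mul_inv_cancel_right]
                _ = w := by rw [← mul_assoc, h.v_sq, one_mul]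
            refine ⟨h1, ?_⟩
            rw [pow_succ' x, _root_.mul_inv_rev]
            calc x * x ^ (2 * (i + 1)) * w * ((x ^ (2 * (i + 1)))⁻¹ * x⁻¹)
                = x * (x ^ (2 * (i + 1)) * w * (x ^ (2 * (i + 1)))⁻¹) * x⁻¹ := by simp [mul_assoc]
              _ = v * w := by rw [h1, e]
        rcases Nat.even_or_odd (orderOf x) with ⟨i, hi⟩ | ⟨i, hi⟩
        · have h4 := S.not_four_dvd x
          rcases Nat.even_or_odd i with ⟨j, rfl⟩ | ⟨j, rfl⟩
          · exact h4 ⟨j, by omega⟩
          · set y := x ^ (2 * j + 1) with hy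
            have hyy : y * y = 1 := by rw [hy, ← pow_add, ← hi, pow_orderOf_eq_one]
            have hyi : y⁻¹ = y := inv_eq_of_mul_eq_one_right hyy
            have hyw : y * w * y = v * w := by
              have := (hpow j).2
              rwa [← hy, hyi] at this
            have hsq : (y * w) * (y * w) = v := by
              calc y * w * (y * w) = (y * w * y) * w := by simp [mul_assoc]
                _ = v := by rw [hyw, mul_assoc, h.w_sq, mul_one]
            have ho : orderOf (y * w) = 4 := by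
              refine (orderOf_eq_iff (by norm_num)).2 ⟨?_, fun m hm hm0 hc => ?_⟩
              · rw [show (4 : ℕ) = 2 * 2 by norm_num, pow_mul, pow_two (y * w), hsq, pow_two, h.v_sq]
              · interval_cases m
                · rw [pow_one] at hc
                  rw [hc, one_mul] at hsq
                  exact h.v_ne hsq.symm
                · rw [pow_two, hsq] at hc; exact h.v_ne hc
                · rw [pow_succ, pow_two, hsq] at hc
                  have : y * w = v := by
                    rw [mul_eq_one_iff_eq_inv'] at hc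
                    rw [hc, inv_eq_of_mul_eq_one_right h.v_sq]
                  rw [this] at hsq
                  exact h.v_ne (hsq.symm.trans h.v_sq)
            exact S.not_four_dvd (y * w) (ho ▸ dvd_rfl)
        · have := (hpow i).2
          rw [← hi, pow_orderOf_eq_one] at this
          rw [one_mul, inv_one, mul_one] at this
          exact h.v_ne (mul_eq_right.1 this.symm)
    · intro x hx
      refine ⟨Subgroup.mem_normalizer_iff.2 fun y => ?_, hx.1⟩
      have hc : ∀ z ∈ h.four, x * z * x⁻¹ = z := by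
        intro z hz
        have hxv : Commute x v := mem_cent.1 hx.1
        have hxw : Commute x w := mem_cent.1 hx.2
        rw [mul_inv_eq_iff_eq_mul]
        rcases h.mem_four.1 hz with rfl | rfl | rfl | rfl
        · simp
        · exact hxv.eq
        · exact hxw.eq
        · exact (hxv.mul_right hxw).eq
      refine ⟨fun hy => by rw [hc y hy]; exact hy, fun hy => ?_⟩
      have := hc _ hy
      rw [mul_inv_eq_iff_eq_mul] at this
      have e2 := mul_left_cancel (this.trans (by simp [mul_assoc] : x * y * x⁻¹ * x = x * y))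
      rwa [e2] at hy
  -- an element moving `v`
  have hmove : g * k * g⁻¹ ∈ N ∧ g * k * g⁻¹ * v * (g * k * g⁻¹)⁻¹ = w := by
    have e1 : g * k * g⁻¹ * v * (g * k * g⁻¹)⁻¹ = w := by
      rw [← hgv, ← hgw, ← hkt]; simp [mul_assoc]
    have e2 : g * k * g⁻¹ * w * (g * k * g⁻¹)⁻¹ = g * (k * s * k⁻¹) * g⁻¹ := by
      rw [← hgw]; simp [mul_assoc]
    refine ⟨?_, e1⟩
    have hin : ∀ z ∈ h.four, g * k * g⁻¹ * z * (g * k * g⁻¹)⁻¹ ∈ h.four := by
      intro z hz
      have hvm : v ∈ h.four := h.mem_four.2 (.inr (.inl rfl))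
      have hwm : w ∈ h.four := h.mem_four.2 (.inr (.inr (.inl rfl)))
      have e2m : g * k * g⁻¹ * w * (g * k * g⁻¹)⁻¹ ∈ h.four := by
        rw [e2]
        rcases hks with e | e <;> rw [e]
        · rw [hgv]; exact hvm
        · rw [show g * (S.t * s) * g⁻¹ = (g * S.t * g⁻¹) * (g * s * g⁻¹) by simp [mul_assoc], hgv, hgw]
          exact mul_mem hvm hwm
      rcases h.mem_four.1 hz with rfl | rfl | rfl | rfl
      · simp
      · rw [e1]; exact hwm
      · exact e2m
      · rw [← conj_mul, e1]; exact mul_mem hwm e2m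
    have hfin : (h.four).map (MulAut.conj (g * k * g⁻¹)).toMonoidHom = h.four :=
      Subgroup.eq_of_le_of_card_ge (by rintro _ ⟨z, hz, rfl⟩; exact hin z hz)
        (by rw [Subgroup.card_map_of_injective (MulAut.conj _).injective])
    rw [hN, Subgroup.mem_normalizer_iff]
    intro z
    refine ⟨hin z, fun hz => ?_⟩
    rw [← hfin] at hz
    obtain ⟨y, hy, e⟩ := hz
    exact (MulAut.conj (g * k * g⁻¹)).injective e ▸ hy
  have hcard := card_conjugates N v
  rw [hstab, (S.pair_facts h).1] at hcard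
  set O : Set G := {y | ∃ n ∈ N, n * v * n⁻¹ = y}
  have hO : Nat.card {y : G // ∃ n ∈ N, n * v * n⁻¹ = y} = O.ncard := Nat.card_coe_set_eq O
  rw [hO] at hcard
  have hsub : O ⊆ {v, w, v * w} := by
    rintro _ ⟨n, hn, rfl⟩
    rcases h.mem_four.1 ((Subgroup.mem_normalizer_iff.1 hn v).1 (h.mem_four.2 (.inr (.inl rfl)))) with e | e | e | e
    · exact absurd (conj_eq_one_iff.1 e) h.v_ne
    · exact Or.inl e
    · exact Or.inr (Or.inl e)
    · exact Or.inr (Or.inr e)
  have hpair : ({v, w} : Set G) ⊆ O := by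
    rintro y (rfl | rfl)
    · exact ⟨1, one_mem _, by simp⟩
    · exact ⟨_, hmove.1, hmove.2⟩
  have h2 : 2 ≤ O.ncard := by
    rw [← Set.ncard_pair h.ne]; exact Set.ncard_le_ncard hpair (Set.toFinite _)
  have h3 : O.ncard ≤ 3 := by
    refine (Set.ncard_le_ncard hsub (Set.toFinite _)).trans ?_
    refine (Set.ncard_insert_le _ _).trans ?_
    have := Set.ncard_insert_le w ({v * w} : Set G)
    rw [Set.ncard_singleton] at this
    omega
  rcases (show O.ncard = 2 ∨ O.ncard = 3 by omega) with e | e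
  · exfalso
    rw [e] at hcard
    obtain ⟨T, hT⟩ := S.exists_sylow_t
    have h16 : 2 ^ 4 ∣ Nat.card G := by
      refine Dvd.dvd.trans ?_ (Subgroup.card_subgroup_dvd_card N)
      rw [← hcard]
      have := S.nums
      exact ⟨(q + 1) / 4, by omega⟩
    have h8 := T.card_eq_multiplicity
    rw [(S.syl T).1] at h8
    have hge : 4 ≤ (Nat.card G).factorization 2 :=
      (Nat.prime_two.pow_dvd_iff_le_factorization Nat.card_pos.ne').1 h16
    have := Nat.pow_le_pow_right two_pos hge
    omega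
  · rw [← hcard, e]; ring

end Sys

end Cfsg.Agent.ReeLocal
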