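import Cfsg.Agent.ReeLocal.Classes

/-!
Tori, element orders and element counts of the small Ree groups.
-/

set_option autoImplicit false
set_option linter.unusedSectionVars false
set_option linter.style.haveILetI false

namespace Cfsg.Agent.ReeLocal

variable {G : Type*} [Group G] {F : Type*} [Field F] [Fintype F]

local notation "q" => Fintype.card F

theorem exists_orderOf_of_dvd [Finite G] {x : G} {d : ℕ} (hd : d ∣ orderOf x) : ∃ g : G, orderOf g = d :=
  ⟨x ^ (orderOf x / d), orderOf_pow_orderOf_div (orderOf_pos x).ne' hd⟩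

namespace IsTor

variable [Finite G] {A : Subgroup G} (hA : IsTor A)
include hA

/-- Centralisers of the subgroups of a conjugate. -/
theorem centralizer_conj {C : Subgroup G} (hC : ∀ a ∈ A, a ≠ 1 → Subgroup.centralizer ({a} : Set G) = C)
    (g : G) {A₀ : Subgroup G} (hle : A₀ ≤ A.map (MulAut.conj g).toMonoidHom) (h0 : A₀ ≠ ⊥) :
    Subgroup.centralizer (A₀ : Set G) = C.map (MulAut.conj g).toMonoidHom := by
  apply le_antisymm
  · obtain ⟨x, hx, hx1⟩ := A₀.bot_or_exists_ne_one.resolve_left h0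
    obtain ⟨a, ha, rfl⟩ := hle hx
    have ha1 : a ≠ 1 := fun e => hx1 (by rw [e, map_one])
    intro c hc
    rw [← hC a ha ha1, ← cent_conj]
    exact mem_cent.2 (Subgroup.mem_centralizer_iff.1 hc _ hx).symm
  · rintro _ ⟨c, hc, rfl⟩
    rw [Subgroup.mem_centralizer_iff]
    intro y hy
    obtain ⟨b, hb, rfl⟩ := hle hy
    by_cases hb1 : b = 1
    · simp [hb1]
    · rw [← hC b hb hb1] at hc
      rw [← map_mul, ← map_mul, mem_cent.1 hc]

end IsTor

namespace Sys

variable [Finite G] (S : Sys G F)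
include S

theorem index_half {A : Subgroup G} (hN : Nat.card (Subgroup.normalizer (A : Set G)) = 2 * (q - 1)) :
    (Subgroup.normalizer (A : Set G)).index * 2 = q ^ 3 * (q ^ 3 + 1) := by
  have hnum := S.nums
  have h := (Subgroup.normalizer (A : Set G)).index_mul_card
  rw [hN, S.cardG] at h
  exact Nat.eq_of_mul_eq_mul_right (show 0 < q - 1 by omega) (by rw [mul_assoc, h]; ring)

theorem index_quarter {A : Subgroup G} (hN : Nat.card (Subgroup.normalizer (A : Set G)) = 6 * (q + 1)) :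
    (Subgroup.normalizer (A : Set G)).index * 6 = q ^ 3 * (q - 1) * (q ^ 2 - q + 1) := by
  have hnum := S.nums
  have h := (Subgroup.normalizer (A : Set G)).index_mul_card
  rw [hN, S.cardG, S.cube_add] at h
  exact Nat.eq_of_mul_eq_mul_right (show 0 < q + 1 by omega) (by rw [mul_assoc, h]; ring)

/-- The four families of tori. -/
theorem tori : ∀ kn ∈ ({((q - 1) / 2, 2 * (q - 1)), ((q + 1) / 4, 6 * (q + 1)),
      (q - 3 ^ (S.m + 1) + 1, 6 * (q - 3 ^ (S.m + 1) + 1)),
      (q + 3 ^ (S.m + 1) + 1, 6 * (q + 3 ^ (S.m + 1) + 1))} : Set (ℕ × ℕ)),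
    ∃ A : Subgroup G, IsTor A ∧ Nat.card A = kn.1 ∧ Nat.card (Subgroup.normalizer (A : Set G)) = kn.2 := by
  intro kn hkn
  simp only [Set.mem_insert_iff, Set.mem_singleton_iff] at hkn
  obtain ⟨T₁, T₂, hT₁, hT₂, hc₁, hc₂, -, hN₁, hN₂, -⟩ := S.two_classes
  rcases hkn with rfl | rfl | rfl | rfl
  · obtain ⟨A, hA, hAc, -, hN, -⟩ := S.exists_half
    exact ⟨A, hA, hAc, hN⟩
  · obtain ⟨s, A, hA⟩ := S.exists_quarter_tor
    exact ⟨A, S.quarter_tor hA, hA.card, by rw [S.quarter_normalizer_eq hA, S.card_normalizer_four hA.pair]⟩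
  · exact ⟨T₁, hT₁, hc₁, by rw [hN₁, hc₁]⟩
  · exact ⟨T₂, hT₂, hc₂, by rw [hN₂, hc₂]⟩

theorem exists_tor_of_dvd {d : ℕ} (hd : d ∣ (q - 1) / 2 ∨ d ∣ (q + 1) / 4 ∨ d ∣ q - 3 ^ (S.m + 1) + 1 ∨
    d ∣ q + 3 ^ (S.m + 1) + 1) : ∃ A : Subgroup G, IsTor A ∧ d ∣ Nat.card A := by
  rcases hd with h | h | h | h
  · obtain ⟨A, hA, hc, -⟩ := S.tori _ (Or.inl rfl)
    exact ⟨A, hA, by rw [hc]; exact h⟩
  · obtain ⟨A, hA, hc, -⟩ := S.tori _ (Or.inr (Or.inl rfl))
    exact ⟨A, hA, by rw [hc]; exact h⟩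
  · obtain ⟨A, hA, hc, -⟩ := S.tori _ (Or.inr (Or.inr (Or.inl rfl)))
    exact ⟨A, hA, by rw [hc]; exact h⟩
  · obtain ⟨A, hA, hc, -⟩ := S.tori _ (Or.inr (Or.inr (Or.inr rfl)))
    exact ⟨A, hA, by rw [hc]; exact h⟩

/-- Centralisers of the tori of orders `(q - 1)/2` and `(q + 1)/4`. -/
theorem centralizers (H : Subgroup G) (hH : IsCyclic H) :
    (Nat.card H = (q - 1) / 2 →
      IsCyclic ↥(Subgroup.centralizer (H : Set G)) ∧ Nat.card ↥(Subgroup.centralizer (H : Set G)) = q - 1 ∧
        ∀ A : Subgroup G, A ≤ H → A ≠ ⊥ →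
          Subgroup.centralizer (A : Set G) = Subgroup.centralizer (H : Set G)) ∧
    (Nat.card H = (q + 1) / 4 →
      IsMulCommutative ↥(Subgroup.centralizer (H : Set G)) ∧
        Nat.card ↥(Subgroup.centralizer (H : Set G)) = q + 1 ∧
        (∀ x ∈ Subgroup.centralizer (H : Set G), orderOf x ≠ 4) ∧
        ∀ A : Subgroup G, A ≤ H → A ≠ ⊥ →
          Subgroup.centralizer (A : Set G) = Subgroup.centralizer (H : Set G)) := by
  have hnum := S.nums
  constructor
  · intro hc
    obtain ⟨A, hA, hAc, -, -, hAC⟩ := S.exists_half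
    obtain ⟨g, rfl⟩ := hA.cyclic_conj hA.cyclic hH dvd_rfl (hc.trans hAc.symm)
    have hne : A.map (MulAut.conj g).toMonoidHom ≠ ⊥ := fun e => by
      rw [e, Subgroup.card_bot] at hc; omega
    rw [hA.centralizer_conj hAC g le_rfl hne]
    refine ⟨?_, ?_, fun A₀ h h0 => hA.centralizer_conj hAC g h h0⟩
    · haveI := S.H_cyclic
      exact isCyclic_of_surjective (S.H.equivMapOfInjective _ (MulAut.conj g).injective).toMonoidHom
        (S.H.equivMapOfInjective _ (MulAut.conj g).injective).surjective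
    · rw [Subgroup.card_map_of_injective (MulAut.conj g).injective, S.H_card]
  · intro hc
    obtain ⟨s, A, hQ⟩ := S.exists_quarter_tor
    have hA := S.quarter_tor hQ
    obtain ⟨a, ha, ha1⟩ := S.quarter_exists_ne hQ
    have hAC : ∀ b ∈ A, b ≠ 1 → Subgroup.centralizer ({b} : Set G) = Subgroup.centralizer ({a} : Set G) :=
      fun b hb hb1 => S.quarter_cent_eq hQ hb hb1 ha ha1
    obtain ⟨g, rfl⟩ := hA.cyclic_conj hA.cyclic hH dvd_rfl (hc.trans hQ.card.symm)
    have hne : A.map (MulAut.conj g).toMonoidHom ≠ ⊥ := fun e => by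
      rw [e, Subgroup.card_bot] at hc; omega
    rw [hA.centralizer_conj hAC g le_rfl hne]
    refine ⟨⟨⟨?_⟩⟩, ?_, fun x _ => fun e => S.not_four_dvd x (e ▸ dvd_rfl),
      fun A₀ h h0 => hA.centralizer_conj hAC g h h0⟩
    · rintro ⟨_, x, hx, rfl⟩ ⟨_, y, hy, rfl⟩
      refine Subtype.ext ?_
      show MulAut.conj g x * MulAut.conj g y = MulAut.conj g y * MulAut.conj g x
      rw [← map_mul, ← map_mul, S.quarter_cent_comm hQ ha ha1 (mem_cent.1 hx) (mem_cent.1 hy)]
    · rw [Subgroup.card_map_of_injective (MulAut.conj g).injective, S.quarter_card_cent hQ ha ha1]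

/-- The element orders. -/
theorem element_orders (d : ℕ) :
    (∃ g : G, orderOf g = d) ↔
      (d ∣ 6 ∨ d ∣ 9 ∨ d ∣ q - 1 ∨ d ∣ (q + 1) / 2 ∨
        d ∣ q - 3 ^ (S.m + 1) + 1 ∨ d ∣ q + 3 ^ (S.m + 1) + 1) := by
  classical
  have hnum := S.nums
  obtain ⟨T₁, T₂, hT₁, hT₂, hc₁, hc₂, -, -, -, hsplit⟩ := S.two_classes
  constructor
  · rintro ⟨g, rfl⟩
    rcases Nat.even_or_odd (orderOf g) with ⟨k, hk⟩ | ho
    · have hkodd : Odd k := by
        rcases Nat.even_or_odd k with ⟨j, rfl⟩ | h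
        · exact absurd ⟨j, by omega⟩ (S.not_four_dvd g)
        · exact h
      have hv : orderOf (g ^ k) = 2 := by
        have := orderOf_pow_orderOf_div (orderOf_pos g).ne' (show 2 ∣ orderOf g from ⟨k, by omega⟩)
        rwa [show orderOf g / 2 = k by omega] at this
      have hh : orderOf (g ^ 2) = k := by
        rw [orderOf_pow, hk, Nat.gcd_eq_right ⟨k, by omega⟩]
        omega
      obtain ⟨c, hc⟩ := S.inv_conj (v := g ^ k) (by rw [← pow_two]; exact orderOf_dvd_iff_pow_eq_one.1 (dvd_of_eq hv))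
        (fun e => by rw [e, orderOf_one] at hv; omega)
      have hy : c⁻¹ * g ^ 2 * c * S.t = S.t * (c⁻¹ * g ^ 2 * c) := by
        have h := conj_mem_cent (g := c⁻¹) (pow_mul_comm g 2 k)
        rw [← hc] at h
        simpa [mul_assoc] using h
      have hyo : orderOf (c⁻¹ * g ^ 2 * c) = k := by
        rw [← hh]; simpa using orderOf_conj c⁻¹ (g ^ 2)
      have hcase := S.odd_cases (x := g ^ 2) (by rw [hh]; exact hkodd)
      rw [hh] at hcase
      have h2 : orderOf g = 2 * k := by omega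
      rw [h2]
      rcases hcase with h | h | h | h
      · left
        obtain ⟨i, hi, rfl⟩ := (Nat.dvd_prime_pow Nat.prime_three).1 (show k ∣ 3 ^ 2 from h)
        have : i ≠ 2 := by
          rintro rfl
          exact S.no_nine_cent hy (by rw [hyo]; norm_num)
        interval_cases i <;> first | exact absurd rfl this | norm_num
      · right; right; left
        rw [show q - 1 = 2 * ((q - 1) / 2) by omega]
        exact Nat.mul_dvd_mul_left 2 h
      · right; right; right; left
        rw [show (q + 1) / 2 = 2 * ((q + 1) / 4) by omega]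
        exact Nat.mul_dvd_mul_left 2 h
      · left
        have hone := S.big_not_cent hy (hyo.symm ▸ h)
        rw [hone, orderOf_one] at hyo
        rw [← hyo]; norm_num
    · rcases S.odd_cases ho with h | h | h | h
      · exact Or.inr (Or.inl h)
      · exact Or.inr (Or.inr (Or.inl (h.trans ⟨2, by omega⟩)))
      · exact Or.inr (Or.inr (Or.inr (Or.inl (h.trans ⟨2, by omega⟩))))
      · rcases hsplit g h with h | h
        · exact Or.inr (Or.inr (Or.inr (Or.inr (Or.inl (hc₁ ▸ h)))))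
        · exact Or.inr (Or.inr (Or.inr (Or.inr (Or.inr (hc₂ ▸ h)))))
  · have hcomb : ∀ x : G, x * S.t = S.t * x → Odd (orderOf x) → orderOf (S.t * x) = 2 * orderOf x := by
      intro x hx ho
      have ht2 : orderOf S.t = 2 := orderOf_eq_prime (by rw [pow_two, S.t_sq]) S.t_ne
      rw [(show Commute S.t x from hx.symm).orderOf_mul_eq_mul_orderOf_of_coprime
        (by rw [ht2]; exact Nat.coprime_two_left.2 ho), ht2]
    rintro (h | h | h | h | h | h)
    · have hpos : 0 < Nat.card {x : G // x * S.t = S.t * x ∧ orderOf x = 3} := by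
        rw [S.card_three_cent]
        have : q * 2 ≤ q * q := Nat.mul_le_mul_left _ (by omega)
        omega
      obtain ⟨⟨x, hx, hx3⟩⟩ := (Nat.card_pos_iff.1 hpos).1
      exact exists_orderOf_of_dvd (x := S.t * x) (by rw [hcomb x hx (hx3 ▸ by decide), hx3]; exact h)
    · obtain ⟨x, hx⟩ : ∃ x : G, orderOf x = 9 := by
        by_contra hc
        push Not at hc
        have e : Nat.card {x : G // x ≠ 1 ∧ orderOf x ∣ 9} = Nat.card {x : G // orderOf x = 3} := by
          refine Nat.card_congr (Equiv.subtypeEquivRight fun x => ?_)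
          constructor
          · rintro ⟨hx1, hd⟩
            obtain ⟨i, hi, hi'⟩ := (Nat.dvd_prime_pow Nat.prime_three).1 (show orderOf x ∣ 3 ^ 2 from hd)
            interval_cases i
            · exact absurd (orderOf_eq_one_iff.1 hi') hx1
            · exact hi'
            · exact absurd hi' (hc x)
          · intro hx3
            exact ⟨fun e => by rw [e, orderOf_one] at hx3; omega, by rw [hx3]; norm_num⟩
        rw [S.card_nine_dvd, S.card_three] at e
        have := Nat.eq_of_mul_eq_mul_left (by omega) e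
        have h23 : q ^ 2 * 2 ≤ q ^ 3 := by rw [pow_succ q 2]; exact Nat.mul_le_mul_left _ (by omega)
        have : 1 ≤ q ^ 2 := Nat.one_le_pow _ _ (by omega)
        omega
      exact exists_orderOf_of_dvd (x := x) (hx.symm ▸ h)
    · haveI := S.H_cyclic
      obtain ⟨g0, hg0⟩ := IsCyclic.exists_ofOrder_eq_natCard (α := S.H)
      exact exists_orderOf_of_dvd (x := (g0 : G)) (by rw [Subgroup.orderOf_coe, hg0, S.H_card]; exact h)
    · obtain ⟨s, A, hA⟩ := S.exists_quarter_tor
      haveI := hA.cyclic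
      obtain ⟨g0, hg0⟩ := IsCyclic.exists_ofOrder_eq_natCard (α := A)
      refine exists_orderOf_of_dvd (x := S.t * (g0 : G)) ?_
      rw [hcomb _ (mem_cent.1 (hA.le g0.2).1) (S.quarter_odd hA g0.2), Subgroup.orderOf_coe, hg0, hA.card,
        show 2 * ((q + 1) / 4) = (q + 1) / 2 by omega]
      exact h
    · haveI := hT₁.cyclic
      obtain ⟨g0, hg0⟩ := IsCyclic.exists_ofOrder_eq_natCard (α := T₁)
      exact exists_orderOf_of_dvd (x := (g0 : G)) (by rw [Subgroup.orderOf_coe, hg0, hc₁]; exact h)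
    · haveI := hT₂.cyclic
      obtain ⟨g0, hg0⟩ := IsCyclic.exists_ofOrder_eq_natCard (α := T₂)
      exact exists_orderOf_of_dvd (x := (g0 : G)) (by rw [Subgroup.orderOf_coe, hg0, hc₂]; exact h)

theorem card_order_double {i : ℕ} (hi : Odd i) :
    Nat.card {g : G // orderOf g = 2 * i} = Nat.card {p : G × G //
      orderOf p.1 = 2 ∧ Odd (orderOf p.2) ∧ p.2 * p.1 = p.1 * p.2 ∧ (fun d => d = i) (orderOf p.2)} := by
  rw [← S.even_equiv (fun d => d = i)]
  refine Nat.card_congr (Equiv.subtypeEquivRight fun x => ?_)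
  constructor
  · intro h; rw [h]; exact ⟨even_two_mul i, by omega⟩
  · rintro ⟨⟨k, hk⟩, h⟩; omega

theorem card_order_double_right {i k : ℕ} (hi : Odd i)
    (hk : ∀ h : G, orderOf h = i → Nat.card {v : G // orderOf v = 2 ∧ h * v = v * h} = k) :
    Nat.card {g : G // orderOf g = 2 * i} = k * Nat.card {g : G // orderOf g = i} := by
  rw [S.card_order_double hi, S.pairs_right (fun d => d = i) k fun h _ hh => hk h hh]
  congr 1
  exact Nat.card_congr (Equiv.subtypeEquivRight fun h => ⟨fun hh => hh.2, fun hh => ⟨hh ▸ hi, hh⟩⟩)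

theorem count_half {i : ℕ} (h1 : 1 < i) (hi : i ∣ (q - 1) / 2) :
    2 * Nat.card {g : G // orderOf g = i} = Nat.totient i * q ^ 3 * (q ^ 3 + 1) := by
  obtain ⟨A, hA, hAc, -, hN, -⟩ := S.exists_half
  rw [hA.card_orderOf h1 (hAc.symm ▸ hi), mul_assoc (Nat.totient i), ← S.index_half hN]
  ring

/-- The numbers of elements of each order. -/
theorem counts :
    Nat.card {g : G // orderOf g = 2} = q ^ 2 * (q ^ 2 - q + 1) ∧
    Nat.card {g : G // orderOf g = 3} = (q ^ 2 - 1) * (q ^ 3 + 1) ∧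
    Nat.card {g : G // orderOf g = 6} = q ^ 2 * (q - 1) * (q ^ 3 + 1) ∧
    Nat.card {g : G // orderOf g = 9} = q ^ 2 * (q - 1) * (q ^ 3 + 1) ∧
    (∀ i : ℕ, 2 < i → i ∣ q - 1 →
      2 * Nat.card {g : G // orderOf g = i} = Nat.totient i * q ^ 3 * (q ^ 3 + 1)) ∧
    (∀ i : ℕ, 1 < i → i ∣ (q + 1) / 4 →
      6 * Nat.card {g : G // orderOf g = i} = Nat.totient i * q ^ 3 * (q - 1) * (q ^ 2 - q + 1) ∧
        2 * Nat.card {g : G // orderOf g = 2 * i} = Nat.totient i * q ^ 3 * (q - 1) * (q ^ 2 - q + 1)) ∧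
    (∀ i : ℕ, 1 < i → i ∣ q - 3 ^ (S.m + 1) + 1 →
      6 * Nat.card {g : G // orderOf g = i} =
        Nat.totient i * q ^ 3 * (q ^ 2 - 1) * (q + 3 ^ (S.m + 1) + 1)) ∧
    (∀ i : ℕ, 1 < i → i ∣ q + 3 ^ (S.m + 1) + 1 →
      6 * Nat.card {g : G // orderOf g = i} =
        Nat.totient i * q ^ 3 * (q ^ 2 - 1) * (q - 3 ^ (S.m + 1) + 1)) := by
  classical
  have hnum := S.nums
  have hqq : q ≤ q ^ 2 := Nat.le_self_pow two_ne_zero _
  have hsq : q ^ 2 - 1 = (q + 1) * (q - 1) := by
    have := Nat.sq_sub_sq q 1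
    rwa [one_pow] at this
  refine ⟨S.card_inv, by rw [S.card_three, mul_comm], ?_, ?_, ?_, ?_, ?_⟩
  · rw [show (6 : ℕ) = 2 * 3 by norm_num, S.card_order_double (by decide), S.pairs_left (fun d => d = 3), S.card_inv]
    have e : Nat.card {h : G // Odd (orderOf h) ∧ h * S.t = S.t * h ∧ (fun d => d = 3) (orderOf h)} =
        Nat.card {x : G // x * S.t = S.t * x ∧ orderOf x = 3} :=
      Nat.card_congr (Equiv.subtypeEquivRight fun h => ⟨fun hh => hh.2, fun hh => ⟨hh.2 ▸ by decide, hh⟩⟩)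
    rw [e, S.card_three_cent, ← pow_two, hsq, S.cube_add]
    ring
  · have e : Nat.card {x : G // x ≠ 1 ∧ orderOf x ∣ 9} =
        Nat.card {x : G // orderOf x = 3} + Nat.card {x : G // orderOf x = 9} := by
      rw [← card_or _ _ (fun x h h' => by rw [h] at h'; omega)]
      refine Nat.card_congr (Equiv.subtypeEquivRight fun x => ?_)
      constructor
      · rintro ⟨hx1, hd⟩
        obtain ⟨i, hi, hi'⟩ := (Nat.dvd_prime_pow Nat.prime_three).1 (show orderOf x ∣ 3 ^ 2 from hd)
        interval_cases i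
        · exact absurd (orderOf_eq_one_iff.1 hi') hx1
        · exact Or.inl hi'
        · exact Or.inr hi'
      · rintro (h | h) <;> exact ⟨fun e => by rw [e, orderOf_one] at h; omega, by rw [h] <;> norm_num⟩
    rw [S.card_nine_dvd, S.card_three] at e
    have h23 : q ^ 2 ≤ q ^ 3 := Nat.pow_le_pow_right (by omega) (by norm_num)
    have h1 : 1 ≤ q ^ 2 := Nat.one_le_pow _ _ (by omega)
    have h2 : 1 ≤ q ^ 3 := Nat.one_le_pow _ _ (by omega)
    zify [h1, h2, show 1 ≤ q by omega] at e ⊢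
    linear_combination -e
  · intro i hi2 hiq
    rcases Nat.even_or_odd i with ⟨j, hj⟩ | hodd
    · have hj' : i = 2 * j := by omega
      subst hj'
      have hjh : j ∣ (q - 1) / 2 := by
        rw [show q - 1 = 2 * ((q - 1) / 2) by omega] at hiq
        exact Nat.dvd_of_mul_dvd_mul_left two_pos hiq
      have hjodd : Odd j := Odd.of_dvd_nat S.odd_half hjh
      rw [S.card_order_double_right hjodd (k := 1) (fun h hh => S.inv_count_half (hh ▸ hjh)
        (fun e => by rw [e, orderOf_one] at hh; omega)), one_mul, S.count_half (by omega) hjh,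
        Nat.totient_mul (Nat.coprime_two_left.2 hjodd), Nat.totient_two, one_mul]
    · refine S.count_half (by omega) ?_
      rw [show q - 1 = 2 * ((q - 1) / 2) by omega] at hiq
      exact (Nat.coprime_two_right.2 hodd).dvd_of_dvd_mul_left hiq
  · intro i h1 hi
    obtain ⟨s, A, hA⟩ := S.exists_quarter_tor
    have hT := S.quarter_tor hA
    have hN : Nat.card (Subgroup.normalizer (A : Set G)) = 6 * (q + 1) := by
      rw [S.quarter_normalizer_eq hA, S.card_normalizer_four hA.pair]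
    have hmain : 6 * Nat.card {g : G // orderOf g = i} = Nat.totient i * q ^ 3 * (q - 1) * (q ^ 2 - q + 1) := by
      rw [hT.card_orderOf h1 (hA.card.symm ▸ hi),
        show Nat.totient i * q ^ 3 * (q - 1) * (q ^ 2 - q + 1) = Nat.totient i * (q ^ 3 * (q - 1) * (q ^ 2 - q + 1)) by ring,
        ← S.index_quarter hN]
      ring
    refine ⟨hmain, ?_⟩
    rw [S.card_order_double_right (Odd.of_dvd_nat S.odd_quarter hi) (k := 3) (fun h hh =>
      S.inv_count_quarter (hh ▸ hi) (fun e => by rw [e, orderOf_one] at hh; omega)), ← hmain]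
    ring
  · obtain ⟨T₁, T₂, hT₁, hT₂, hc₁, hc₂, hprod, hN₁, hN₂, -⟩ := S.two_classes
    have key : ∀ (T T' : Subgroup G), IsTor T → Nat.card T * Nat.card T' = q ^ 2 - q + 1 →
        Nat.card (Subgroup.normalizer (T : Set G)) = 6 * Nat.card T → ∀ i, 1 < i → i ∣ Nat.card T →
        6 * Nat.card {g : G // orderOf g = i} = Nat.totient i * q ^ 3 * (q ^ 2 - 1) * Nat.card T' := by
      intro T T' hT hp hN i h1 hi
      have h := (Subgroup.normalizer (T : Set G)).index_mul_card
      rw [hN, S.cardG, S.cube_add, ← hp] at h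
      have h' : (Subgroup.normalizer (T : Set G)).index * 6 = q ^ 3 * (q ^ 2 - 1) * Nat.card T' :=
        Nat.eq_of_mul_eq_mul_right (Nat.card_pos (α := T)) (by rw [mul_assoc, h, hsq]; ring)
      rw [hT.card_orderOf h1 hi,
        show Nat.totient i * q ^ 3 * (q ^ 2 - 1) * Nat.card T' = Nat.totient i * (q ^ 3 * (q ^ 2 - 1) * Nat.card T') by ring,
        ← h']
      ring
    refine ⟨fun i h1 hi => ?_, fun i h1 hi => ?_⟩
    · have := key T₁ T₂ hT₁ hprod hN₁ i h1 (hc₁.symm ▸ hi)
      rwa [hc₂] at this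
    · have := key T₂ T₁ hT₂ (by rw [mul_comm]; exact hprod) hN₂ i h1 (hc₂.symm ▸ hi)
      rwa [hc₁] at this

end Sys

end Cfsg.Agent.ReeLocal
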