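import Cfsg.Agent.ReeG2.Cyclotomic

/-!
Elements of order a primitive prime divisor of `q⁶ - 1` in `GL₇(q)`, and unipotent elements in
characteristic three.
-/

set_option autoImplicit false
set_option linter.unusedSectionVars false
set_option linter.style.haveILetI false

namespace Cfsg.Agent.ReeLocal

open Matrix

variable {K : Type*} [Field K]

local notation "M₇" => Matrix (Fin 7) (Fin 7) K

theorem pow_nine_eq_one [CharP K 3] {M : M₇} {k : ℕ} (h : M ^ 3 ^ k = 1) : M ^ 9 = 1 := by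
  haveI := Fact.mk Nat.prime_three
  haveI : CharP (Module.End K (Fin 7 → K)) 3 :=
    charP_of_injective_algebraMap (FaithfulSMul.algebraMap_injective K (Module.End K (Fin 7 → K))) 3
  let f : Module.End K (Fin 7 → K) := Matrix.toLinAlgEquiv' M
  have hf : f ^ 3 ^ k = 1 := by rw [← map_pow, h, map_one]
  have hn : IsNilpotent (f - 1) :=
    ⟨3 ^ k, by rw [sub_pow_char_pow_of_commute 3 k (Commute.one_right f), hf, one_pow, sub_self]⟩
  have hz : (f - 1) ^ 9 = 0 := by
    have h7 := LinearMap.aeval_self_charpoly (f - 1)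
    rw [IsNilpotent.charpoly_eq_X_pow_finrank hn, map_pow, Polynomial.aeval_X, Module.finrank_fintype_fun_eq_card,
      Fintype.card_fin] at h7
    rw [show (9 : ℕ) = 7 + 2 by norm_num, pow_add, h7, zero_mul]
  have e : f ^ 3 ^ 2 = 1 := by
    rw [show (9 : ℕ) = 3 ^ 2 by norm_num, sub_pow_char_pow_of_commute 3 2 (Commute.one_right f), one_pow] at hz
    exact sub_eq_zero.1 hz
  apply (Matrix.toLinAlgEquiv' (R := K) (n := Fin 7)).injective
  rw [map_pow, map_one]
  exact e

variable [Fintype K] {p : ℕ} [Fact p.Prime]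

theorem coprime_card_seven (hp3 : 3 < p) (hd : p ∣ Fintype.card K ^ 2 - Fintype.card K + 1) :
    ¬ p ∣ Fintype.card K ^ 7 - 1 :=
  ReeG2.not_dvd_pow_sub_one (Fact.out) hp3 Fintype.card_pos hd (by norm_num) le_rfl (by norm_num)

/-- A matrix of order `p` fixes a non-zero vector. -/
theorem exists_fixed (hp3 : 3 < p) (hd : p ∣ Fintype.card K ^ 2 - Fintype.card K + 1)
    {x : GL (Fin 7) K} (hx : x ^ p = 1) : ∃ v : Fin 7 → K, v ≠ 0 ∧ (x : M₇).mulVec v = v := by
  classical
  letI : MulAction (Subgroup.zpowers x) (Fin 7 → K) :=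
    { smul := fun g v => ((g : GL (Fin 7) K) : M₇).mulVec v
      one_smul := fun v => Matrix.one_mulVec v
      mul_smul := fun g g' v => by
        show ((g * g' : Subgroup.zpowers x) : GL (Fin 7) K).val.mulVec v = _
        rw [Subgroup.coe_mul, Units.val_mul, ← Matrix.mulVec_mulVec]
        rfl }
  have hP : IsPGroup p (Subgroup.zpowers x) := by
    obtain ⟨i, -, hi⟩ := (Nat.dvd_prime_pow (Fact.out : p.Prime)).1
      (show orderOf x ∣ p ^ 1 by rw [pow_one]; exact orderOf_dvd_of_pow_eq_one hx)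
    exact IsPGroup.of_card (n := i) (by rw [Nat.card_zpowers, hi])
  have hmod := hP.card_modEq_card_fixedPoints (Fin 7 → K)
  by_contra hc
  push Not at hc
  have hfix : MulAction.fixedPoints (Subgroup.zpowers x) (Fin 7 → K) = {0} := by
    ext v
    rw [MulAction.mem_fixedPoints, Set.mem_singleton_iff]
    constructor
    · intro hv
      by_contra hv0
      exact hc v hv0 (hv ⟨x, Subgroup.mem_zpowers x⟩)
    · rintro rfl g
      exact Matrix.mulVec_zero _
  rw [hfix] at hmod
  have h1 : Nat.card ({0} : Set (Fin 7 → K)) = 1 := by simp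
  rw [h1, Nat.card_fun, Nat.card_eq_fintype_card (α := K), Nat.card_eq_fintype_card (α := Fin 7),
    Fintype.card_fin] at hmod
  exact coprime_card_seven hp3 hd ((Nat.modEq_iff_dvd' (Nat.one_le_pow _ _ Fintype.card_pos)).1 hmod.symm)

/-- An element of order `p` has seven distinct eigenvalues. -/
theorem exists_eigen (hp3 : 3 < p) (hd : p ∣ Fintype.card K ^ 2 - Fintype.card K + 1)
    (hp : (p : K) ≠ 0) {x : GL (Fin 7) K} (hx : x ^ p = 1) (hx1 : x ≠ 1) :
    ∃ (b : Module.Basis (Fin 7) (AlgebraicClosure K) (Fin 7 → AlgebraicClosure K))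
      (μ : Fin 7 → AlgebraicClosure K), Function.Injective μ ∧
      (∀ i, ((x : M₇).map (algebraMap K (AlgebraicClosure K))).mulVec (b i) = μ i • b i) ∧
      ∀ i, μ i = 1 ∨ (orderOf (μ i) = p ∧ ∀ j, μ j ≠ 1 → ∃ e < 6, μ j = μ i ^ (Fintype.card K ^ e)) := by
  classical
  have hpP : p.Prime := Fact.out
  set L := AlgebraicClosure K
  set φ := algebraMap K L with hφ
  set q := Fintype.card K with hq
  have hq1 : 1 < q := Fintype.one_lt_card
  set A : Matrix (Fin 7) (Fin 7) L := (x : M₇).map φ with hA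
  have hAp : A ^ p = 1 := by
    rw [hA]
    have := congrArg (RingHom.mapMatrix φ) (congrArg Units.val hx)
    rw [Units.val_pow_eq_pow_val, map_pow, Units.val_one, map_one] at this
    exact this
  -- a non-trivial eigenvalue
  have hev : ∃ (ζ : L) (v : Fin 7 → L), v ≠ 0 ∧ A.mulVec v = ζ • v ∧ ζ ≠ 1 := by
    haveI : NeZero (p : L) := ⟨by rw [← map_natCast φ]; exact (map_ne_zero φ).2 hp⟩
    obtain ⟨ω, hω⟩ := HasEnoughRootsOfUnity.exists_primitiveRoot L p
    by_contra hc
    push Not at hc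
    -- the projections
    let e : ℕ → Matrix (Fin 7) (Fin 7) L := fun j => ∑ k ∈ Finset.range p, (ω ^ j) ^ k • A ^ k
    have he : ∀ j, ω ^ j • (A * e j) = e j := by
      intro j
      have h1 : ω ^ j • (A * e j) = ∑ k ∈ Finset.range p, (ω ^ j) ^ (k + 1) • A ^ (k + 1) := by
        simp only [e, Matrix.mul_sum, Finset.smul_sum]
        refine Finset.sum_congr rfl fun k _ => ?_
        rw [Matrix.mul_smul, smul_smul, ← pow_succ', ← pow_succ']
      have hf : (ω ^ j) ^ p • A ^ p = (ω ^ j) ^ 0 • A ^ 0 := by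
        rw [hAp, pow_zero, pow_zero, ← pow_mul, mul_comm, pow_mul, hω.pow_eq_one, one_pow]
      have h2 : ∑ k ∈ Finset.range p, (ω ^ j) ^ (k + 1) • A ^ (k + 1) + (ω ^ j) ^ 0 • A ^ 0 =
          ∑ k ∈ Finset.range p, (ω ^ j) ^ k • A ^ k + (ω ^ j) ^ p • A ^ p :=
        (Finset.sum_range_succ' (fun k => (ω ^ j) ^ k • A ^ k) p).symm.trans
          (Finset.sum_range_succ (fun k => (ω ^ j) ^ k • A ^ k) p)
      rw [hf] at h2
      exact h1.trans (add_right_cancel h2)
    have hzero : ∀ j ∈ Finset.range p, j ≠ 0 → e j = 0 := by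
      intro j hj hj0
      have hne : ω ^ j ≠ 0 := pow_ne_zero _ (hω.ne_zero hpP.ne_zero)
      refine Matrix.ext_of_mulVec_single fun i => ?_
      rw [Matrix.zero_mulVec]
      by_contra hv
      refine hω.pow_ne_one_of_pos_of_lt hj0 (Finset.mem_range.1 hj) (inv_eq_one.1
        (hc (ω ^ j)⁻¹ _ hv ?_))
      conv_rhs => rw [← he j]
      rw [Matrix.smul_mulVec, smul_smul, inv_mul_cancel₀ hne, one_smul, Matrix.mulVec_mulVec]
    have hsum : ∑ j ∈ Finset.range p, e j = (p : L) • (1 : Matrix (Fin 7) (Fin 7) L) := by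
      rw [Finset.sum_comm, Finset.sum_eq_single 0]
      · simp [Nat.cast_smul_eq_nsmul]
      · intro k hk hk0
        have h1 : ω ^ k ≠ 1 := hω.pow_ne_one_of_pos_of_lt hk0 (Finset.mem_range.1 hk)
        rw [← Finset.sum_smul]
        have h2 : ∑ j ∈ Finset.range p, (ω ^ j) ^ k = 0 := by
          simp_rw [← pow_mul, mul_comm _ k, pow_mul]
          rw [geom_sum_eq h1, ← pow_mul, mul_comm, pow_mul, hω.pow_eq_one, one_pow, sub_self, zero_div]
        rw [h2, zero_smul]
      · intro h; exact absurd (Finset.mem_range.2 hpP.pos) h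
    rw [Finset.sum_eq_single 0 hzero (fun h => absurd (Finset.mem_range.2 hpP.pos) h)] at hsum
    have hAe : A * e 0 = e 0 := by simpa using he 0
    rw [hsum, Matrix.mul_smul, mul_one] at hAe
    have hA1 : A = 1 := by
      ext i j
      have := congrFun (congrFun hAe i) j
      simp only [Matrix.smul_apply, smul_eq_mul] at this
      exact mul_left_cancel₀ (NeZero.ne _) this
    refine hx1 (Units.ext ?_)
    refine Matrix.map_injective (f := φ) φ.injective ?_
    show A = ((1 : GL (Fin 7) K) : M₇).map φ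
    rw [hA1, Units.val_one]
    exact (Matrix.map_one φ (map_zero φ) (map_one φ)).symm
  obtain ⟨ζ, v, hv0, hv, hζ1⟩ := hev
  have hvn : ∀ n : ℕ, (A ^ n).mulVec v = ζ ^ n • v := by
    intro n
    induction n with
    | zero => simp
    | succ n ih => rw [pow_succ', ← Matrix.mulVec_mulVec, ih, Matrix.mulVec_smul, hv, smul_smul, pow_succ]
  have hζp : ζ ^ p = 1 := by
    have := hvn p
    rw [hAp, Matrix.one_mulVec] at this
    exact (smul_left_injective L hv0 ((one_smul L v).trans this)).symm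
  have hζo : orderOf ζ = p := orderOf_eq_prime hζp hζ1
  have hζf : IsOfFinOrder ζ := isOfFinOrder_iff_pow_eq_one.2 ⟨p, hpP.pos, hζp⟩
  obtain ⟨p₀, hchar⟩ := CharP.exists K
  obtain ⟨n₀, hp₀, hqn⟩ := FiniteField.card K p₀
  haveI := Fact.mk hp₀
  haveI : CharP L p₀ := charP_of_injective_ringHom φ.injective p₀
  -- the Frobenius conjugates
  let F : L →+* L := iterateFrobenius L p₀ (n₀ : ℕ)
  have hFk : ∀ a : K, F (φ a) = φ a := by
    intro a
    show φ a ^ p₀ ^ (n₀ : ℕ) = φ a
    rw [← hqn, ← map_pow, FiniteField.pow_card]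
  have hF : ∀ y : L, F y = y ^ q := fun y => by
    show y ^ p₀ ^ (n₀ : ℕ) = y ^ q
    rw [hq, hqn]
  have hstep : ∀ (w : Fin 7 → L) (m : L), A.mulVec w = m • w → A.mulVec (F ∘ w) = F m • (F ∘ w) := by
    intro w m hw
    funext i
    have h1 := congrArg F (congrFun hw i)
    simp only [Matrix.mulVec, dotProduct, map_sum, map_mul, Pi.smul_apply, smul_eq_mul] at h1
    simp only [Matrix.mulVec, dotProduct, Function.comp_apply, Pi.smul_apply, smul_eq_mul]
    rw [← h1]
    refine Finset.sum_congr rfl fun j _ => ?_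
    rw [hA, Matrix.map_apply, hFk]
  have hconj : ∀ e : ℕ, ∃ w : Fin 7 → L, w ≠ 0 ∧ A.mulVec w = ζ ^ (q ^ e) • w := by
    intro e
    induction e with
    | zero => exact ⟨v, hv0, by simpa using hv⟩
    | succ e ih =>
      obtain ⟨w, hw0, hw⟩ := ih
      refine ⟨F ∘ w, fun h => hw0 (funext fun i => F.injective (by simpa using congrFun h i)), ?_⟩
      rw [hstep w _ hw, hF, ← pow_mul, pow_succ]
  choose w hw0 hw using hconj
  obtain ⟨v₀, hv₀, hxv₀⟩ := exists_fixed hp3 hd hx
  have hone : A.mulVec (φ ∘ v₀) = (1 : L) • (φ ∘ v₀) := by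
    rw [one_smul]
    funext i
    have h1 := congrArg φ (congrFun hxv₀ i)
    simp only [Matrix.mulVec, dotProduct, map_sum, map_mul] at h1
    exact h1
  let μ : Fin 7 → L := Fin.cons 1 fun e : Fin 6 => ζ ^ (q ^ (e : ℕ))
  let b₀ : Fin 7 → (Fin 7 → L) := Fin.cons (φ ∘ v₀) fun e : Fin 6 => w e
  have hcop : ∀ e, p.Coprime (q ^ e) := fun e => by
    refine Nat.Coprime.pow_right _ ((hpP.coprime_iff_not_dvd).2 fun h => ?_)
    have h2 : p ∣ q ^ 2 - q := Nat.dvd_sub (dvd_pow h two_ne_zero) h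
    exact hpP.one_lt.ne' (Nat.dvd_one.1 ((Nat.dvd_add_right h2).1 hd))
  have hne1 : ∀ e, ζ ^ (q ^ e) ≠ 1 := fun e h => hpP.one_lt.ne'
    (Nat.Coprime.eq_one_of_dvd (hcop e) (hζo ▸ orderOf_dvd_of_pow_eq_one h))
  have hinj : ∀ i j : ℕ, i < j → j < 6 → ζ ^ (q ^ i) ≠ ζ ^ (q ^ j) := by
    intro i j hij hj h
    rw [hζf.pow_eq_pow_iff_modEq, hζo] at h
    have h2 : p ∣ q ^ i * (q ^ (j - i) - 1) := by
      rw [Nat.mul_sub, mul_one, ← pow_add, Nat.add_sub_cancel' hij.le]
      exact (Nat.modEq_iff_dvd' (Nat.pow_le_pow_right (by omega) hij.le)).1 h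
    exact ReeG2.not_dvd_pow_sub_one hpP hp3 (by omega) hd (by omega) (by omega) (by omega)
      ((hcop i).dvd_of_dvd_mul_left h2)
  have hμ : Function.Injective μ := by
    refine Fin.cons_injective_iff.2 ⟨?_, ?_⟩
    · rintro ⟨e, he⟩; exact hne1 _ he
    · intro a c h
      rcases lt_trichotomy (a : ℕ) c with h' | h' | h'
      · exact absurd h (hinj _ _ h' c.2)
      · exact Fin.ext h'
      · exact absurd h.symm (hinj _ _ h' a.2)
  have hb0 : ∀ i, A.mulVec (b₀ i) = μ i • b₀ i := Fin.cases hone fun e => hw e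
  have hbne : ∀ i, b₀ i ≠ 0 := Fin.cases (fun h => hv₀ (funext fun i => φ.injective (by
    have := congrFun h i
    simpa [b₀] using this))) fun e => hw0 e
  have hli : LinearIndependent L b₀ := Module.End.eigenvectors_linearIndependent' (Matrix.toLin' A) μ hμ b₀
    fun i => ⟨by rw [Module.End.mem_eigenspace_iff, Matrix.toLin'_apply, hb0], hbne i⟩
  refine ⟨basisOfLinearIndependentOfCardEqFinrank hli (by simp), μ, hμ, fun i => ?_, ?_⟩
  · rw [coe_basisOfLinearIndependentOfCardEqFinrank]; exact hb0 i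
  · refine Fin.cases (Or.inl rfl) fun e => Or.inr ⟨?_, ?_⟩
    · show orderOf (ζ ^ (q ^ (e : ℕ))) = p
      rw [Nat.Coprime.orderOf_pow (hζo ▸ hcop e), hζo]
    · refine Fin.cases (fun h => absurd rfl h) fun c _ => ?_
      refine ⟨((c : ℕ) + (6 - e)) % 6, Nat.mod_lt _ (by norm_num), ?_⟩
      show ζ ^ (q ^ (c : ℕ)) = (ζ ^ (q ^ (e : ℕ))) ^ q ^ (((c : ℕ) + (6 - e)) % 6)
      rw [← pow_mul, ← pow_add, hζf.pow_eq_pow_iff_modEq, hζo]
      have h6 : ∀ a k : ℕ, q ^ (a + 6 * k) ≡ q ^ a [MOD p] := by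
        intro a k
        have h1 : q ^ 6 ≡ 1 [MOD p] := by
          refine ((Nat.modEq_iff_dvd' (Nat.one_le_pow _ _ (by omega))).2 ?_).symm
          have e1 : q ^ 6 - 1 = (q ^ 2 - q + 1) * ((q + 1) * (q ^ 3 - 1)) := by
            have hqq : q ≤ q ^ 2 := Nat.le_self_pow two_ne_zero q
            zify [hqq, Nat.one_le_pow 3 q (by omega), Nat.one_le_pow 6 q (by omega)]
            ring
          rw [e1]
          exact dvd_mul_of_dvd_left hd _
        rw [pow_add, pow_mul]
        simpa using (h1.pow k).mul_left (q ^ a)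
      have e6 : ∃ k, (e : ℕ) + ((c : ℕ) + (6 - e)) % 6 = c + 6 * k ∨
          (e : ℕ) + ((c : ℕ) + (6 - e)) % 6 + 6 * k = c := by
        refine ⟨if (c : ℕ) < e then 1 else 0, ?_⟩
        split <;> omega
      obtain ⟨k, hk | hk⟩ := e6
      · rw [hk]; exact (h6 _ k).symm
      · have h8 := h6 ((e : ℕ) + ((c : ℕ) + (6 - e)) % 6) k
        rw [hk] at h8
        exact h8

/-- The centraliser of an element of order `p` is commutative. -/
theorem centralizer_comm (hp3 : 3 < p) (hd : p ∣ Fintype.card K ^ 2 - Fintype.card K + 1)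
    (hp : (p : K) ≠ 0) {x a c : GL (Fin 7) K} (hx : x ^ p = 1) (hx1 : x ≠ 1)
    (ha : a * x = x * a) (hc : c * x = x * c) : a * c = c * a := by
  classical
  obtain ⟨b, μ, hμ, hb, -⟩ := exists_eigen hp3 hd hp hx hx1
  set φ := algebraMap K (AlgebraicClosure K)
  set A := (x : M₇).map φ
  have hdiag : ∀ d : GL (Fin 7) K, d * x = x * d → ∀ i, ∃ m : AlgebraicClosure K, ((d : M₇).map φ).mulVec (b i) = m • b i := by
    intro d hdx i
    set D := (d : M₇).map φ
    have hDA : D * A = A * D := by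
      show (d : M₇).map φ * (x : M₇).map φ = (x : M₇).map φ * (d : M₇).map φ
      rw [← Matrix.map_mul, ← Matrix.map_mul, ← Units.val_mul, hdx, Units.val_mul]
    set w := D.mulVec (b i) with hw
    have hwA : A.mulVec w = μ i • w := by
      rw [hw, Matrix.mulVec_mulVec, ← hDA, ← Matrix.mulVec_mulVec, hb, Matrix.mulVec_smul]
    refine ⟨b.repr w i, ?_⟩
    refine b.ext_elem fun j => ?_
    rw [map_smul, b.repr_self, Finsupp.smul_apply, Finsupp.single_apply, smul_eq_mul]
    by_cases hij : i = j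
    · rw [if_pos hij, mul_one, hij]
    · rw [if_neg hij, mul_zero]
      have h1 : A.mulVec w = ∑ k, (μ k * b.repr w k) • b k := by
        conv_lhs => rw [← b.sum_repr w]
        rw [Matrix.mulVec_sum]
        refine Finset.sum_congr rfl fun k _ => ?_
        rw [Matrix.mulVec_smul, hb, smul_smul, mul_comm]
      have h2 := congrArg (fun z => b.repr z j) (hwA.symm.trans h1)
      simp only [map_smul, Finsupp.smul_apply, smul_eq_mul, b.repr_sum_self] at h2
      by_contra hne
      exact hij (hμ (mul_right_cancel₀ hne h2))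
  refine Units.ext (Matrix.map_injective φ.injective ?_)
  show (a * c).val.map φ = (c * a).val.map φ
  rw [Units.val_mul, Units.val_mul, Matrix.map_mul, Matrix.map_mul]
  refine Matrix.toLin'.injective (b.ext fun i => ?_)
  obtain ⟨ma, hma⟩ := hdiag a ha i
  obtain ⟨mc, hmc⟩ := hdiag c hc i
  simp only [Matrix.toLin'_apply, ← Matrix.mulVec_mulVec, hmc, Matrix.mulVec_smul, hma, smul_smul, mul_comm]

/-- The normaliser of `⟨x⟩` induces automorphisms of order dividing six. -/
theorem pow_six_comm (hp3 : 3 < p) (hd : p ∣ Fintype.card K ^ 2 - Fintype.card K + 1)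
    (hp : (p : K) ≠ 0) {x g : GL (Fin 7) K} (hx : x ^ p = 1) (hx1 : x ≠ 1) {k : ℕ}
    (hg : g * x * g⁻¹ = x ^ k) : g ^ 6 * x = x * g ^ 6 := by
  classical
  have hpP : p.Prime := Fact.out
  obtain ⟨b, μ, hμ, hb, hμc⟩ := exists_eigen hp3 hd hp hx hx1
  set φ := algebraMap K (AlgebraicClosure K)
  set q := Fintype.card K
  set A := (x : M₇).map φ
  obtain ⟨i, hi⟩ : ∃ i, μ i ≠ 1 := by
    by_contra hc
    push Not at hc
    exact absurd (hμ ((hc 0).trans (hc 1).symm)) (by decide)
  obtain ⟨hio, hic⟩ := (hμc i).resolve_left hi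
  have hAk : ∀ n : ℕ, (A ^ n).mulVec (b i) = μ i ^ n • b i := by
    intro n
    induction n with
    | zero => simp
    | succ n ih => rw [pow_succ', ← Matrix.mulVec_mulVec, ih, Matrix.mulVec_smul, hb, smul_smul, pow_succ]
  set D := ((g⁻¹ : GL (Fin 7) K) : M₇).map φ
  have hkey : A.mulVec (D.mulVec (b i)) = μ i ^ k • D.mulVec (b i) := by
    have h1 : (x : M₇) * ((g⁻¹ : GL (Fin 7) K) : M₇) = ((g⁻¹ : GL (Fin 7) K) : M₇) * (x : M₇) ^ k := by
      rw [← Units.val_pow_eq_pow_val, ← Units.val_mul, ← Units.val_mul, ← hg]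
      congr 1
      group
    have h2 : A * D = D * A ^ k := by
      have := congrArg (RingHom.mapMatrix φ) h1
      simp only [map_mul, map_pow] at this
      exact this
    rw [Matrix.mulVec_mulVec, h2, ← Matrix.mulVec_mulVec, hAk, Matrix.mulVec_smul]
  set w := D.mulVec (b i) with hw
  have hw0 : w ≠ 0 := by
    intro h0
    have h1 : ((g : M₇).map φ) * D = 1 := by
      show (g : M₇).map φ * ((g⁻¹ : GL (Fin 7) K) : M₇).map φ = 1
      rw [← Matrix.map_mul, Units.mul_inv, Matrix.map_one φ (map_zero φ) (map_one φ)]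
    have h2 := congrArg ((g : M₇).map φ).mulVec h0
    rw [hw, Matrix.mulVec_mulVec, h1, Matrix.one_mulVec, Matrix.mulVec_zero] at h2
    exact b.ne_zero i h2
  -- it is one of the eigenvalues
  obtain ⟨j, hj⟩ : ∃ j, μ j = μ i ^ k := by
    by_contra hc
    push Not at hc
    refine hw0 (b.ext_elem fun j => ?_)
    have h1 : A.mulVec w = ∑ l, (μ l * b.repr w l) • b l := by
      conv_lhs => rw [← b.sum_repr w]
      rw [Matrix.mulVec_sum]
      refine Finset.sum_congr rfl fun l _ => ?_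
      rw [Matrix.mulVec_smul, hb, smul_smul, mul_comm]
    have h2 := congrArg (fun z => b.repr z j) (hkey.symm.trans h1)
    simp only [map_smul, Finsupp.smul_apply, smul_eq_mul, b.repr_sum_self] at h2
    rw [map_zero, Finsupp.zero_apply]
    by_contra hne
    exact hc j (mul_right_cancel₀ hne h2).symm
  have hxo : orderOf x = p := orderOf_eq_prime hx hx1
  by_cases hj1 : μ j = 1
  · exfalso
    have hk : p ∣ k := hio ▸ orderOf_dvd_of_pow_eq_one (hj ▸ hj1)
    have : g * x * g⁻¹ = 1 := by rw [hg, ← orderOf_dvd_iff_pow_eq_one, hxo]; exact hk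
    exact hx1 (conj_eq_one_iff.1 this)
  obtain ⟨e, -, he⟩ := hic j hj1
  have hif : IsOfFinOrder (μ i) := orderOf_pos_iff.1 (hio ▸ hpP.pos)
  rw [hj, hif.pow_eq_pow_iff_modEq, hio] at he
  have h6 : k ^ 6 ≡ 1 [MOD p] := by
    refine (he.pow 6).trans ?_
    rw [← pow_mul, mul_comm, pow_mul]
    have h1 : q ^ 6 ≡ 1 [MOD p] := by
      refine ((Nat.modEq_iff_dvd' (Nat.one_le_pow _ _ Fintype.card_pos)).2 ?_).symm
      have e1 : q ^ 6 - 1 = (q ^ 2 - q + 1) * ((q + 1) * (q ^ 3 - 1)) := by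
        have hqq : q ≤ q ^ 2 := Nat.le_self_pow two_ne_zero q
        zify [hqq, Nat.one_le_pow 3 q Fintype.card_pos, Nat.one_le_pow 6 q Fintype.card_pos]
        ring
      rw [e1]
      exact dvd_mul_of_dvd_left hd _
    simpa using h1.pow e
  have hpow : ∀ n : ℕ, g ^ n * x * (g ^ n)⁻¹ = x ^ k ^ n := by
    intro n
    induction n with
    | zero => simp
    | succ n ih =>
      rw [pow_succ' g, _root_.mul_inv_rev, show g * g ^ n * x * ((g ^ n)⁻¹ * g⁻¹) = g * (g ^ n * x * (g ^ n)⁻¹) * g⁻¹ by group,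
        ih, ← conj_pow, hg, ← pow_mul, ← pow_succ']
  have h7 := hpow 6
  rw [show x ^ k ^ 6 = x ^ 1 by rw [pow_eq_pow_iff_modEq, hxo]; exact h6, pow_one, mul_inv_eq_iff_eq_mul] at h7
  exact h7

end Cfsg.Agent.ReeLocal
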