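import Mathlib

/-!
Cyclic trivial-intersection Hall subgroups of odd order.
-/

set_option autoImplicit false
set_option linter.unusedSectionVars false
set_option linter.style.haveILetI false

namespace Cfsg.Agent.ReeLocal

variable {G : Type*} [Group G]

theorem mem_cent {a g : G} : g ∈ Subgroup.centralizer ({a} : Set G) ↔ g * a = a * g :=
  Subgroup.mem_centralizer_singleton_iff

theorem orderOf_conj (g x : G) : orderOf (g * x * g⁻¹) = orderOf x := by
  rw [← MulAut.conj_apply]
  exact orderOf_injective (MulAut.conj g).toMonoidHom (MulAut.conj g).injective x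

theorem conj_mem_cent {g a c : G} (h : c * a = a * c) :
    (g * c * g⁻¹) * (g * a * g⁻¹) = (g * a * g⁻¹) * (g * c * g⁻¹) := by
  simp only [mul_assoc, inv_mul_cancel_left]
  rw [← mul_assoc c a, h, mul_assoc]

/-- A cyclic subgroup of odd order, the odd part of the centraliser of each of its non-trivial
elements, and of index prime to its order. -/
structure IsTor (A : Subgroup G) : Prop where
  cyclic : IsCyclic A
  oddCard : Odd (Nat.card A)
  cent : ∀ a ∈ A, a ≠ 1 → ∀ b ∈ A, b ≠ 1 →
    Subgroup.centralizer ({a} : Set G) = Subgroup.centralizer ({b} : Set G)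
  mem : ∀ a ∈ A, a ≠ 1 → ∀ g, g * a = a * g → Odd (orderOf g) → g ∈ A
  hall : ∀ p : ℕ, p.Prime → p ∣ Nat.card A → ¬ p ∣ A.index

/-- Counting the elements of the conjugates of a trivial intersection subgroup. -/
theorem card_conj_subtype' {G : Type*} [Group G] [Finite G] {A : Subgroup G}
    (hTI : ∀ g a, a ∈ A → a ≠ 1 → g * a * g⁻¹ ∈ A → g ∈ Subgroup.normalizer (A : Set G)) (P : G → Prop) (hP : ∀ g x, P x → P (g * x * g⁻¹))
    (hcov : ∀ x, P x → x ≠ 1 ∧ ∃ g, g * x * g⁻¹ ∈ A) :
    Nat.card {x : G // P x} =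
      (Subgroup.normalizer (A : Set G)).index * Nat.card {a : A // P a} := by
  classical
  set N := Subgroup.normalizer (A : Set G) with hN
  let f : (G ⧸ N) × {a : A // P a} → {x : G // P x} := fun c =>
    ⟨c.1.out * (c.2.1 : G) * c.1.out⁻¹, hP _ _ c.2.2⟩
  have hf : Function.Bijective f := by
    constructor
    · rintro ⟨c, ⟨a, ha⟩, hPa⟩ ⟨d, ⟨b, hb⟩, hPb⟩ e
      have e' : c.out * a * c.out⁻¹ = d.out * b * d.out⁻¹ := congrArg Subtype.val e
      have hb' : (d.out⁻¹ * c.out) * a * (d.out⁻¹ * c.out)⁻¹ = b := by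
        calc _ = d.out⁻¹ * (c.out * a * c.out⁻¹) * d.out := by group
          _ = d.out⁻¹ * (d.out * b * d.out⁻¹) * d.out := by rw [e']
          _ = b := by group
      have hmem := hTI _ _ ha (hcov a hPa).1 (by rw [hb']; exact hb)
      have hcd : d = c := by
        rw [← QuotientGroup.out_eq' c, ← QuotientGroup.out_eq' d, QuotientGroup.eq]
        exact hmem
      subst hcd
      have : a = b := by simpa using hb'
      subst this
      rfl
    · rintro ⟨x, hx⟩
      obtain ⟨-, g, hg⟩ := hcov x hx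
      obtain ⟨⟨n, hn⟩, he⟩ := QuotientGroup.mk_out_eq_mul N g⁻¹
      change (QuotientGroup.mk g⁻¹ : G ⧸ N).out = g⁻¹ * n at he
      have hmem : n⁻¹ * (g * x * g⁻¹) * n ∈ A := by
        simpa using (Subgroup.mem_normalizer_iff.1 (inv_mem hn) _).1 hg
      refine ⟨⟨QuotientGroup.mk g⁻¹, ⟨_, hmem⟩, ?_⟩, Subtype.ext ?_⟩
      · show P (n⁻¹ * (g * x * g⁻¹) * n)
        rw [show n⁻¹ * (g * x * g⁻¹) * n = n⁻¹ * g * x * (n⁻¹ * g)⁻¹ by group]
        exact hP _ _ hx
      · show (QuotientGroup.mk g⁻¹ : G ⧸ N).out * (n⁻¹ * (g * x * g⁻¹) * n) *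
          (QuotientGroup.mk g⁻¹ : G ⧸ N).out⁻¹ = x
        rw [he]; group
  rw [← Nat.card_congr (Equiv.ofBijective f hf), Nat.card_prod, ← Subgroup.index_eq_card]

namespace IsTor

variable [Finite G] {A : Subgroup G} (hA : IsTor A)
include hA

theorem comm {a b : G} (ha : a ∈ A) (hb : b ∈ A) : a * b = b * a := by
  haveI := hA.cyclic
  letI := (IsCyclic.commGroup : CommGroup A)
  exact congrArg Subtype.val (mul_comm (⟨a, ha⟩ : A) ⟨b, hb⟩)

theorem odd_orderOf {a : G} (ha : a ∈ A) : Odd (orderOf a) :=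
  Odd.of_dvd_nat hA.oddCard (A.orderOf_dvd_natCard ha)

/-- Trivial intersection. -/
theorem mem_normalizer {g a : G} (ha : a ∈ A) (ha1 : a ≠ 1) (hga : g * a * g⁻¹ ∈ A) :
    g ∈ Subgroup.normalizer (A : Set G) := by
  have hga1 : g * a * g⁻¹ ≠ 1 := fun e => ha1 (conj_eq_one_iff.1 e)
  rw [Subgroup.mem_normalizer_iff]
  intro x
  constructor
  · intro hx
    refine hA.mem _ hga hga1 _ (conj_mem_cent (hA.comm hx ha)) ?_
    rw [orderOf_conj]
    exact hA.odd_orderOf hx
  · intro hx
    refine hA.mem a ha ha1 x ?_ (by rw [← orderOf_conj g]; exact hA.odd_orderOf hx)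
    have := conj_mem_cent (g := g⁻¹) (hA.comm hx hga)
    simpa [mul_assoc] using this

/-- An element whose order shares a prime with `A` is conjugate to an element commuting with a non-trivial
element of `A`. -/
theorem exists_conj_cent {x : G} {p : ℕ} (hp : p.Prime) (hd : p ∣ orderOf x) (hpA : p ∣ Nat.card A) :
    ∃ g : G, ∃ a ∈ A, a ≠ 1 ∧ a ∈ Subgroup.zpowers (g * x * g⁻¹) := by
  haveI := Fact.mk hp
  set y := x ^ (orderOf x / p) with hy
  have hyo : orderOf y = p := orderOf_pow_orderOf_div (orderOf_pos x).ne' hd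
  obtain ⟨P⟩ : Nonempty (Sylow p A) := inferInstance
  let P' : Sylow p G := (P.isPGroup'.map A.subtype).toSylow (by
    have h1 : ¬ p ∣ (P : Subgroup A).index := P.not_dvd_index
    have h2 := hA.hall p hp hpA
    intro h
    rw [← Subgroup.relIndex_mul_index (Subgroup.map_subtype_le (P : Subgroup A))] at h
    rcases hp.dvd_mul.1 h with h | h
    · rw [Subgroup.relIndex, Subgroup.subgroupOf,
        Subgroup.comap_map_eq_self_of_injective A.subtype_injective] at h
      exact h1 h
    · exact h2 h)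
  obtain ⟨Q, hQ⟩ := (IsPGroup.of_card (n := 1) (by rw [Nat.card_zpowers, hyo, pow_one]) :
    IsPGroup p (Subgroup.zpowers y)).exists_le_sylow
  obtain ⟨g, hg⟩ := MulAction.exists_smul_eq G Q P'
  refine ⟨g, g * y * g⁻¹, ?_, ?_, ?_⟩
  · have h1 : g * y * g⁻¹ ∈ (P' : Subgroup G) := by
      rw [← hg, Sylow.coe_subgroup_smul]
      exact Subgroup.smul_mem_pointwise_smul y (MulAut.conj g) (Q : Subgroup G) (hQ (Subgroup.mem_zpowers y))
    have h2 : (P' : Subgroup G) = (P : Subgroup A).map A.subtype := rfl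
    rw [h2] at h1
    exact Subgroup.map_subtype_le _ h1
  · intro e
    have := orderOf_conj g y
    rw [e, orderOf_one, hyo] at this
    exact hp.one_lt.ne this
  · rw [hy, ← conj_pow]
    exact Subgroup.pow_mem _ (Subgroup.mem_zpowers _) _

/-- An element of odd order sharing a prime with `A` is conjugate into `A`. -/
theorem exists_conj_mem {x : G} {p : ℕ} (hp : p.Prime) (hd : p ∣ orderOf x) (hpA : p ∣ Nat.card A)
    (hx : Odd (orderOf x)) : ∃ g : G, g * x * g⁻¹ ∈ A := by
  obtain ⟨g, a, ha, ha1, hax⟩ := hA.exists_conj_cent hp hd hpA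
  refine ⟨g, hA.mem a ha ha1 _ ?_ (by rwa [orderOf_conj])⟩
  obtain ⟨k, rfl⟩ := Subgroup.mem_zpowers_iff.1 hax
  exact (Commute.self_zpow _ _).eq

theorem exists_conj_of_dvd {x : G} (hd : orderOf x ∣ Nat.card A) (h1 : orderOf x ≠ 1) :
    ∃ g : G, g * x * g⁻¹ ∈ A := by
  obtain ⟨p, hp, hpx⟩ := Nat.exists_prime_and_dvd h1
  exact hA.exists_conj_mem hp hpx (hpx.trans hd) (Odd.of_dvd_nat hA.oddCard hd)

omit hA in
theorem eq_of_card_eq {C : Subgroup G} [IsCyclic C] {B B' : Subgroup G} (hB : B ≤ C) (hB' : B' ≤ C)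
    (h : Nat.card B = Nat.card B') : B = B' := by
  classical
  haveI := Fintype.ofFinite C
  have hle : ∀ D : Subgroup G, D ≤ C → ∀ x ∈ D, x ^ Nat.card D = 1 := fun D _ x hx => by
    have h2 := congrArg (fun z : D => (z : G)) (pow_card_eq_one' (G := D) (x := ⟨x, hx⟩))
    simpa only [SubmonoidClass.coe_pow, Subgroup.coe_one] using h2
  have key : ∀ D : Subgroup G, D ≤ C → Nat.card D = Nat.card B →
      Finset.univ.filter (fun c : C => (c : G) ∈ D) = Finset.univ.filter (fun c : C => c ^ Nat.card B = 1) := by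
    intro D hD hc
    refine Finset.eq_of_subset_of_card_le (fun c hcD => ?_) ?_
    · simp only [Finset.mem_filter, Finset.mem_univ, true_and] at hcD ⊢
      exact Subtype.ext (by rw [SubmonoidClass.coe_pow, Subgroup.coe_one, ← hc]; exact hle D hD _ hcD)
    · have h1 := IsCyclic.card_pow_eq_one_le (α := C) (Nat.card_pos (α := B))
      refine h1.trans_eq ?_
      rw [← hc, ← Nat.card_congr (Subgroup.subgroupOfEquivOfLe hD).toEquiv, Nat.card_eq_fintype_card,
        Fintype.card_subtype]
      rfl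
  ext x
  constructor <;> intro hx
  · have := (key B hB rfl).trans (key B' hB' h.symm).symm
    have hm : (⟨x, hB hx⟩ : C) ∈ Finset.univ.filter (fun c : C => (c : G) ∈ B') := by
      rw [← this]; simp [hx]
    simpa using hm
  · have := (key B' hB' h.symm).trans (key B hB rfl).symm
    have hm : (⟨x, hB' hx⟩ : C) ∈ Finset.univ.filter (fun c : C => (c : G) ∈ B) := by
      rw [← this]; simp [hx]
    simpa using hm

/-- Cyclic subgroups of the same order dividing `|A|` are conjugate. -/
theorem cyclic_conj {B B' : Subgroup G} (hB : IsCyclic B) (hB' : IsCyclic B') (hd : Nat.card B ∣ Nat.card A)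
    (he : Nat.card B' = Nat.card B) : ∃ g : G, B' = B.map (MulAut.conj g).toMonoidHom := by
  by_cases h1 : Nat.card B = 1
  · exact ⟨1, by rw [Subgroup.card_eq_one.1 h1, Subgroup.card_eq_one.1 (he.trans h1), Subgroup.map_bot]⟩
  have key : ∀ D : Subgroup G, IsCyclic D → Nat.card D = Nat.card B →
      ∃ g : G, D.map (MulAut.conj g).toMonoidHom ≤ A := by
    intro D hD hc
    obtain ⟨d, hd'⟩ := IsCyclic.exists_ofOrder_eq_natCard (α := D)
    obtain ⟨g, hg⟩ := hA.exists_conj_of_dvd (x := (d : G))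
      (by rw [Subgroup.orderOf_coe, hd', hc]; exact hd) (by rw [Subgroup.orderOf_coe, hd', hc]; exact h1)
    refine ⟨g, ?_⟩
    have hz : D = Subgroup.zpowers (d : G) := (Subgroup.eq_of_le_of_card_ge (Subgroup.zpowers_le.2 d.2)
      (by rw [Nat.card_zpowers, Subgroup.orderOf_coe, hd'])).symm
    rw [hz, MonoidHom.map_zpowers, Subgroup.zpowers_le]
    exact hg
  obtain ⟨g, hg⟩ := key B hB rfl
  obtain ⟨g', hg'⟩ := key B' hB' he
  haveI := hA.cyclic
  have e := eq_of_card_eq hg hg' (by
    rw [Subgroup.card_map_of_injective (MulAut.conj g).injective,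
      Subgroup.card_map_of_injective (MulAut.conj g').injective, he])
  refine ⟨g'⁻¹ * g, ?_⟩
  have e' := congrArg (Subgroup.map (MulAut.conj g'⁻¹).toMonoidHom) e
  rw [Subgroup.map_map, Subgroup.map_map] at e'
  convert e'.symm using 1
  · rw [show (MulAut.conj g'⁻¹).toMonoidHom.comp (MulAut.conj g').toMonoidHom = MonoidHom.id G by
      ext z; simp [mul_assoc], Subgroup.map_id]
  · congr 1
    ext z; simp [mul_assoc]

theorem normalizer_eq {A₀ : Subgroup G} (h : A₀ ≤ A) (h0 : A₀ ≠ ⊥) :
    Subgroup.normalizer (A₀ : Set G) = Subgroup.normalizer (A : Set G) := by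
  obtain ⟨a, ha, ha1⟩ := A₀.bot_or_exists_ne_one.resolve_left h0
  refine le_antisymm (fun g hg => hA.mem_normalizer (h ha) ha1 (h ((Subgroup.mem_normalizer_iff.1 hg a).1 ha)))
    fun g hg => ?_
  haveI := hA.cyclic
  have hmap : A₀.map (MulAut.conj g).toMonoidHom = A₀ := by
    refine eq_of_card_eq ?_ h (Subgroup.card_map_of_injective (MulAut.conj g).injective)
    rintro _ ⟨y, hy, rfl⟩
    exact (Subgroup.mem_normalizer_iff.1 hg y).1 (h hy)
  rw [Subgroup.mem_normalizer_iff]
  intro y
  constructor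
  · exact fun hy => hmap ▸ ⟨y, hy, rfl⟩
  · intro hy
    rw [← hmap] at hy
    obtain ⟨z, hz, e⟩ := hy
    exact (MulAut.conj g).injective e ▸ hz

/-- Counting the elements of the conjugates. -/
theorem card_conj_subtype (P : G → Prop) (hP : ∀ g x, P x → P (g * x * g⁻¹))
    (hcov : ∀ x, P x → x ≠ 1 ∧ ∃ g, g * x * g⁻¹ ∈ A) :
    Nat.card {x : G // P x} =
      (Subgroup.normalizer (A : Set G)).index * Nat.card {a : A // P a} :=
  card_conj_subtype' (fun _ _ ha ha1 h => hA.mem_normalizer ha ha1 h) P hP hcov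

/-- The elements of a given order. -/
theorem card_orderOf {i : ℕ} (h1 : 1 < i) (hi : i ∣ Nat.card A) :
    Nat.card {x : G // orderOf x = i} = (Subgroup.normalizer (A : Set G)).index * i.totient := by
  classical
  rw [hA.card_conj_subtype (fun x => orderOf x = i) (fun g x hx => by rw [orderOf_conj]; exact hx)
    fun x hx => ⟨fun e => by rw [e, orderOf_one] at hx; omega,
      hA.exists_conj_of_dvd (hx ▸ hi) (by omega)⟩]
  congr 1
  haveI := hA.cyclic
  haveI := Fintype.ofFinite A
  rw [Nat.card_eq_fintype_card, Fintype.card_subtype, ← IsCyclic.card_orderOf_eq_totient (α := A)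
    (by rwa [← Nat.card_eq_fintype_card])]
  congr 1
  ext a
  simp

end IsTor

end Cfsg.Agent.ReeLocal
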