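import Cfsg.Agent.ReeLocal.PSL
import Cfsg.Agent.ReeLocal.Seven
import Cfsg.Agent.ReeLocal.Tor

/-!
The data from which the local structure of the small Ree groups is derived, and the centraliser
of the fixed involution.
-/

set_option autoImplicit false
set_option linter.unusedSectionVars false
set_option linter.style.haveILetI false

namespace Cfsg.Agent.ReeLocal

open Matrix
open scoped MatrixGroups

variable (G : Type*) [Group G] (F : Type*) [Field F] [Fintype F]

/-- The basic data of a small Ree group `G` over the field `F`. -/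
structure Sys where
  m : ℕ
  one_le : 1 ≤ m
  cardF : Fintype.card F = 3 ^ (2 * m + 1)
  simple : IsSimpleGroup G
  cardG : Nat.card G = Fintype.card F ^ 3 * (Fintype.card F - 1) * (Fintype.card F ^ 3 + 1)
  t : G
  t_ne : t ≠ 1
  t_sq : t * t = 1
  e : Subgroup.centralizer ({t} : Set G) ≃*
    Multiplicative (ZMod 2) × Matrix.ProjectiveSpecialLinearGroup (Fin 2) F
  syl : ∀ S : Sylow 2 G, Nat.card S = 8 ∧ ∀ x ∈ S, x * x = 1
  U : Subgroup G
  U_card : Nat.card U = Fintype.card F ^ 3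
  U_three : Nat.card {u : U // orderOf u = 3} = Fintype.card F ^ 2 - 1
  U_ti : ∀ g u, u ∈ U → u ≠ 1 → g * u * g⁻¹ ∈ U → g ∈ Subgroup.normalizer (U : Set G)
  N_card : Nat.card (Subgroup.normalizer (U : Set G)) = Fintype.card F ^ 3 * (Fintype.card F - 1)
  H : Subgroup G
  H_le : H ≤ Subgroup.normalizer (U : Set G)
  H_cyclic : IsCyclic H
  H_card : Nat.card H = Fintype.card F - 1
  t_mem : t ∈ H
  H_fpf : ∀ h ∈ H, h ≠ 1 → Odd (orderOf h) → ∀ u ∈ U, h * u = u * h → u = 1
  n : G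
  n_not : n ∉ Subgroup.normalizer (U : Set G)
  n_norm : ∀ h ∈ H, n * h * n⁻¹ ∈ H
  rep : G →* GL (Fin 7) F
  rep_inj : Function.Injective rep

variable {G F}

local notation "q" => Fintype.card F
local notation "L" => Matrix.ProjectiveSpecialLinearGroup (Fin 2) F

namespace Sys

variable [Finite G] (S : Sys G F)
include S

theorem charP : CharP F 3 := by
  obtain ⟨p, hp⟩ := CharP.exists F
  obtain ⟨n, hpp, h⟩ := FiniteField.card F p
  rw [S.cardF] at h
  have := Nat.prime_eq_prime_of_dvd_pow hpp Nat.prime_three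
    (h ▸ dvd_pow_self p n.pos.ne' : p ∣ 3 ^ (2 * S.m + 1))
  subst this
  exact hp

/-- Numerical facts. -/
theorem nums : q % 8 = 3 ∧ 27 ≤ q ∧ q % 3 = 0 := by
  have h1 : q = 3 * 9 ^ S.m := by rw [S.cardF, pow_succ, pow_mul]; ring
  have h2 : (3 * 9 ^ S.m) % 8 = 3 := by
    simp [Nat.mul_mod, Nat.pow_mod]
  have h3 : 9 ≤ 9 ^ S.m := Nat.le_self_pow (by have := S.one_le; omega) _
  omega

theorem q_mod : q % 8 = 3 := S.nums.1

theorem q_ge : 27 ≤ q := S.nums.2.1

theorem cube_add : q ^ 3 + 1 = (q + 1) * (q ^ 2 - q + 1) := by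
  have : q ≤ q ^ 2 := Nat.le_self_pow two_ne_zero _
  zify [this]
  ring

theorem card_eq :
    Nat.card G = q ^ 3 * (2 * ((q - 1) / 2)) * ((4 * ((q + 1) / 4)) * (q ^ 2 - q + 1)) := by
  have := S.nums
  rw [S.cardG, S.cube_add, show 2 * ((q - 1) / 2) = q - 1 by omega, show 4 * ((q + 1) / 4) = q + 1 by omega]

theorem odd_half : Odd ((q - 1) / 2) := by have := S.nums; exact Nat.odd_iff.2 (by omega)

theorem odd_quarter : Odd ((q + 1) / 4) := by have := S.nums; exact Nat.odd_iff.2 (by omega)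

theorem odd_big : Odd (q ^ 2 - q + 1) := by
  have h := S.nums
  have hq : Odd q := Nat.odd_iff.2 (by omega)
  have : q ≤ q ^ 2 := Nat.le_self_pow two_ne_zero _
  exact (Nat.Odd.sub_odd (hq.pow) hq).add_one

theorem prime_facts {p : ℕ} (hp : p.Prime) :
    (p ∣ (q - 1) / 2 → p ≠ 2 ∧ p ≠ 3 ∧ ¬ p ∣ q ∧ ¬ p ∣ (q + 1) / 4 ∧ ¬ p ∣ q ^ 2 - q + 1) ∧
    (p ∣ (q + 1) / 4 → p ≠ 2 ∧ p ≠ 3 ∧ ¬ p ∣ q ∧ ¬ p ∣ (q - 1) / 2 ∧ ¬ p ∣ q ^ 2 - q + 1) ∧
    (p ∣ q ^ 2 - q + 1 → p ≠ 2 ∧ 3 < p ∧ ¬ p ∣ q ∧ ¬ p ∣ (q - 1) / 2 ∧ ¬ p ∣ (q + 1) / 4) := by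
  have h := S.nums
  have hqq : q ≤ q ^ 2 := Nat.le_self_pow two_ne_zero _
  have h2q : p ∣ q → p ≠ 2 ∧ p = 3 := by
    intro hd
    rw [S.cardF] at hd
    have := Nat.prime_eq_prime_of_dvd_pow hp Nat.prime_three hd
    omega
  have h1 : p ∣ (q - 1) / 2 → p ∣ q - 1 := fun hd => hd.trans ⟨2, by omega⟩
  have h4 : p ∣ (q + 1) / 4 → p ∣ q + 1 := fun hd => hd.trans ⟨4, by omega⟩
  have ho1 : p ∣ (q - 1) / 2 → p ≠ 2 := by
    rintro hd rfl; have := S.odd_half; rw [Nat.odd_iff] at this; omega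
  have ho4 : p ∣ (q + 1) / 4 → p ≠ 2 := by
    rintro hd rfl; have := S.odd_quarter; rw [Nat.odd_iff] at this; omega
  have hoQ : p ∣ q ^ 2 - q + 1 → p ≠ 2 := by
    rintro hd rfl; have := S.odd_big; rw [Nat.odd_iff] at this; omega
  have hq1 : p ∣ q - 1 → p ≠ 3 := by rintro hd rfl; omega
  have hq4 : p ∣ q + 1 → p ≠ 3 := by rintro hd rfl; omega
  have c14 : p ∣ q - 1 → p ∣ q + 1 → p = 2 := fun ha hb => by
    have := Nat.dvd_sub hb ha
    rw [show q + 1 - (q - 1) = 2 by omega] at this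
    exact (Nat.prime_dvd_prime_iff_eq hp Nat.prime_two).1 this
  have e1 : q ^ 2 - q + 1 = q * (q - 1) + 1 := by rw [Nat.mul_sub, mul_one, pow_two]
  have c1Q : p ∣ q - 1 → ¬ p ∣ q ^ 2 - q + 1 := fun ha hb => by
    rw [e1] at hb
    exact hp.one_lt.ne' (Nat.dvd_one.1 ((Nat.dvd_add_right (ha.mul_left q)).1 hb))
  have c4Q : p ∣ q + 1 → ¬ p ∣ q ^ 2 - q + 1 → True := fun _ _ => trivial
  have e4 : q ^ 2 - q + 1 = (q + 1) * (q - 2) + 3 := by
    zify [hqq, show 2 ≤ q by omega]; ring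
  have c4Q' : p ∣ q + 1 → ¬ p ∣ q ^ 2 - q + 1 := fun ha hb => by
    rw [e4] at hb
    exact hq4 ha ((Nat.prime_dvd_prime_iff_eq hp Nat.prime_three).1 ((Nat.dvd_add_right (ha.mul_right _)).1 hb))
  have c3Q : p ∣ q ^ 2 - q + 1 → p ≠ 3 := by
    rintro hd rfl
    have h3 : 3 ∣ q := by omega
    rw [e1] at hd
    exact (by norm_num : ¬ (3 : ℕ) ∣ 1) ((Nat.dvd_add_right (h3.mul_right _)).1 hd)
  refine ⟨fun hd => ⟨ho1 hd, hq1 (h1 hd), fun hq => hq1 (h1 hd) (h2q hq).2,
      fun hb => ho1 hd (c14 (h1 hd) (h4 hb)), c1Q (h1 hd)⟩,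
    fun hd => ⟨ho4 hd, hq4 (h4 hd), fun hq => hq4 (h4 hd) (h2q hq).2,
      fun hb => ho4 hd (c14 (h1 hb) (h4 hd)), c4Q' (h4 hd)⟩,
    fun hd => ⟨hoQ hd, ?_, fun hq => c3Q hd (h2q hq).2, fun hb => c1Q (h1 hb) hd,
      fun hb => c4Q' (h4 hb) hd⟩⟩
  have h1' := hoQ hd; have h2' := c3Q hd; have := hp.two_le; omega

/-! ### The centraliser of `t` -/

/-- The projection onto the second factor. -/
noncomputable def proj : Subgroup.centralizer ({S.t} : Set G) →* L :=
  (MonoidHom.snd _ _).comp S.e.toMonoidHom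

/-- The second factor as a subgroup of `G`. -/
noncomputable def inj : L →* G :=
  (Subgroup.centralizer ({S.t} : Set G)).subtype.comp (S.e.symm.toMonoidHom.comp (MonoidHom.inr _ _))

omit [Finite G] in
theorem inj_injective : Function.Injective S.inj := fun a b h => by
  have := S.e.symm.injective (Subtype.ext h : S.e.symm (1, a) = S.e.symm (1, b))
  exact (Prod.ext_iff.1 this).2

omit [Finite G] in
theorem inj_mem (l : L) : S.inj l ∈ Subgroup.centralizer ({S.t} : Set G) := Subtype.coe_prop _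

omit [Finite G] in
theorem proj_inj (l : L) : S.proj ⟨S.inj l, S.inj_mem l⟩ = l := by
  show (S.e (S.e.symm (1, l))).2 = l
  rw [S.e.apply_symm_apply]

omit [Finite G] in
theorem t_cent : S.t ∈ Subgroup.centralizer ({S.t} : Set G) := mem_cent.2 rfl

theorem e_t : S.e ⟨S.t, S.t_cent⟩ = (Multiplicative.ofAdd 1, 1) := by
  haveI := S.charP
  set z := S.e ⟨S.t, S.t_cent⟩ with hz
  have hc : ∀ y, y * z = z * y := by
    intro y
    obtain ⟨x, rfl⟩ := S.e.surjective y
    rw [hz, ← map_mul, ← map_mul]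
    exact congrArg S.e (Subtype.ext (mem_cent.1 x.2))
  have hzz : z * z = 1 := by
    rw [hz, ← map_mul, ← map_one S.e]
    exact congrArg S.e (Subtype.ext S.t_sq)
  have hl : z.2 = 1 := by
    by_contra h1
    have hc1 := (involution_centralizer (F := F) S.q_mod (l := z.2)
      (congrArg Prod.snd hzz) h1).1
    have htop : Subgroup.centralizer ({z.2} : Set L) = ⊤ :=
      eq_top_iff.2 fun l _ => mem_cent.2 (congrArg Prod.snd (hc (1, l)))
    rw [htop, Subgroup.card_top] at hc1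
    have h2 := card_L (F := F) S.q_mod
    rw [hc1] at h2
    have h27 := S.q_ge
    have : 2 < q * (q - 1) := Nat.lt_of_lt_of_le (by omega) (Nat.le_mul_of_pos_right q (by omega))
    have := Nat.eq_of_mul_eq_mul_right (by omega) h2
    omega
  refine Prod.ext ?_ hl
  have hne : z ≠ 1 := fun h => S.t_ne (congrArg Subtype.val (S.e.map_eq_one_iff.1 h))
  revert hne
  have key : ∀ w : Multiplicative (ZMod 2), w = 1 ∨ w = Multiplicative.ofAdd 1 := by decide
  intro hne
  exact (key z.1).resolve_left fun h => hne (Prod.ext h hl)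

theorem card_cent_t : Nat.card (Subgroup.centralizer ({S.t} : Set G)) = q * (q - 1) * (q + 1) := by
  haveI := S.charP
  rw [Nat.card_congr S.e.toEquiv, Nat.card_prod, Nat.card_congr Multiplicative.toAdd, Nat.card_zmod]
  exact card_L (F := F) S.q_mod

theorem proj_eq_one {x : Subgroup.centralizer ({S.t} : Set G)} :
    S.proj x = 1 ↔ (x : G) = 1 ∨ (x : G) = S.t := by
  constructor
  · intro h
    have key : ∀ w : Multiplicative (ZMod 2), w = 1 ∨ w = Multiplicative.ofAdd 1 := by decide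
    rcases key (S.e x).1 with h1 | h1
    · left
      have : S.e x = 1 := Prod.ext h1 h
      exact congrArg Subtype.val (S.e.map_eq_one_iff.1 this)
    · right
      have : S.e x = S.e ⟨S.t, S.t_cent⟩ := by rw [S.e_t]; exact Prod.ext h1 h
      exact congrArg Subtype.val (S.e.injective this)
  · rintro (h | h)
    · rw [show x = 1 from Subtype.ext h, map_one]
    · rw [show x = ⟨S.t, S.t_cent⟩ from Subtype.ext h]
      show (S.e ⟨S.t, S.t_cent⟩).2 = 1
      rw [S.e_t]

theorem proj_commute {x y : Subgroup.centralizer ({S.t} : Set G)} :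
    S.proj x * S.proj y = S.proj y * S.proj x ↔ (x : G) * y = y * x := by
  constructor
  · intro h
    have : S.e (x * y) = S.e (y * x) := by
      rw [map_mul, map_mul]
      exact Prod.ext (mul_comm _ _) h
    exact congrArg Subtype.val (S.e.injective this)
  · intro h
    rw [← map_mul, ← map_mul]
    exact congrArg _ (Subtype.ext h)

/-- An element of odd order of the centraliser lies in the second factor. -/
theorem inj_proj {x : Subgroup.centralizer ({S.t} : Set G)} (hx : Odd (orderOf (x : G))) :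
    S.inj (S.proj x) = x := by
  have h1 : (S.e x).1 = 1 := by
    have hd : orderOf (S.e x).1 ∣ orderOf (x : G) := by
      rw [Subgroup.orderOf_coe]
      exact orderOf_map_dvd ((MonoidHom.fst _ _).comp S.e.toMonoidHom) x
    have h2 : orderOf (S.e x).1 ∣ 2 := by
      refine orderOf_dvd_of_pow_eq_one ?_
      have key : ∀ w : Multiplicative (ZMod 2), w ^ 2 = 1 := by decide
      exact key _
    have := Nat.dvd_gcd hd h2
    rw [Nat.Coprime.gcd_eq_one (Nat.coprime_two_right.2 hx), Nat.dvd_one, orderOf_eq_one_iff] at this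
    exact this
  have : S.e.symm (1, S.proj x) = x := by
    rw [MulEquiv.symm_apply_eq]
    exact Prod.ext h1.symm rfl
  exact congrArg Subtype.val this

theorem orderOf_inj (l : L) : orderOf (S.inj l) = orderOf l := orderOf_injective S.inj S.inj_injective l

/-- An element of odd order of the centraliser, as an element of the second factor. -/
theorem exists_inj {x : G} (h : x * S.t = S.t * x) (hx : Odd (orderOf x)) :
    ∃ l : L, S.inj l = x ∧ orderOf l = orderOf x := by
  have e := S.inj_proj (x := ⟨x, mem_cent.2 h⟩) hx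
  refine ⟨S.proj ⟨x, mem_cent.2 h⟩, e, ?_⟩
  rw [← S.orderOf_inj, e]

/-- The number of elements of order three centralising `t`. -/
theorem card_three_cent : Nat.card {x : G // x * S.t = S.t * x ∧ orderOf x = 3} = q * q - 1 := by
  haveI := S.charP
  rw [← card_order_three (F := F) S.q_mod]
  symm
  refine Nat.card_congr (Equiv.ofBijective (fun l => ⟨S.inj l.1, mem_cent.1 (S.inj_mem l.1),
    by rw [S.orderOf_inj]; exact l.2⟩) ⟨?_, ?_⟩)
  · intro a b h
    have h' : S.inj a.1 = S.inj b.1 := by simpa only [Subtype.mk.injEq] using h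
    exact Subtype.ext (S.inj_injective h')
  · rintro ⟨x, hx, hx3⟩
    obtain ⟨l, hl, hlo⟩ := S.exists_inj hx (hx3 ▸ by decide)
    exact ⟨⟨l, hlo.trans hx3⟩, Subtype.ext hl⟩

theorem no_nine_cent {x : G} (hx : x * S.t = S.t * x) : orderOf x ≠ 9 := by
  haveI := S.charP
  intro h9
  obtain ⟨l, -, hlo⟩ := S.exists_inj hx (h9 ▸ by decide)
  exact no_order_nine (F := F) S.q_mod l (hlo.trans h9)

/-- The centraliser in `C(t)` of a non-trivial element of odd order is commutative. -/
theorem cent_t_comm {h a c : G} (hh : Odd (orderOf h)) (h1 : h ≠ 1) (ht : h * S.t = S.t * h)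
    (ha : a * S.t = S.t * a) (ha' : a * h = h * a) (hc : c * S.t = S.t * c) (hc' : c * h = h * c) :
    a * c = c * a := by
  haveI := S.charP
  set x : Subgroup.centralizer ({S.t} : Set G) := ⟨h, mem_cent.2 ht⟩
  have e := S.inj_proj (x := x) hh
  have ho : orderOf (S.proj x) = orderOf h := by
    rw [← S.orderOf_inj, e]
  refine (S.proj_commute (x := ⟨a, mem_cent.2 ha⟩) (y := ⟨c, mem_cent.2 hc⟩)).1 ?_
  refine centralizer_comm_odd (F := F) S.q_mod (l := S.proj x) (ho ▸ hh) (fun e1 => h1 ?_)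
    ((S.proj_commute (x := ⟨a, mem_cent.2 ha⟩) (y := x)).2 ha')
    ((S.proj_commute (x := ⟨c, mem_cent.2 hc⟩) (y := x)).2 hc')
  rw [e1, map_one] at e
  exact e.symm

/-- The preimage of a subgroup of the second factor. -/
noncomputable def lift (B : Subgroup L) : Subgroup G :=
  (B.comap S.proj).map (Subgroup.centralizer ({S.t} : Set G)).subtype

omit [Finite G] in
theorem mem_lift {B : Subgroup L} {x : G} :
    x ∈ S.lift B ↔ ∃ h : x * S.t = S.t * x, S.proj ⟨x, mem_cent.2 h⟩ ∈ B := by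
  constructor
  · rintro ⟨⟨y, hy⟩, hyB, rfl⟩
    exact ⟨mem_cent.1 hy, hyB⟩
  · rintro ⟨h, hB⟩
    exact ⟨⟨x, mem_cent.2 h⟩, hB, rfl⟩

theorem card_lift (B : Subgroup L) : Nat.card (S.lift B) = 2 * Nat.card B := by
  rw [lift, Subgroup.card_map_of_injective (Subgroup.subtype_injective _)]
  have hs : Function.Surjective S.proj := fun l => ⟨⟨S.inj l, S.inj_mem l⟩, S.proj_inj l⟩
  have h2 : Nat.card S.proj.ker = 2 := by
    have hz2 : Nat.card (Subgroup.zpowers (⟨S.t, S.t_cent⟩ : Subgroup.centralizer ({S.t} : Set G))) = 2 := by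
      rw [Nat.card_zpowers]
      exact orderOf_eq_prime (Subtype.ext (by simpa [pow_two] using S.t_sq)) (fun h => S.t_ne (congrArg Subtype.val h))
    refine (congrArg (fun K : Subgroup (Subgroup.centralizer ({S.t} : Set G)) => Nat.card K)
      (?_ : S.proj.ker = _)).trans hz2
    apply SetLike.ext
    intro x
    rw [MonoidHom.mem_ker, S.proj_eq_one]
    constructor
    · rintro (h | h)
      · rw [show x = 1 from Subtype.ext h]; exact one_mem _
      · rw [show x = ⟨S.t, S.t_cent⟩ from Subtype.ext h]; exact Subgroup.mem_zpowers _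
    · intro hx
      rw [← S.proj_eq_one]
      refine MonoidHom.mem_ker.1 (Subgroup.zpowers_le.2 ?_ hx)
      exact MonoidHom.mem_ker.2 (S.proj_eq_one.2 (Or.inr rfl))
  have e := (B.comap S.proj).index_mul_card
  rw [Subgroup.index_comap_of_surjective B hs] at e
  have e2 := B.index_mul_card
  have e3 : Nat.card (Subgroup.centralizer ({S.t} : Set G)) = 2 * Nat.card L := by
    rw [Subgroup.card_eq_card_quotient_mul_card_subgroup S.proj.ker, h2,
      Nat.card_congr (QuotientGroup.quotientKerEquivOfSurjective S.proj hs).toEquiv, mul_comm]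
  rw [e3, ← e2] at e
  have hpos : 0 < B.index := Nat.pos_of_ne_zero Subgroup.index_ne_zero_of_finite
  exact Nat.eq_of_mul_eq_mul_left hpos (e.trans (by ring))

/-- The common centraliser of `t` and a commuting involution. -/
theorem pair_cent {s : G} (hs : s * s = 1) (hs1 : s ≠ 1) (hst : s ≠ S.t) (hc : s * S.t = S.t * s) :
    Nat.card ↥(Subgroup.centralizer ({S.t} : Set G) ⊓ Subgroup.centralizer ({s} : Set G)) = 2 * (q + 1) ∧
    ∃ A : Subgroup G, A ≤ Subgroup.centralizer ({S.t} : Set G) ⊓ Subgroup.centralizer ({s} : Set G) ∧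
      IsCyclic A ∧ Nat.card A = (q + 1) / 4 ∧
      ∀ g ∈ Subgroup.centralizer ({S.t} : Set G) ⊓ Subgroup.centralizer ({s} : Set G),
        ∀ a ∈ A, g * a * g⁻¹ ∈ A := by
  haveI := S.charP
  set x : Subgroup.centralizer ({S.t} : Set G) := ⟨s, mem_cent.2 hc⟩
  set l := S.proj x with hl
  have hl2 : l * l = 1 := by rw [hl, ← map_mul, ← map_one S.proj]; exact congrArg _ (Subtype.ext hs)
  have hl1 : l ≠ 1 := fun h => by rcases S.proj_eq_one.1 h with h | h <;> contradiction
  obtain ⟨hcard, A₀, hA₀, hA₀c, hA₀card, hA₀n⟩ := involution_centralizer (F := F) S.q_mod hl2 hl1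
  have hD : Subgroup.centralizer ({S.t} : Set G) ⊓ Subgroup.centralizer ({s} : Set G) =
      S.lift (Subgroup.centralizer ({l} : Set L)) := by
    apply SetLike.ext
    intro g
    rw [Subgroup.mem_inf, S.mem_lift]
    constructor
    · rintro ⟨h1', h2'⟩
      have h1 := mem_cent.1 h1'
      have h2 := mem_cent.1 h2'
      exact ⟨h1, mem_cent.2 ((S.proj_commute (x := ⟨g, mem_cent.2 h1⟩) (y := x)).2 h2)⟩
    · rintro ⟨h1, h2⟩
      exact ⟨mem_cent.2 h1, mem_cent.2 ((S.proj_commute (x := ⟨g, mem_cent.2 h1⟩) (y := x)).1 (mem_cent.1 h2))⟩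
  refine ⟨by rw [hD, S.card_lift, hcard], A₀.map S.inj, ?_, ?_, ?_, ?_⟩
  · rw [hD]
    rintro _ ⟨a, ha, rfl⟩
    exact S.mem_lift.2 ⟨mem_cent.1 (S.inj_mem a), by rw [S.proj_inj]; exact hA₀ ha⟩
  · exact isCyclic_of_surjective (A₀.equivMapOfInjective S.inj S.inj_injective).toMonoidHom
      (A₀.equivMapOfInjective S.inj S.inj_injective).surjective
  · rw [Subgroup.card_map_of_injective S.inj_injective, hA₀card]
  · rintro g hg _ ⟨a, ha, rfl⟩
    rw [hD] at hg
    obtain ⟨h1, h2⟩ := S.mem_lift.1 hg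
    have hodd : Odd (orderOf (g * S.inj a * g⁻¹)) := by
      rw [orderOf_conj, S.orderOf_inj]
      exact Odd.of_dvd_nat (hA₀card ▸ S.odd_quarter) (A₀.orderOf_dvd_natCard ha)
    set g' : Subgroup.centralizer ({S.t} : Set G) := ⟨g, mem_cent.2 h1⟩
    set a' : Subgroup.centralizer ({S.t} : Set G) := ⟨S.inj a, S.inj_mem a⟩
    have e := S.inj_proj (x := g' * a' * g'⁻¹) hodd
    refine ⟨S.proj (g' * a' * g'⁻¹), ?_, e⟩
    rw [map_mul, map_mul, map_inv, S.proj_inj]
    exact hA₀n _ h2 a ha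

end Sys

end Cfsg.Agent.ReeLocal
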