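import Cfsg.Agent.ReeLocal.Involutions

/-!
The Sylow 3-subgroup and the elements of 3-power order.
-/

set_option autoImplicit false
set_option linter.unusedSectionVars false
set_option linter.style.haveILetI false

namespace Cfsg.Agent.ReeLocal

variable {G : Type*} [Group G] {F : Type*} [Field F] [Fintype F]

local notation "q" => Fintype.card F

/-- An element of order prime to the index of a normal subgroup of `K` lies in the subgroup. -/
theorem mem_of_coprime_relIndex {A K : Subgroup G} (hn : ∀ g ∈ K, ∀ a ∈ A, g * a * g⁻¹ ∈ A)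
    (_hle : A ≤ K) {x : G} (hx : x ∈ K) (hc : (orderOf x).Coprime (A.relIndex K)) : x ∈ A := by
  haveI : (A.subgroupOf K).Normal := ⟨fun a ha g => hn g g.2 a ha⟩
  have h1 := (A.subgroupOf K).pow_index_mem ⟨x, hx⟩
  obtain ⟨e, he⟩ := exists_pow_eq_self_of_coprime hc.symm
  have h2 := pow_mem h1 e
  rw [Subgroup.mem_subgroupOf, SubmonoidClass.coe_pow, SubmonoidClass.coe_pow] at h2
  rwa [show (x ^ (A.subgroupOf K).index) ^ e = x from he] at h2

namespace Sys

variable [Finite G] (S : Sys G F)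
include S

theorem cube_eq : q ^ 3 = 3 ^ (3 * (2 * S.m + 1)) := by rw [S.cardF, ← pow_mul, mul_comm]

theorem U_pgroup : IsPGroup 3 S.U := IsPGroup.of_card (S.U_card.trans S.cube_eq)

theorem index_N : (Subgroup.normalizer (S.U : Set G)).index = q ^ 3 + 1 := by
  have h := (Subgroup.normalizer (S.U : Set G)).index_mul_card
  rw [S.N_card, S.cardG] at h
  have h27 := S.q_ge
  refine Nat.eq_of_mul_eq_mul_right (Nat.mul_pos (pow_pos (by omega) 3) (by omega) : 0 < q ^ 3 * (q - 1)) ?_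
  rw [h]; ring

theorem relIndex_U : S.U.relIndex (Subgroup.normalizer (S.U : Set G)) = q - 1 := by
  have hle : S.U ≤ Subgroup.normalizer (S.U : Set G) := Subgroup.le_normalizer
  have h := (S.U.subgroupOf (Subgroup.normalizer (S.U : Set G))).index_mul_card
  rw [Nat.card_congr (Subgroup.subgroupOfEquivOfLe hle).toEquiv, S.N_card, S.U_card, mul_comm (q ^ 3)] at h
  exact Nat.eq_of_mul_eq_mul_right (pow_pos (by have := S.q_ge; omega) 3) h

theorem three_mem_U {x : G} (hx : x ∈ Subgroup.normalizer (S.U : Set G)) {k : ℕ} (hk : x ^ 3 ^ k = 1) :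
    x ∈ S.U := by
  refine mem_of_coprime_relIndex (fun g hg a ha => (Subgroup.mem_normalizer_iff.1 hg a).1 ha)
    Subgroup.le_normalizer hx ?_
  rw [S.relIndex_U]
  refine Nat.Coprime.coprime_dvd_left (orderOf_dvd_of_pow_eq_one hk) (Nat.Coprime.pow_left k ?_)
  have := S.nums
  exact (Nat.Prime.coprime_iff_not_dvd Nat.prime_three).2 (by omega)

/-- The Sylow 3-subgroup `U`. -/
theorem exists_conj_three {x : G} {k : ℕ} (hk : x ^ 3 ^ k = 1) : ∃ g, g * x * g⁻¹ ∈ S.U := by
  haveI : Fact (Nat.Prime 3) := ⟨Nat.prime_three⟩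
  have hidx : ¬ 3 ∣ S.U.index := by
    intro hd
    rw [← Subgroup.relIndex_mul_index (Subgroup.le_normalizer (H := S.U)), S.relIndex_U, S.index_N] at hd
    have := S.nums
    rcases (Nat.Prime.dvd_mul Nat.prime_three).1 hd with h | h
    · omega
    · have h3 : 3 ∣ q ^ 3 := dvd_pow (Nat.dvd_of_mod_eq_zero this.2.2) three_ne_zero
      exact (by norm_num : ¬ (3 : ℕ) ∣ 1) ((Nat.dvd_add_right h3).1 h)
  let P := S.U_pgroup.toSylow hidx
  obtain ⟨i, -, hi⟩ := (Nat.dvd_prime_pow Nat.prime_three).1 (orderOf_dvd_of_pow_eq_one hk)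
  obtain ⟨Q, hQ⟩ := (IsPGroup.of_card (n := i) (by rw [Nat.card_zpowers, hi]) :
    IsPGroup 3 (Subgroup.zpowers x)).exists_le_sylow
  obtain ⟨g, hg⟩ := MulAction.exists_smul_eq G Q P
  refine ⟨g, ?_⟩
  show g * x * g⁻¹ ∈ (P : Subgroup G)
  rw [← hg, Sylow.coe_subgroup_smul]
  exact Subgroup.smul_mem_pointwise_smul x (MulAut.conj g) (Q : Subgroup G) (hQ (Subgroup.mem_zpowers x))

theorem pow_nine {x : G} {k : ℕ} (hk : x ^ 3 ^ k = 1) : x ^ 9 = 1 := by
  haveI := S.charP
  apply S.rep_inj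
  rw [map_pow, map_one]
  refine Units.ext ?_
  rw [Units.val_pow_eq_pow_val, Units.val_one]
  exact pow_nine_eq_one (k := k) (by rw [← Units.val_pow_eq_pow_val, ← map_pow, hk, map_one, Units.val_one])

theorem orderOf_dvd_nine {u : G} (hu : u ∈ S.U) : orderOf u ∣ 9 := by
  refine orderOf_dvd_of_pow_eq_one (S.pow_nine (k := 3 * (2 * S.m + 1)) ?_)
  rw [← S.cube_eq, ← S.U_card]
  exact congrArg Subtype.val (pow_card_eq_one' (G := S.U) (x := ⟨u, hu⟩))

/-- An element of prime order `p ≠ 3` of `N(U)` centralises no non-trivial element of `U`. -/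
theorem fpf_prime {y : G} (hy : y ∈ Subgroup.normalizer (S.U : Set G)) {p : ℕ} (hp : p.Prime) (hp2 : p ≠ 2)
    (hp3 : p ≠ 3) (ho : orderOf y = p) {u : G} (hu : u ∈ S.U) (hc : y * u = u * y) : u = 1 := by
  haveI := Fact.mk hp
  set N := Subgroup.normalizer (S.U : Set G)
  haveI := S.H_cyclic
  obtain ⟨P₀⟩ : Nonempty (Sylow p S.H) := inferInstance
  have hHN : S.H ≤ N := S.H_le
  have hidx : ¬ p ∣ ((P₀ : Subgroup S.H).map (Subgroup.inclusion hHN)).index := by
    intro hd
    rw [Subgroup.index_map, (MonoidHom.ker_eq_bot_iff _).2 (Subgroup.inclusion_injective hHN), sup_bot_eq] at hd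
    rcases hp.dvd_mul.1 hd with h | h
    · exact P₀.not_dvd_index h
    · have e : (Subgroup.inclusion hHN).range.index = q ^ 3 := by
        have h1 := (Subgroup.inclusion hHN).range.index_mul_card
        rw [Nat.card_congr (MonoidHom.ofInjective (Subgroup.inclusion_injective hHN)).toEquiv.symm, S.H_card,
          S.N_card] at h1
        exact Nat.eq_of_mul_eq_mul_right (by have := S.q_ge; omega) h1
      rw [e, S.cube_eq] at h
      exact hp3 (Nat.prime_eq_prime_of_dvd_pow hp Nat.prime_three h)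
  let P := (P₀.isPGroup'.map (Subgroup.inclusion hHN)).toSylow hidx
  obtain ⟨Q, hQ⟩ := (IsPGroup.of_card (n := 1) (by rw [Nat.card_zpowers, Subgroup.orderOf_mk, ho, pow_one]) :
    IsPGroup p (Subgroup.zpowers (⟨y, hy⟩ : N))).exists_le_sylow
  obtain ⟨g, hg⟩ := MulAction.exists_smul_eq N Q P
  have hmem : g * ⟨y, hy⟩ * g⁻¹ ∈ (P : Subgroup N) := by
    rw [← hg, Sylow.coe_subgroup_smul]
    exact Subgroup.smul_mem_pointwise_smul _ (MulAut.conj g) (Q : Subgroup N) (hQ (Subgroup.mem_zpowers _))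
  obtain ⟨⟨h, hh⟩, -, e⟩ := hmem
  have e' : h = (g : G) * y * (g : G)⁻¹ := congrArg Subtype.val e
  have hu' : (g : G) * u * (g : G)⁻¹ ∈ S.U := (Subgroup.mem_normalizer_iff.1 g.2 u).1 hu
  have := S.H_fpf _ (e' ▸ hh) (fun h1 => ?_) ?_ _ hu' (conj_mem_cent hc)
  · exact conj_eq_one_iff.1 this
  · rw [conj_eq_one_iff] at h1
    rw [h1, orderOf_one] at ho
    exact hp.one_lt.ne ho
  · rw [orderOf_conj, ho]; exact hp.odd_of_ne_two hp2

/-- The odd elements centralising a non-trivial 3-element are 3-elements. -/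
theorem cent_three {u : G} {k : ℕ} (hu : u ^ 3 ^ k = 1) (hu1 : u ≠ 1) {x : G} (hc : x * u = u * x)
    (hodd : Odd (orderOf x)) : orderOf x ∣ 9 := by
  obtain ⟨j, hj⟩ : ∃ j, orderOf x = 3 ^ j := by
    refine ⟨_, Nat.eq_prime_pow_of_unique_prime_dvd (orderOf_pos x).ne' fun {p} hp hd => ?_⟩
    by_contra hp3
    haveI := Fact.mk hp
    have hp2 : p ≠ 2 := by rintro rfl; rw [Nat.odd_iff] at hodd; omega
    set y := x ^ (orderOf x / p) with hy
    have hyo : orderOf y = p := orderOf_pow_orderOf_div (orderOf_pos x).ne' hd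
    obtain ⟨g, hg⟩ := S.exists_conj_three hu
    have hcy : y * u = u * y := ((show Commute x u from hc).pow_left _).eq
    have h1 : g * u * g⁻¹ ≠ 1 := fun h => hu1 (conj_eq_one_iff.1 h)
    have hc2 := conj_mem_cent (g := g) hcy
    have hN : g * y * g⁻¹ ∈ Subgroup.normalizer (S.U : Set G) :=
      S.U_ti _ _ hg h1 (by rw [hc2, mul_inv_cancel_right]; exact hg)
    exact h1 (S.fpf_prime hN hp hp2 hp3 (by rw [orderOf_conj, hyo]) hg hc2)
  exact orderOf_dvd_of_pow_eq_one (S.pow_nine (k := j) (by rw [← hj, pow_orderOf_eq_one]))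

/-- An element of `U` normalises no other conjugate of `U`. -/
theorem U_regular {u g : G} (hu : u ∈ S.U) (hg : g ∉ Subgroup.normalizer (S.U : Set G))
    (h : g⁻¹ * u * g ∈ Subgroup.normalizer (S.U : Set G)) : u = 1 := by
  by_contra hu1
  have h9 : u ^ 3 ^ 2 = 1 := orderOf_dvd_iff_pow_eq_one.1 (S.orderOf_dvd_nine hu)
  have h1 : g⁻¹ * u * g ∈ S.U := by
    refine S.three_mem_U h (k := 2) ?_
    have := conj_pow (a := g⁻¹) (b := u) (i := 3 ^ 2)
    rw [inv_inv] at this
    rw [this, h9, mul_one, inv_mul_cancel]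
  refine hg (inv_inv g ▸ inv_mem (S.U_ti g⁻¹ u hu hu1 ?_))
  rwa [inv_inv]

theorem card_three : Nat.card {x : G // orderOf x = 3} = (q ^ 3 + 1) * (q ^ 2 - 1) := by
  rw [card_conj_subtype' (fun g a ha ha1 h => S.U_ti g a ha ha1 h) (fun x => orderOf x = 3)
    (fun g x hx => by rw [orderOf_conj]; exact hx)
    (fun x hx => ⟨fun e => by rw [e, orderOf_one] at hx; omega,
      S.exists_conj_three (k := 1) (by rw [pow_one, ← hx, pow_orderOf_eq_one])⟩), S.index_N,
    ← S.U_three]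
  congr 1
  exact Nat.card_congr (Equiv.subtypeEquivRight fun u => by rw [Subgroup.orderOf_coe])

theorem card_nine_dvd : Nat.card {x : G // x ≠ 1 ∧ orderOf x ∣ 9} = (q ^ 3 + 1) * (q ^ 3 - 1) := by
  classical
  rw [card_conj_subtype' (fun g a ha ha1 h => S.U_ti g a ha ha1 h) (fun x => x ≠ 1 ∧ orderOf x ∣ 9)
    (fun g x hx => ⟨fun h => hx.1 (conj_eq_one_iff.1 h), by rw [orderOf_conj]; exact hx.2⟩)
    (fun x hx => ⟨hx.1, S.exists_conj_three (k := 2) (orderOf_dvd_iff_pow_eq_one.1 hx.2)⟩), S.index_N,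
    ← S.U_card]
  congr 1
  haveI := Fintype.ofFinite S.U
  rw [Nat.card_eq_fintype_card (α := S.U), Nat.card_eq_fintype_card, ← Fintype.card_subtype_eq (1 : S.U),
    ← Fintype.card_subtype_compl]
  refine Fintype.card_congr (Equiv.subtypeEquivRight fun u => ?_)
  constructor
  · intro h e; exact h.1 (congrArg Subtype.val e)
  · intro h; exact ⟨fun e => h (Subtype.ext e), S.orderOf_dvd_nine u.2⟩

end Sys

end Cfsg.Agent.ReeLocal
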